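import Groth.Agent.Lib.LocalCoh.Torsion
import Mathlib.Algebra.Homology.QuasiIso

/-!
# Torsion injective resolutions, torsion-ness, dimension shifting, ideals with the same torsion
-/

universe u

open CategoryTheory CategoryTheory.Limits Opposite

namespace Groth.Agent.Lib.LocalCoh

set_option linter.unusedSectionVars false

variable {R : Type u} [CommRing R] (I : Ideal R)

lemma colimExt_map_smul_id (G : ℕᵒᵖᵒᵖ ⥤ (ModuleCat.{u} R)ᵒᵖ) (n : ℕ) (M : ModuleCat.{u} R)
    (r : R) (x : (colimExt G n).obj M) :
    ((colimExt G n).map (r • 𝟙 M)).hom x = r • x := by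
  obtain ⟨k, α, rfl⟩ := colimExt.exists_rep G n M x
  rw [colimExt.map_ι_apply]
  exact (congrArg _ (Abelian.Ext.smul_eq_comp_mk₀ α r).symm).trans
    (LinearMap.map_smul (colimExt.ι G n k M).hom r _)

/-- Local cohomology is `R`-linear on scalars. -/
lemma lc_map_smul_id (i : ℕ) (M : ModuleCat.{u} R) (r : R) (x : (localCohomology I i).obj M) :
    ((localCohomology I i).map (r • 𝟙 M)).hom x = r • x := by
  apply ((lcIso I i).app M).toLinearEquiv.injective
  rw [map_smul, ← colimExt_map_smul_id]
  exact ConcreteCategory.congr_hom ((lcIso I i).hom.naturality (r • 𝟙 M)) x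

/-- Local cohomology modules are power torsion. -/
theorem isPowerTorsion_lc (i : ℕ) (M : ModuleCat.{u} R) :
    LocCoh.IsPowerTorsion I ((localCohomology I i).obj M) := by
  refine isPowerTorsion_of_injective I ((lcIso I i).app M).toLinearEquiv.toLinearMap
    (LinearEquiv.injective _) ?_
  intro x
  obtain ⟨k, α, rfl⟩ := colimExt.exists_rep _ i M x
  refine ⟨k.unop.unop, fun a ha => ?_⟩
  refine (LinearMap.map_smul (colimExt.ι (quotSys I) i k M).hom a _).symm.trans ?_
  have h0 : a • 𝟙 ((quotSys I).obj k).unop = 0 := by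
    ext x
    obtain ⟨r, rfl⟩ := span_gen I k x
    show a • r • gen I k = 0
    rw [smul_comm, smul_gen I k a ha, smul_zero]
  have : a • α = 0 := by
    have e : a • α = (Abelian.Ext.mk₀ (a • 𝟙 ((quotSys I).obj k).unop)).comp α (zero_add i) := by
      rw [Abelian.Ext.mk₀_smul, Abelian.Ext.smul_comp, Abelian.Ext.mk₀_id_comp]
    rw [e, h0, Abelian.Ext.mk₀_zero, Abelian.Ext.zero_comp]
  exact (congrArg _ this).trans (map_zero _)

/-- Local cohomology vanishes when an element of the ideal acts bijectively. -/
theorem lc_subsingleton_of_smul_bijective (i : ℕ) (M : ModuleCat.{u} R) {b : R} (hb : b ∈ I)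
    (hM : Function.Bijective fun m : M => b • m) : Subsingleton ((localCohomology I i).obj M) := by
  have : IsIso (b • 𝟙 M) := (ConcreteCategory.isIso_iff_bijective _).2 hM
  have hinj : Function.Injective fun x : (localCohomology I i).obj M => b • x := by
    intro x y h
    simp only [← lc_map_smul_id] at h
    exact (asIso ((localCohomology I i).map (b • 𝟙 M))).toLinearEquiv.injective h
  refine subsingleton_of_forall_eq 0 fun x => ?_
  obtain ⟨n, hn⟩ := isPowerTorsion_lc I i M x
  have key : ∀ m, b ^ m • x = 0 → x = 0 := by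
    intro m
    induction m with
    | zero => simp
    | succ m ih =>
      intro h
      rw [pow_succ', mul_smul] at h
      exact ih (hinj (h.trans (smul_zero b).symm))
  exact key n (hn _ (Ideal.pow_mem_pow hb n))

/-- An injective resolution from an exact complex of injective objects. -/
noncomputable def injectiveResolutionMk {C : Type*} [Category C] [Abelian C] {M : C}
    (K : CochainComplex C ℕ) (hK : ∀ n, CategoryTheory.Injective (K.X n)) (ι : M ⟶ K.X 0)
    (w : ι ≫ K.d 0 1 = 0) (hι : Mono ι) (h₀ : (ShortComplex.mk ι (K.d 0 1) w).Exact)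
    (h₁ : ∀ n, K.ExactAt (n + 1)) : InjectiveResolution M where
  cocomplex := K
  injective := hK
  ι := (CochainComplex.fromSingle₀Equiv K M).symm ⟨ι, w⟩
  quasiIso := ⟨fun n => by
    cases n with
    | zero =>
      rw [CochainComplex.quasiIsoAt₀_iff, ShortComplex.quasiIso_iff_of_zeros]
      · have e : ((CochainComplex.fromSingle₀Equiv K M).symm ⟨ι, w⟩).f 0 = ι :=
          CochainComplex.fromSingle₀Equiv_symm_apply_f_zero ι w
        have key : ∀ (f : M ⟶ K.X 0) (w' : f ≫ K.d 0 1 = 0), f = ι →
            (ShortComplex.mk f (K.d 0 1) w').Exact ∧ Mono f := by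
          rintro f w' rfl
          exact ⟨h₀, hι⟩
        exact key _ _ e
      · rfl
      · rfl
      · exact K.shape _ _ (by simp)
    | succ n =>
      rw [quasiIsoAt_iff_exactAt _ _ (CochainComplex.exactAt_succ_single_obj M n)]
      exact h₁ n⟩

variable [IsNoetherianRing R]

/-- The torsion part of an injective resolution of a power torsion module. -/
noncomputable def torsionResolution (M : ModuleCat.{u} R) (hM : LocCoh.IsPowerTorsion I M) :
    InjectiveResolution M :=
  let J := injectiveResolution M
  injectiveResolutionMk (((DRing.gammaI I).mapHomologicalComplex _).obj J.cocomplex)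
    (fun n => injective_gammaI_obj I (J.cocomplex.X n))
    (ModuleCat.ofHom (LinearMap.codRestrict _ (J.ι.f 0).hom
      fun m => DRing.map_mem_torsionSub I _ (hM m)))
    (by
      ext m
      apply Subtype.ext
      exact ConcreteCategory.congr_hom J.ι_f_zero_comp_complex_d m)
    ((ModuleCat.mono_iff_injective _).2 fun a b h =>
      (ModuleCat.mono_iff_injective _).1 (inferInstance : Mono (J.ι.f 0)) (congrArg Subtype.val h))
    ((ShortComplex.moduleCat_exact_iff _).2 fun x hx => by
      obtain ⟨m, hm⟩ := (ShortComplex.moduleCat_exact_iff _).1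
        (ShortComplex.exact_of_f_is_kernel (ShortComplex.mk _ _ J.ι_f_zero_comp_complex_d)
          J.isLimitKernelFork) x.1 (congrArg Subtype.val hx)
      exact ⟨m, Subtype.ext hm⟩)
    (fun n => by
      rw [HomologicalComplex.exactAt_iff_isZero_homology]
      refine IsZero.of_iso ?_ ((J.isoRightDerivedObj (DRing.gammaI I) (n + 1)).symm ≪≫
        (rightDerivedGammaIso I (n + 1)).app M)
      have := lc_subsingleton_of_isPowerTorsion I n M hM
      exact ModuleCat.isZero_of_subsingleton _)

lemma isPowerTorsion_torsionResolution (M : ModuleCat.{u} R) (hM : LocCoh.IsPowerTorsion I M)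
    (n : ℕ) : LocCoh.IsPowerTorsion I ((torsionResolution I M hM).cocomplex.X n) :=
  isPowerTorsion_gammaI I ((injectiveResolution M).cocomplex.X n)

/-- An injective resolution, as an acyclic resolution for local cohomology. -/
noncomputable abbrev lcAcRes {M : ModuleCat.{u} R} (J : InjectiveResolution M) :
    DeltaSeq.AcRes (localCohomology I) M :=
  DeltaSeq.acResOfInjective (fun E _ m => lc_subsingleton_of_injective I E m) J

/-- On modules torsion for `b`, adding `b` to the ideal does not change local cohomology. -/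
theorem exists_lc_linearEquiv_sup_of_isPowerTorsion {K : Ideal R} (M : ModuleCat.{u} R)
    (hM : LocCoh.IsPowerTorsion K M) (i : ℕ) :
    Nonempty ((localCohomology (I ⊔ K) i).obj M ≅ (localCohomology I i).obj M) := by
  let J := torsionResolution K M hM
  let α : DRing.gammaI (I ⊔ K) ⟶ DRing.gammaI I :=
    { app := fun N => ModuleCat.ofHom (Submodule.inclusion fun x hx => by
        obtain ⟨n, hn⟩ := hx
        exact ⟨n, fun a ha => hn a (Ideal.pow_right_mono le_sup_left n ha)⟩)
      naturality := fun _ _ _ => rfl }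
  let β : localCohomology (I ⊔ K) 0 ⟶ localCohomology I 0 :=
    (lcZeroIso (I ⊔ K)).hom ≫ α ≫ (lcZeroIso I).inv
  have : ∀ n, IsIso (β.app (J.cocomplex.X n)) := fun n => by
    have : IsIso (α.app (J.cocomplex.X n)) := by
      refine (ConcreteCategory.isIso_iff_bijective _).2
        ⟨?_, ?_⟩
      · intro a b h
        exact Subtype.ext (congrArg (fun t => t.1) h :)
      · rintro ⟨x, m, hm⟩
        obtain ⟨l, hl⟩ := isPowerTorsion_torsionResolution K M hM n x
        refine ⟨⟨x, m + l, fun a ha => ?_⟩, rfl⟩
        have hle : (I ⊔ K) ^ (m + l) ≤ I ^ m ⊔ K ^ l := Ideal.sup_pow_add_le_pow_sup_pow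
        obtain ⟨c, hc, d, hd, rfl⟩ := Submodule.mem_sup.1 (hle ha)
        rw [add_smul, hm c hc, hl d hd, add_zero]
    dsimp only [β, NatTrans.comp_app]
    infer_instance
  let Φ := (NatTrans.mapHomologicalComplex β (ComplexShape.up ℕ)).app J.cocomplex
  have hΦ : ∀ n, IsIso (Φ.f n) := this
  have hΦ' : IsIso Φ := HomologicalComplex.Hom.isIso_of_components Φ
  exact ⟨((lcAcRes (I ⊔ K) J).homologyIso (lcDeltaSeq _) i).symm ≪≫
    (HomologicalComplex.homologyFunctor _ _ i).mapIso (@asIso _ _ _ _ Φ hΦ') ≪≫
    (lcAcRes I J).homologyIso (lcDeltaSeq _) i⟩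

end Groth.Agent.Lib.LocalCoh
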