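import Groth.Agent.Lib.LocalCoh.Change

/-!
# Unbundled forms
-/

universe u

open CategoryTheory CategoryTheory.Limits Opposite

namespace Groth.Agent.Lib.LocalCoh

variable {R : Type u} [CommRing R]

/-- Local cohomology on isomorphic modules. -/
noncomputable def lcLinearEquiv (I : Ideal R) (i : ℕ) {M N : Type u} [AddCommGroup M] [Module R M]
    [AddCommGroup N] [Module R N] (e : M ≃ₗ[R] N) : LocCoh.H I i M ≃ₗ[R] LocCoh.H I i N :=
  ((localCohomology I i).mapIso e.toModuleIso).toLinearEquiv

/-- A module over an algebra with a compatible base structure, as a restriction of scalars. -/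
noncomputable def resObjIso (R' : Type u) [CommRing R'] [Algebra R R'] (E : Type u) [AddCommGroup E]
    [Module R' E] [Module R E] [IsScalarTower R R' E] :
    resObj R (ModuleCat.of R' E) ≅ ModuleCat.of R E :=
  letI := (resObj R (ModuleCat.of R' E)).isModule
  have h : ∀ (r : R) (x : E), algebraMap R R' r • x = r • x := fun r x => algebraMap_smul R' r x
  let e : (resObj R (ModuleCat.of R' E)) ≃ₗ[R] (ModuleCat.of R E) :=
    { toFun := fun x => x
      invFun := fun x => x
      map_add' := fun _ _ => rfl
      map_smul' := h
      left_inv := fun _ => rfl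
      right_inv := fun _ => rfl }
  e.toModuleIso

end Groth.Agent.Lib.LocalCoh
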