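import Groth.Agent.Lib.LocalCoh.ColimExt
import Groth.Prelude.Def_W4bk5brsh16IT
import Groth.Prelude.Def_Wider
import Mathlib.Algebra.Homology.LocalCohomology

/-!
# Local cohomology, ideal transforms and `colimExt`

`localCohomology I i ≅ colimExt (quotSys I) i`, `idealTransform I ≅ colimExt (powSys I) 0`,
`colimExt (quotSys I) 0 ≅ gammaI I`, the connected sequence and right derived functors.
-/

universe u w

open CategoryTheory CategoryTheory.Limits Opposite

namespace Groth.Agent.Lib.LocalCoh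

/-- Transport of connected sequence structures along isomorphisms. -/
noncomputable def DeltaSeq.ofIso {C : Type*} [Category C] [Abelian C] {R : Type w} [Ring R]
    {T T' : ℕ → (C ⥤ ModuleCat.{u} R)} (h : DeltaSeq T) (e : ∀ n, T n ≅ T' n) : DeltaSeq T' where
  δ hS n := (e n).inv.app _ ≫ h.δ hS n ≫ (e (n + 1)).hom.app _
  mono₀ {S} hS := by
    rw [← NatIso.naturality_1 (e 0) S.f]
    simp only [ModuleCat.hom_comp, LinearMap.coe_comp]
    exact ((((e 0).app _).toLinearEquiv.injective).comp (h.mono₀ hS)).comp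
      ((e 0).app _).symm.toLinearEquiv.injective
  exact₂ {S} hS n :=
    Function.Exact.of_ladder_linearEquiv_of_exact
      (e₁ := ((e n).app S.X₁).toLinearEquiv) (e₂ := ((e n).app S.X₂).toLinearEquiv)
      (e₃ := ((e n).app S.X₃).toLinearEquiv)
      (congrArg ModuleCat.Hom.hom ((e n).hom.naturality S.f)).symm
      (congrArg ModuleCat.Hom.hom ((e n).hom.naturality S.g)).symm (h.exact₂ hS n)
  exact₃ {S} hS n :=
    Function.Exact.of_ladder_linearEquiv_of_exact
      (e₁ := ((e n).app S.X₂).toLinearEquiv) (e₂ := ((e n).app S.X₃).toLinearEquiv)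
      (e₃ := ((e (n + 1)).app S.X₁).toLinearEquiv)
      (congrArg ModuleCat.Hom.hom ((e n).hom.naturality S.g)).symm
      (congrArg ModuleCat.Hom.hom
        (show (e n).hom.app _ ≫ (e n).inv.app _ ≫ h.δ hS n ≫ (e (n + 1)).hom.app _ =
          h.δ hS n ≫ (e (n + 1)).hom.app _ from Iso.hom_inv_id_app_assoc _ _ _))
      (h.exact₃ hS n)
  exact₁ {S} hS n :=
    Function.Exact.of_ladder_linearEquiv_of_exact
      (e₁ := ((e n).app S.X₃).toLinearEquiv) (e₂ := ((e (n + 1)).app S.X₁).toLinearEquiv)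
      (e₃ := ((e (n + 1)).app S.X₂).toLinearEquiv)
      (congrArg ModuleCat.Hom.hom
        (show (e n).hom.app _ ≫ (e n).inv.app _ ≫ h.δ hS n ≫ (e (n + 1)).hom.app _ =
          h.δ hS n ≫ (e (n + 1)).hom.app _ from Iso.hom_inv_id_app_assoc _ _ _))
      (congrArg ModuleCat.Hom.hom ((e (n + 1)).hom.naturality S.f)).symm
      (h.exact₁ hS n)
  naturality {S S'} hS hS' φ n := by
    simp only [Category.assoc, NatTrans.naturality_assoc, ← NatTrans.naturality]
    rw [← Category.assoc ((T n).map φ.τ₃), h.naturality hS hS' φ n, Category.assoc]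

variable {R : Type u} [CommRing R]

instance forget_preservesFilteredColimits_zero :
    PreservesFilteredColimitsOfSize.{0, 0} (forget (ModuleCat.{u} R)) :=
  preservesFilteredColimitsOfSize_shrink.{0, u, 0, u} _

instance forget_preservesColimits_natOpOp :
    PreservesColimitsOfShape ℕᵒᵖᵒᵖ (forget (ModuleCat.{u} R)) :=
  PreservesFilteredColimitsOfSize.preserves_filtered_colimits ℕᵒᵖᵒᵖ

/-- The system `n ↦ R ⧸ I ^ n`. -/
noncomputable abbrev quotSys (I : Ideal R) : ℕᵒᵖᵒᵖ ⥤ (ModuleCat.{u} R)ᵒᵖ :=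
  (localCohomology.ringModIdeals (localCohomology.idealPowersDiagram I)).op

/-- The system `n ↦ I ^ n`. -/
noncomputable abbrev powSys (I : Ideal R) : ℕᵒᵖᵒᵖ ⥤ (ModuleCat.{u} R)ᵒᵖ :=
  (localCohomology.idealPowersDiagram I ⋙ LocCoh.idealModFunctor).op

/-- `localCohomology` is a `colimExt`. -/
noncomputable def lcIso (I : Ideal R) (i : ℕ) : localCohomology I i ≅ colimExt (quotSys I) i :=
  HasColimit.isoOfNatIso (Functor.isoWhiskerLeft (quotSys I) (extIso R i))

/-- `extTransform` is a `colimExt`. -/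
noncomputable def extTransformIso (I : Ideal R) (i : ℕ) :
    LocCoh.extTransform I i ≅ colimExt (powSys I) i :=
  HasColimit.isoOfNatIso (Functor.isoWhiskerLeft (powSys I) (extIso R i))

/-- `Ext⁰ = Hom`, on objects. -/
noncomputable def e₀ {X Y : ModuleCat.{u} R} : Abelian.Ext.{u} X Y 0 ≃ₗ[R] (X ⟶ Y) :=
  Abelian.Ext.linearEquiv₀

@[simp]
lemma e₀_mk₀ {X Y : ModuleCat.{u} R} (φ : X ⟶ Y) : e₀ (Abelian.Ext.mk₀ φ) = φ := by
  rw [e₀, ← Abelian.Ext.linearEquiv₀_symm_apply (R := R), LinearEquiv.apply_symm_apply]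

lemma exists_mk₀ {X Y : ModuleCat.{u} R} (α : Abelian.Ext.{u} X Y 0) :
    ∃ φ, Abelian.Ext.mk₀ φ = α :=
  ⟨_, Abelian.Ext.mk₀_linearEquiv₀_apply (R := R) α⟩

lemma e₀_comp_mk₀ {X Y Y' : ModuleCat.{u} R} (α : Abelian.Ext.{u} X Y 0) (g : Y ⟶ Y') :
    e₀ (α.comp (Abelian.Ext.mk₀ g) (add_zero 0)) = e₀ α ≫ g := by
  obtain ⟨φ, rfl⟩ := exists_mk₀ α
  simp

lemma e₀_mk₀_comp {X X' Y : ModuleCat.{u} R} (f : X' ⟶ X) (α : Abelian.Ext.{u} X Y 0) :
    e₀ ((Abelian.Ext.mk₀ f).comp α (zero_add 0)) = f ≫ e₀ α := by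
  obtain ⟨φ, rfl⟩ := exists_mk₀ α
  simp

variable (R) in
/-- `Ext⁰ = Hom`. -/
noncomputable def extEZeroIso : extE R 0 ≅ linearCoyoneda R (ModuleCat.{u} R) :=
  NatIso.ofComponents
    (fun X => NatIso.ofComponents (fun Y => (e₀ (X := X.unop) (Y := Y)).toModuleIso)
      (fun {Y Y'} g => by ext α : 2; exact e₀_comp_mk₀ α g))
    (fun {X X'} f => by ext Y α : 4; exact e₀_mk₀_comp f.unop α)

/-- The ideal transform is a `colimExt`. -/
noncomputable def transformIso (I : Ideal R) :
    LocCoh.idealTransform I ≅ colimExt (powSys I) 0 :=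
  HasColimit.isoOfNatIso (Functor.isoWhiskerLeft (powSys I) (extEZeroIso R).symm)

section Gamma

variable (I : Ideal R)

/-- The class of `1` in `R ⧸ I ^ n`. -/
noncomputable def gen (k : ℕᵒᵖᵒᵖ) : ((quotSys I).obj k).unop :=
  Submodule.Quotient.mk (1 : R)

lemma smul_gen (k : ℕᵒᵖᵒᵖ) (a : R) (ha : a ∈ I ^ k.unop.unop) : a • gen I k = 0 := by
  show a • (Submodule.Quotient.mk (1 : R) : R ⧸ (I ^ k.unop.unop : Ideal R)) = 0
  rw [← Submodule.Quotient.mk_smul, Submodule.Quotient.mk_eq_zero]
  simpa using ha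

lemma span_gen (k : ℕᵒᵖᵒᵖ) (x : ((quotSys I).obj k).unop) : ∃ r : R, r • gen I k = x := by
  obtain ⟨r, rfl⟩ := Submodule.Quotient.mk_surjective _ x
  exact ⟨r, (Submodule.Quotient.mk_smul _ r (1 : R)).symm.trans (by rw [smul_eq_mul, mul_one])⟩

lemma map_gen {k k' : ℕᵒᵖᵒᵖ} (g : k ⟶ k') : ((quotSys I).map g).unop.hom (gen I k') = gen I k :=
  rfl

/-- Evaluation at `1` of a class in `Ext⁰(R ⧸ I ^ n, M)`. -/
noncomputable def evalOne (k : ℕᵒᵖᵒᵖ) (M : ModuleCat.{u} R) :
    ((extE R 0).obj ((quotSys I).obj k)).obj M ⟶ (DRing.gammaI I).obj M :=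
  ModuleCat.ofHom
    (LinearMap.codRestrict (DRing.torsionSub I M)
      ((LinearMap.applyₗ (gen I k)) ∘ₗ (ModuleCat.homLinearEquiv (S := R)).toLinearMap ∘ₗ
        (e₀ (X := ((quotSys I).obj k).unop) (Y := M)).toLinearMap)
      (fun α => ⟨k.unop.unop, fun a ha => by
        show a • (e₀ α).hom (gen I k) = 0
        rw [← map_smul, smul_gen I k a ha, map_zero]⟩))

lemma evalOne_apply (k : ℕᵒᵖᵒᵖ) (M : ModuleCat.{u} R)
    (α : Abelian.Ext.{u} ((quotSys I).obj k).unop M 0) :
    ((evalOne I k M).hom α).1 = (e₀ α).hom (gen I k) := rfl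

/-- The map to the torsion functor. -/
noncomputable def toGamma : colimExt (quotSys I) 0 ⟶ DRing.gammaI I :=
  colimit.desc _
    { pt := DRing.gammaI I
      ι :=
        { app := fun k =>
            { app := evalOne I k
              naturality := fun M M' f => by
                ext α
                apply Subtype.ext
                exact congrArg (fun t => t.hom (gen I k))
                  (e₀_comp_mk₀ (X := ((quotSys I).obj k).unop) α f) }
          naturality := fun k k' g => by
            ext M α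
            apply Subtype.ext
            exact (congrArg (fun t => t.hom (gen I k'))
              (e₀_mk₀_comp ((quotSys I).map g).unop α)).trans
              (congrArg (e₀ α).hom (map_gen I g)) } }

lemma toGamma_ι_apply (k : ℕᵒᵖᵒᵖ) (M : ModuleCat.{u} R)
    (α : Abelian.Ext.{u} ((quotSys I).obj k).unop M 0) :
    ((toGamma I).app M).hom ((colimExt.ι (quotSys I) 0 k M).hom α) = (evalOne I k M).hom α := by
  have h : colimit.ι (quotSys I ⋙ extE R 0) k ≫ toGamma I = _ := colimit.ι_desc _ k
  exact ConcreteCategory.congr_hom (congrArg (fun t => NatTrans.app t M) h) α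

lemma toGamma_bijective (M : ModuleCat.{u} R) :
    Function.Bijective ((toGamma I).app M).hom := by
  constructor
  · rw [injective_iff_map_eq_zero]
    intro x hx
    obtain ⟨k, α, rfl⟩ := colimExt.exists_rep _ 0 M x
    rw [toGamma_ι_apply] at hx
    have h0 : e₀ α = 0 := by
      ext x
      obtain ⟨r, rfl⟩ := span_gen I k x
      have hx' : (e₀ α).hom (gen I k) = 0 := congrArg Subtype.val hx
      rw [map_smul, hx', smul_zero]
      rfl
    rw [(LinearEquiv.map_eq_zero_iff _).1 h0]
    exact map_zero _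
  · rintro ⟨m, n, hn⟩
    let φ : ((quotSys I).obj (op (op n))).unop ⟶ M :=
      ModuleCat.ofHom (Submodule.liftQ (I ^ n) (LinearMap.toSpanSingleton R M m) (fun a ha => hn a ha))
    refine ⟨(colimExt.ι (quotSys I) 0 (op (op n)) M).hom (Abelian.Ext.mk₀ φ), ?_⟩
    rw [toGamma_ι_apply]
    apply Subtype.ext
    rw [evalOne_apply, e₀_mk₀]
    exact one_smul R m

/-- Degree zero local cohomology is the torsion functor. -/
noncomputable def gammaIso : colimExt (quotSys I) 0 ≅ DRing.gammaI I :=
  have : ∀ M, IsIso ((toGamma I).app M) := fun M =>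
    (ConcreteCategory.isIso_iff_bijective _).2 (toGamma_bijective I M)
  have := NatIso.isIso_of_isIso_app (toGamma I)
  asIso (toGamma I)

instance localCohomology_additive (i : ℕ) : (localCohomology I i).Additive :=
  Functor.additive_of_iso (lcIso I i).symm

/-- Degree zero local cohomology is the torsion functor. -/
noncomputable def lcZeroIso : localCohomology I 0 ≅ DRing.gammaI I := lcIso I 0 ≪≫ gammaIso I

/-- Local cohomology is an exact connected sequence. -/
noncomputable def lcDeltaSeq : DeltaSeq (localCohomology I) :=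
  (colimExt.deltaSeq (quotSys I)).ofIso fun n => (lcIso I n).symm

lemma lc_subsingleton_of_injective (E : ModuleCat.{u} R) [Injective E] (n : ℕ) :
    Subsingleton ((localCohomology I (n + 1)).obj E) :=
  have := colimExt.subsingleton_of_injective (quotSys I) E n
  ((lcIso I (n + 1)).app E).toLinearEquiv.toEquiv.subsingleton

/-- Isomorphic additive functors have isomorphic right derived functors. -/
noncomputable def rightDerivedMapIso {F F' : ModuleCat.{u} R ⥤ ModuleCat.{u} R} [F.Additive]
    [F'.Additive] (e : F ≅ F') (n : ℕ) : F.rightDerived n ≅ F'.rightDerived n where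
  hom := NatTrans.rightDerived e.hom n
  inv := NatTrans.rightDerived e.inv n
  hom_inv_id := by rw [← NatTrans.rightDerived_comp, e.hom_inv_id, NatTrans.rightDerived_id]
  inv_hom_id := by rw [← NatTrans.rightDerived_comp, e.inv_hom_id, NatTrans.rightDerived_id]

/-- Local cohomology is the sequence of right derived functors of the torsion functor. -/
noncomputable def rightDerivedGammaIso (i : ℕ) :
    (DRing.gammaI I).rightDerived i ≅ localCohomology I i :=
  rightDerivedMapIso (lcZeroIso I).symm i ≪≫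
    (lcDeltaSeq I).rightDerivedIso (fun E _ m => lc_subsingleton_of_injective I E m) i

end Gamma

end Groth.Agent.Lib.LocalCoh
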