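import Groth.Agent.Lib.LocalCoh.Resolution
import Mathlib.Algebra.Category.ModuleCat.Projective
import Mathlib.RingTheory.Ideal.Span

/-!
# An acyclicity criterion: modules decomposing into `b`-torsion and `b`-invertible parts

Applications: injective modules over an algebra, and base changes of injective modules.
-/

universe u

open CategoryTheory CategoryTheory.Limits Opposite

namespace Groth.Agent.Lib.LocalCoh

variable {R : Type u} [CommRing R]

/-- Higher local cohomology at the zero ideal vanishes. -/
theorem lc_subsingleton_bot (i : ℕ) (M : ModuleCat.{u} R) :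
    Subsingleton ((localCohomology (⊥ : Ideal R) (i + 1)).obj M) := by
  have : Subsingleton ((colimExt (quotSys (⊥ : Ideal R)) (i + 1)).obj M) := by
    refine subsingleton_of_forall_eq 0 fun x => ?_
    obtain ⟨k, α, rfl⟩ := colimExt.exists_rep _ _ _ x
    rw [colimExt.ι_eq_zero_iff]
    refine ⟨op (op (k.unop.unop + 1)), (homOfLE (Nat.le_succ _)).op.op, ?_⟩
    have hb : ((⊥ : Ideal R) ^ (k.unop.unop + 1)) = ⊥ := by
      rw [pow_succ, Ideal.mul_bot]
    have : Projective ((quotSys (⊥ : Ideal R)).obj (op (op (k.unop.unop + 1)))).unop := by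
      rw [← IsProjective.iff_projective]
      exact Module.Projective.of_equiv
        ((Submodule.quotEquivOfEq _ _ hb).trans (Submodule.quotEquivOfEqBot ⊥ rfl)).symm
    exact Abelian.Ext.eq_zero_of_projective _
  exact ((lcIso (⊥ : Ideal R) (i + 1)).app M).toLinearEquiv.toEquiv.subsingleton

variable [IsNoetherianRing R]

/-- If every module in the class `P` is an extension of a module on which `b` acts bijectively by a
`b`-power-torsion module in `P`, for all `b ∈ S`, then `P` consists of acyclic modules for every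
ideal generated by a finite subset of `S`. -/
theorem lc_subsingleton_of_decomposition (P : ModuleCat.{u} R → Prop) (S : Set R)
    (h : ∀ b ∈ S, ∀ M, P M → ∃ (T : ShortComplex (ModuleCat.{u} R)), T.ShortExact ∧ T.X₂ = M ∧
      P T.X₁ ∧ LocCoh.IsPowerTorsion (Ideal.span {b}) T.X₁ ∧
      Function.Bijective fun m : T.X₃ => b • m)
    (s : Finset R) (hs : (s : Set R) ⊆ S) (i : ℕ) :
    ∀ M, P M → Subsingleton ((localCohomology (Ideal.span (s : Set R)) (i + 1)).obj M) := by
  classical
  induction s using Finset.induction with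
  | empty =>
    intro M _
    rw [Finset.coe_empty, Ideal.span_empty]
    exact lc_subsingleton_bot i M
  | insert b s _ ih =>
    intro M hM
    rw [Finset.coe_insert, Set.insert_subset_iff] at hs
    obtain ⟨T, hT, rfl, hP, htors, hbij⟩ := h b hs.1 M hM
    rw [Finset.coe_insert, Ideal.span_insert, sup_comm]
    obtain ⟨e⟩ := exists_lc_linearEquiv_sup_of_isPowerTorsion (Ideal.span (s : Set R)) T.X₁ htors (i + 1)
    have := ih hs.2 _ hP
    have h₁ : Subsingleton
        ((localCohomology (Ideal.span (s : Set R) ⊔ Ideal.span {b}) (i + 1)).obj T.X₁) :=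
      e.toLinearEquiv.toEquiv.subsingleton
    have h₃ := lc_subsingleton_of_smul_bijective (Ideal.span (s : Set R) ⊔ Ideal.span {b}) (i + 1)
      T.X₃ (Ideal.mem_sup_right (Ideal.mem_span_singleton_self b)) hbij
    refine subsingleton_of_forall_eq 0 fun x => ?_
    obtain ⟨y, rfl⟩ := ((lcDeltaSeq _).exact₂ hT (i + 1) x).1 (Subsingleton.elim _ _)
    rw [Subsingleton.elim y 0, map_zero]

omit [IsNoetherianRing R] in
/-- Dividing by `b` modulo power torsion in an injective module. -/
lemma exists_pow_mul_eq {A : Type u} [CommRing A] [IsNoetherianRing A] (E : Type u) [AddCommGroup E]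
    [Module A E] [hE : Module.Injective A E] (b : A) (x : E) :
    ∃ (k : ℕ) (y : E), b ^ k • (b • y - x) = 0 := by
  let N : ℕ →o Ideal A :=
    ⟨fun k => LinearMap.ker (LinearMap.mulLeft A (b ^ k)), fun i j hij r hr => by
      simp only [LinearMap.mem_ker, LinearMap.mulLeft_apply] at hr ⊢
      rw [← Nat.add_sub_cancel' hij, pow_add, mul_comm (b ^ i), mul_assoc, hr, mul_zero]⟩
  obtain ⟨k, hk⟩ := monotone_stabilizes_iff_noetherian.2 inferInstance N
  let f : A →ₗ[A] A := LinearMap.mulLeft A (b ^ (k + 1))
  let g : A →ₗ[A] E := LinearMap.toSpanSingleton A E (b ^ k • x)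
  have hfg : LinearMap.ker f ≤ LinearMap.ker g := fun r hr => by
    have : r ∈ N k := by rw [hk (k + 1) (Nat.le_succ k)]; exact hr
    replace this : b ^ k * r = 0 := this
    simp only [g, LinearMap.mem_ker, LinearMap.toSpanSingleton_apply, smul_smul]
    rw [mul_comm, this, zero_smul]
  obtain ⟨ψ, hψ⟩ := hE.out ((LinearMap.ker f).liftQ f le_rfl)
    (by rw [← LinearMap.ker_eq_bot]; exact Submodule.ker_liftQ_eq_bot _ _ _ le_rfl)
    ((LinearMap.ker f).liftQ g hfg)
  have h1 : ψ (b ^ (k + 1)) = b ^ k • x := by
    have := hψ (Submodule.Quotient.mk 1)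
    rw [Submodule.liftQ_apply, Submodule.liftQ_apply] at this
    simpa [f, g] using this
  refine ⟨k, ψ 1, ?_⟩
  rw [smul_sub, smul_smul, ← pow_succ, ← map_smul, smul_eq_mul, mul_one, h1, sub_self]

omit [IsNoetherianRing R] in
/-- On an injective module over a Noetherian ring, `b` is bijective modulo power torsion. -/
lemma smul_bijective_quotient_torsionSub {A : Type u} [CommRing A] [IsNoetherianRing A] (E : Type u)
    [AddCommGroup E] [Module A E] [Module.Injective A E] (b : A) :
    Function.Bijective fun q : E ⧸ DRing.torsionSub (Ideal.span {b}) E => b • q := by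
  have mem : ∀ {z : E} {k : ℕ}, b ^ k • z = 0 → z ∈ DRing.torsionSub (Ideal.span {b}) E := by
    intro z k hz
    refine ⟨k, fun a ha => ?_⟩
    rw [Ideal.span_singleton_pow, Ideal.mem_span_singleton'] at ha
    obtain ⟨c, rfl⟩ := ha
    rw [mul_smul, hz, smul_zero]
  constructor
  · intro p q hpq
    obtain ⟨p, rfl⟩ := Submodule.Quotient.mk_surjective _ p
    obtain ⟨q, rfl⟩ := Submodule.Quotient.mk_surjective _ q
    simp only [← Submodule.Quotient.mk_smul] at hpq
    obtain ⟨k, hk⟩ := (Submodule.Quotient.eq _).1 hpq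
    refine (Submodule.Quotient.eq _).2 (mem (k := k + 1) ?_)
    rw [pow_succ, mul_smul, smul_sub b]
    exact hk _ (Ideal.pow_mem_pow (Ideal.mem_span_singleton_self b) k)
  · intro q
    obtain ⟨x, rfl⟩ := Submodule.Quotient.mk_surjective _ q
    obtain ⟨k, y, hy⟩ := exists_pow_mul_eq E b x
    exact ⟨Submodule.Quotient.mk y, (Submodule.Quotient.eq _).2 (mem hy)⟩

/-- A module over an algebra, as a module over the base. -/
noncomputable abbrev resObj (R : Type u) [CommRing R] {R' : Type u} [CommRing R'] [Algebra R R']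
    (E : ModuleCat.{u} R') : ModuleCat.{u} R :=
  (ModuleCat.restrictScalars (algebraMap R R')).obj E

/-- An injective module over a Noetherian algebra is acyclic for local cohomology over the base. -/
theorem lc_subsingleton_restrictScalars (R' : Type u) [CommRing R'] [IsNoetherianRing R']
    [Algebra R R'] (I : Ideal R) (E : ModuleCat.{u} R') [CategoryTheory.Injective E] (i : ℕ) :
    Subsingleton ((localCohomology I (i + 1)).obj (resObj R E)) := by
  obtain ⟨s, rfl⟩ := IsNoetherian.noetherian I
  refine lc_subsingleton_of_decomposition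
    (fun M => ∃ E : ModuleCat.{u} R', CategoryTheory.Injective E ∧ resObj R E = M) Set.univ
    (fun b _ M hM => ?_) s (Set.subset_univ _) i _ ⟨E, inferInstance, rfl⟩
  obtain ⟨E, hE, rfl⟩ := hM
  have := (Module.injective_iff_injective_object R' E).2 hE
  let b' := algebraMap R R' b
  let T : ShortComplex (ModuleCat.{u} R') := ShortComplex.mk
    ((DRing.gammaIι (Ideal.span {b'})).app E)
    (ModuleCat.ofHom (DRing.torsionSub (Ideal.span {b'}) E).mkQ)
    (ModuleCat.hom_ext (LinearMap.ext fun x => (Submodule.Quotient.mk_eq_zero _).2 x.2))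
  have hT : T.ShortExact :=
    { exact := (ShortComplex.ShortExact.moduleCat_exact_iff_function_exact _).2
        (LinearMap.exact_subtype_mkQ _)
      mono_f := (ModuleCat.mono_iff_injective _).2 Subtype.val_injective
      epi_g := (ModuleCat.epi_iff_surjective _).2 (Submodule.mkQ_surjective _) }
  refine ⟨T.map (ModuleCat.restrictScalars (algebraMap R R')), hT.map_of_exact _, rfl,
    ⟨T.X₁, injective_gammaI_obj _ E, rfl⟩, fun m => ?_,
    smul_bijective_quotient_torsionSub E b'⟩
  obtain ⟨n, hn⟩ := isPowerTorsion_gammaI (Ideal.span {b'}) E m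
  refine ⟨n, fun a ha => hn (algebraMap R R' a) ?_⟩
  rw [Ideal.span_singleton_pow, Ideal.mem_span_singleton'] at ha
  obtain ⟨c, rfl⟩ := ha
  rw [map_mul, map_pow]
  exact Ideal.mul_mem_left _ _ (Ideal.pow_mem_pow (Ideal.mem_span_singleton_self b') n)

end Groth.Agent.Lib.LocalCoh
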