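import Groth.Agent.Lib.LocalCoh.FlatAcyclic
import Mathlib.Algebra.Category.ModuleCat.ChangeOfRingsExact
import Mathlib.Algebra.Homology.ShortComplex.ExactFunctor
import Mathlib.LinearAlgebra.TensorProduct.Pi

/-!
# Local cohomology and exact functors between module categories: change of rings, flat base change
-/

universe u

open CategoryTheory CategoryTheory.Limits Opposite TensorProduct

namespace Groth.Agent.Lib.LocalCoh

/-- An exact functor commuting with the torsion functors and sending injectives to acyclic modules
commutes with local cohomology. -/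
theorem nonempty_lcChangeIso {A B : Type u} [CommRing A] [CommRing B]
    (F : ModuleCat.{u} A ⥤ ModuleCat.{u} B) [F.Additive] [PreservesFiniteLimits F]
    [PreservesFiniteColimits F] (I : Ideal A) (I' : Ideal B)
    (ρ : DRing.gammaI I ⋙ F ≅ F ⋙ DRing.gammaI I')
    (hF : ∀ (E : ModuleCat.{u} A) [CategoryTheory.Injective E] (n : ℕ),
      Subsingleton ((localCohomology I' (n + 1)).obj (F.obj E)))
    (M : ModuleCat.{u} A) (i : ℕ) :
    Nonempty (F.obj ((localCohomology I i).obj M) ≅ (localCohomology I' i).obj (F.obj M)) := by
  have : F.PreservesHomology := ⟨fun _ => inferInstance, fun _ => inferInstance⟩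
  let J := injectiveResolution M
  let P : DeltaSeq.AcRes (localCohomology I') (F.obj M) :=
    { J := (F.mapHomologicalComplex _).obj J.cocomplex
      ι := F.map (J.ι.f 0)
      w := (F.map_comp _ _).symm.trans ((congrArg F.map J.ι_f_zero_comp_complex_d).trans (F.map_zero _ _))
      mono_ι := F.map_mono (J.ι.f 0)
      exact_zero := (ShortComplex.exact_of_f_is_kernel
        (ShortComplex.mk _ _ J.ι_f_zero_comp_complex_d) J.isLimitKernelFork).map F
      exact_succ := fun n => (J.exact_succ n).map F
      acyclic := fun n k => hF _ k }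
  let β : localCohomology I 0 ⋙ F ≅ F ⋙ localCohomology I' 0 :=
    Functor.isoWhiskerRight (lcZeroIso I) F ≪≫ ρ ≪≫
      Functor.isoWhiskerLeft F (lcZeroIso I').symm
  let L := ((localCohomology I 0).mapHomologicalComplex (ComplexShape.up ℕ)).obj J.cocomplex
  let Φ := (NatTrans.mapHomologicalComplex β.hom (ComplexShape.up ℕ)).app J.cocomplex
  have hΦ : ∀ n, IsIso (Φ.f n) := fun n => inferInstanceAs (IsIso (β.hom.app (J.cocomplex.X n)))
  have hΦ' : IsIso Φ := HomologicalComplex.Hom.isIso_of_components Φ
  exact ⟨F.mapIso (DeltaSeq.AcRes.homologyIso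
      (DeltaSeq.acResOfInjective (fun E _ m => lc_subsingleton_of_injective I E m) J)
      (lcDeltaSeq I) i).symm ≪≫
    ((L.sc i).mapHomologyIso F).symm ≪≫
    (HomologicalComplex.homologyFunctor _ _ i).mapIso (@asIso _ _ _ _ Φ hΦ') ≪≫
    P.homologyIso (lcDeltaSeq I') i⟩

variable {R : Type u} [CommRing R] (R' : Type u) [CommRing R'] [Algebra R R'] (I : Ideal R)

lemma forall_mem_map_pow_smul_eq_zero {M : Type u} [AddCommGroup M] [Module R' M] (n : ℕ) (m : M)
    (h : ∀ a ∈ I ^ n, algebraMap R R' a • m = 0) :
    ∀ a ∈ I.map (algebraMap R R') ^ n, a • m = 0 := by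
  intro a ha
  rw [← Ideal.map_pow, Ideal.map] at ha
  induction ha using Submodule.span_induction with
  | mem y hy => obtain ⟨x, hx, rfl⟩ := hy; exact h x hx
  | zero => exact zero_smul _ _
  | add y z _ _ hy hz => rw [add_smul, hy, hz, add_zero]
  | smul r y _ hy => rw [smul_eq_mul, mul_smul, hy, smul_zero]

/-- Torsion commutes with restriction of scalars. -/
noncomputable def gammaRestrictIso :
    DRing.gammaI (I.map (algebraMap R R')) ⋙ ModuleCat.restrictScalars (algebraMap R R') ≅
      ModuleCat.restrictScalars (algebraMap R R') ⋙ DRing.gammaI I :=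
  NatIso.ofComponents (fun M => LinearEquiv.toModuleIso
    (m₁ := (ModuleCat.restrictScalars (algebraMap R R') |>.obj
      ((DRing.gammaI (I.map (algebraMap R R'))).obj M)).isModule)
    { toFun := fun x => ⟨x.1, by
        obtain ⟨n, hn⟩ := x.2
        exact ⟨n, fun a ha => hn _ (by rw [← Ideal.map_pow]; exact Ideal.mem_map_of_mem _ ha)⟩⟩
      invFun := fun x => ⟨x.1, by
        obtain ⟨n, hn⟩ := x.2
        exact ⟨n, forall_mem_map_pow_smul_eq_zero R' I n _ hn⟩⟩
      map_add' := fun _ _ => rfl
      map_smul' := fun _ _ => rfl
      left_inv := fun _ => rfl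
      right_inv := fun _ => rfl }) (fun _ => rfl)

/-- Independence of the base ring. -/
theorem nonempty_lcRestrictIso [IsNoetherianRing R] [IsNoetherianRing R'] (M : ModuleCat.{u} R')
    (i : ℕ) : Nonempty
      ((ModuleCat.restrictScalars (algebraMap R R')).obj
          ((localCohomology (I.map (algebraMap R R')) i).obj M) ≅
        (localCohomology I i).obj (resObj R M)) :=
  nonempty_lcChangeIso _ _ _ (gammaRestrictIso R' I)
    (fun E _ n => lc_subsingleton_restrictScalars R' I E n) M i

/-- Base change, as a functor. -/
noncomputable def bcFunctor : ModuleCat.{u} R ⥤ ModuleCat.{u} R' where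
  obj M := bcObj R' M
  map f := ModuleCat.ofHom (f.hom.baseChange R')
  map_id M := ModuleCat.hom_ext LinearMap.baseChange_id
  map_comp f g := ModuleCat.hom_ext (LinearMap.baseChange_comp f.hom g.hom)

instance bcFunctor_additive : (bcFunctor (R := R) R').Additive where
  map_add {_ _ f g} := ModuleCat.hom_ext (LinearMap.baseChange_add f.hom g.hom)

variable [Module.Flat R R']

lemma bcFunctor_map_shortExact (S : ShortComplex (ModuleCat.{u} R)) (hS : S.ShortExact) :
    (S.map (bcFunctor R')).ShortExact where
  exact := (ShortComplex.ShortExact.moduleCat_exact_iff_function_exact _).2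
    (lTensor_exact R' ((ShortComplex.ShortExact.moduleCat_exact_iff_function_exact S).1 hS.exact)
      ((ModuleCat.epi_iff_surjective _).1 hS.epi_g))
  mono_f := (ModuleCat.mono_iff_injective _).2
    (Module.Flat.lTensor_preserves_injective_linearMap _
      ((ModuleCat.mono_iff_injective _).1 hS.mono_f))
  epi_g := (ModuleCat.epi_iff_surjective _).2
    (LinearMap.lTensor_surjective R' ((ModuleCat.epi_iff_surjective _).1 hS.epi_g))

lemma bcFunctor_exact : PreservesFiniteLimits (bcFunctor (R := R) R') ∧
    PreservesFiniteColimits (bcFunctor (R := R) R') :=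
  ((Functor.exact_tfae (bcFunctor (R := R) R')).out 0 3).1 (bcFunctor_map_shortExact R')

variable [IsNoetherianRing R]

/-- Torsion commutes with flat base change. -/
theorem range_baseChange_torsionSub (M : Type u) [AddCommGroup M] [Module R M] :
    LinearMap.range ((DRing.torsionSub I M).subtype.baseChange R') =
      DRing.torsionSub (I.map (algebraMap R R')) (R' ⊗[R] M) := by
  classical
  apply le_antisymm
  · rintro _ ⟨x, rfl⟩
    induction x with
    | zero => simp
    | add y z hy hz => rw [map_add]; exact add_mem hy hz
    | tmul r e =>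
      obtain ⟨n, hn⟩ := e.2
      refine ⟨n, forall_mem_map_pow_smul_eq_zero R' I n _ fun a ha => ?_⟩
      rw [LinearMap.baseChange_tmul, algebraMap_smul, ← TensorProduct.tmul_smul]
      exact (congrArg (r ⊗ₜ[R] ·) (hn a ha)).trans (TensorProduct.tmul_zero _ _)
  · rintro y ⟨n, hn⟩
    obtain ⟨s, hs⟩ := IsNoetherian.noetherian (I ^ n)
    let φ : M →ₗ[R] (s → M) := LinearMap.pi fun a => (a : R) • LinearMap.id
    let K : Submodule R M := LinearMap.ker φ
    have hK : K ≤ DRing.torsionSub I M := fun m hm => ⟨n, fun a ha => by
      rw [← hs] at ha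
      induction ha using Submodule.span_induction with
      | mem z hz => exact congrFun hm ⟨z, hz⟩
      | zero => exact zero_smul _ _
      | add u v _ _ hu hv => rw [add_smul, hu, hv, add_zero]
      | smul r u _ hu => rw [smul_eq_mul, mul_smul, hu, smul_zero]⟩
    have hex := Module.Flat.lTensor_exact R' (LinearMap.exact_subtype_ker_map φ)
    have hy : φ.lTensor R' y = 0 := by
      apply (TensorProduct.piRight R R R' fun _ : s => M).injective
      rw [map_zero]
      funext a
      have ha : (a : R) ∈ I ^ n := by rw [← hs]; exact Submodule.subset_span a.2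
      have key : ∀ z : R' ⊗[R] M,
          TensorProduct.piRight R R R' (fun _ : s => M) (φ.lTensor R' z) a =
            algebraMap R R' (a : R) • z := by
        intro z
        induction z with
        | zero => simp
        | add u v hu hv => simp only [map_add, Pi.add_apply, hu, hv, smul_add]
        | tmul r m => simp [φ, algebraMap_smul, TensorProduct.smul_tmul']
      exact (key y).trans (hn _ (by rw [← Ideal.map_pow]; exact Ideal.mem_map_of_mem _ ha))
    obtain ⟨z, rfl⟩ := (hex y).1 hy
    refine ⟨(Submodule.inclusion hK).baseChange R' z, ?_⟩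
    clear hy hn
    induction z with
    | zero => simp
    | add u v hu hv => simp only [map_add, hu, hv]
    | tmul r m => rfl

omit [IsNoetherianRing R] in
lemma baseChange_torsionSub_injective (M : Type u) [AddCommGroup M] [Module R M] :
    Function.Injective ((DRing.torsionSub I M).subtype.baseChange R') :=
  Module.Flat.lTensor_preserves_injective_linearMap _ (Submodule.injective_subtype _)

/-- Torsion commutes with flat base change. -/
noncomputable def gammaBaseChangeIso :
    DRing.gammaI I ⋙ bcFunctor R' ≅ bcFunctor R' ⋙ DRing.gammaI (I.map (algebraMap R R')) :=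
  NatIso.ofComponents (fun M => ((LinearEquiv.ofInjective _
    (baseChange_torsionSub_injective R' I M)).trans
      (LinearEquiv.ofEq _ _ (range_baseChange_torsionSub R' I M))).toModuleIso)
    (fun {M N} f => by
      refine ModuleCat.hom_ext (LinearMap.ext fun (x : R' ⊗[R] DRing.torsionSub I M) => Subtype.ext ?_)
      let g : DRing.torsionSub I M →ₗ[R] DRing.torsionSub I N :=
        f.hom.restrict fun m hm => DRing.map_mem_torsionSub I f.hom hm
      show (DRing.torsionSub I N).subtype.baseChange R' (g.baseChange R' x) =
        f.hom.baseChange R' ((DRing.torsionSub I M).subtype.baseChange R' x)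
      rw [← LinearMap.comp_apply, ← LinearMap.comp_apply, ← LinearMap.baseChange_comp,
        ← LinearMap.baseChange_comp]
      rfl)

/-- Flat base change for local cohomology. -/
theorem nonempty_lcBaseChangeIso [IsNoetherianRing R'] (M : ModuleCat.{u} R) (i : ℕ) :
    Nonempty (bcObj R' ((localCohomology I i).obj M) ≅
      (localCohomology (I.map (algebraMap R R')) i).obj (bcObj R' M)) := by
  have := (bcFunctor_exact (R := R) R').1
  have := (bcFunctor_exact (R := R) R').2
  exact nonempty_lcChangeIso (bcFunctor R') I _ (gammaBaseChangeIso R' I)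
    (fun E _ n => lc_subsingleton_baseChange R' I E n) M i

end Groth.Agent.Lib.LocalCoh
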