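import Groth.Agent.Lib.LocalCoh.Away
import Groth.Agent.Lib.LocalCoh.Change
import Groth.Agent.Lib.LocalCoh.Transfer
import Mathlib.RingTheory.Localization.AtPrime.Basic

/-!
# Comparison maps and the vanishing of local cohomology at the points
-/

universe u

open CategoryTheory CategoryTheory.Limits

namespace Groth.Agent.Lib.LocalCoh

variable {R : Type u} [CommRing R]

lemma colimMap_comp' {J : Type*} [Category J] {D : Type*} [Category D] {F G H : J ⥤ D}
    [HasColimit F] [HasColimit G] [HasColimit H] (α : F ⟶ G) (β : G ⟶ H) :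
    colimMap α ≫ colimMap β = colimMap (α ≫ β) :=
  colimit.hom_ext fun k => by simp

lemma colimMap_id' {J : Type*} [Category J] {D : Type*} [Category D] {F : J ⥤ D} [HasColimit F] :
    colimMap (𝟙 F) = 𝟙 (colimit F) :=
  colimit.hom_ext fun k => by simp

lemma whiskerRight_op_comp {J : Type*} [Category J] {C : Type*} [Category C] {D : Type*}
    [Category D] {F G H : J ⥤ C} (a : F ⟶ G) (b : G ⟶ H) (E : Cᵒᵖ ⥤ D) :
    Functor.whiskerRight (NatTrans.op b) E ≫ Functor.whiskerRight (NatTrans.op a) E =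
      Functor.whiskerRight (NatTrans.op (a ≫ b)) E := by
  ext k
  simp

/-- The comparison maps compose. -/
lemma HmapOfLE_comp {I J K : Ideal R} (h₁ : I ≤ J) (h₂ : J ≤ K) (i : ℕ) :
    Dual2.HmapOfLE h₂ i ≫ Dual2.HmapOfLE h₁ i = Dual2.HmapOfLE (h₁.trans h₂) i := by
  have e : Dual2.quotMapOfLE h₁ ≫ Dual2.quotMapOfLE h₂ = Dual2.quotMapOfLE (h₁.trans h₂) := by
    ext n x
    obtain ⟨x, rfl⟩ := Submodule.Quotient.mk_surjective _ x
    rfl
  refine (colimMap_comp' _ _).trans (congrArg colimMap ?_)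
  refine (whiskerRight_op_comp (Dual2.quotMapOfLE h₁) (Dual2.quotMapOfLE h₂)
    (Ext R (ModuleCat.{u} R) i)).trans ?_
  rw [e]

lemma HmapOfLE_refl (I : Ideal R) (i : ℕ) :
    Dual2.HmapOfLE (le_refl I) i = 𝟙 (localCohomology I i) := by
  have e : Dual2.quotMapOfLE (le_refl I) = 𝟙 _ := by
    ext n x
    obtain ⟨x, rfl⟩ := Submodule.Quotient.mk_surjective _ x
    rfl
  refine Eq.trans (congrArg colimMap ?_) colimMap_id'
  rw [e]
  exact Functor.whiskerRight_id' _

variable [IsNoetherianRing R]

/-- Local cohomology commutes with localization. -/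
theorem nonempty_lc_localizedModule_equiv (I : Ideal R) (S : Submonoid R) (M : Type u)
    [AddCommGroup M] [Module R M] (i : ℕ) :
    Nonempty (LocalizedModule S (LocCoh.H I i M) ≃ₗ[Localization S]
      LocCoh.H (I.map (algebraMap R (Localization S))) i (LocalizedModule S M)) := by
  have : IsNoetherianRing (Localization S) := IsLocalization.isNoetherianRing S _ inferInstance
  have : Module.Flat R (Localization S) := IsLocalization.flat (Localization S) S
  obtain ⟨e⟩ := nonempty_lcBaseChangeIso (Localization S) I (ModuleCat.of R M) i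
  exact ⟨(LocalizedModule.equivTensorProduct S (LocCoh.H I i M)).trans (e.toLinearEquiv.trans
    (lcLinearEquiv _ i (LocalizedModule.equivTensorProduct S M).symm))⟩

/-- The vanishing of local cohomology at the points of `V(K)` off `V(b)` forces `b`-power torsion. -/
theorem exists_pow_smul_eq_zero_of_local (M : Type u) [AddCommGroup M] [Module R M] (i : ℕ) (b : R)
    (K : Ideal R)
    (h : ∀ p : PrimeSpectrum R, K ≤ p.asIdeal → b ∉ p.asIdeal →
      Subsingleton (LocCoh.H (IsLocalRing.maximalIdeal (Localization.AtPrime p.asIdeal)) i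
        (LocalizedModule p.asIdeal.primeCompl M)))
    (x : LocCoh.H K i M) : ∃ n : ℕ, b ^ n • x = 0 := by
  induction K using WellFoundedGT.induction with
  | _ K ih => ?_
  by_cases hb : b ∈ K
  · obtain ⟨n, hn⟩ := isPowerTorsion_lc K i (ModuleCat.of R M) x
    exact ⟨n, hn _ (Ideal.pow_mem_pow hb n)⟩
  have key : ∀ c ∉ K, ∀ (z : LocCoh.H K i M) (n : ℕ), c ^ n • z = 0 → ∃ m : ℕ, b ^ m • z = 0 := by
    intro c hc z n hn
    obtain ⟨y, rfl⟩ :=
      (exists_HmapOfLE_eq_iff (b := c) (a := K) (ModuleCat.of R M) i z).2 ⟨n, hn⟩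
    have hlt : K < K ⊔ Ideal.span {c} := lt_of_le_not_ge le_sup_left fun hle =>
      hc (hle (Ideal.mem_sup_right (Ideal.mem_span_singleton_self c)))
    obtain ⟨m, hm⟩ := ih _ hlt (fun p hp => h p (le_sup_left.trans hp)) y
    exact ⟨m, by rw [← map_smul, hm, map_zero]⟩
  by_cases hK : K.IsPrime
  · let p : PrimeSpectrum R := ⟨K, hK⟩
    obtain ⟨e⟩ := nonempty_lc_localizedModule_equiv K K.primeCompl M i
    have hsub := h p le_rfl hb
    rw [← Localization.AtPrime.map_eq_maximalIdeal (I := p.asIdeal)] at hsub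
    have h0 : LocalizedModule.mk x (1 : K.primeCompl) = 0 :=
      e.injective (Subsingleton.elim (h := hsub) _ _)
    obtain ⟨s, hs⟩ := LocalizedModule.mk_eq.1 (h0.trans (LocalizedModule.zero_mk 1).symm)
    refine key s.1 s.2 x 1 ?_
    simpa [Submonoid.smul_def] using hs
  · have htop : K ≠ ⊤ := fun e => hb (e ▸ Submodule.mem_top)
    obtain ⟨c, hc, d, hd, hcd⟩ : ∃ c ∉ K, ∃ d ∉ K, c * d ∈ K := by
      by_contra hne
      push Not at hne
      exact hK ⟨htop, fun {c d} hcd => or_iff_not_imp_left.2 fun hc => by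
        by_contra hd
        exact hne c hc d hd hcd⟩
    obtain ⟨n, hn⟩ := isPowerTorsion_lc K i (ModuleCat.of R M) x
    have h1 : c ^ n • d ^ n • x = 0 := by
      rw [smul_smul, ← mul_pow]
      exact hn _ (Ideal.pow_mem_pow hcd n)
    obtain ⟨m, hm⟩ := key c hc _ n h1
    rw [smul_comm] at hm
    obtain ⟨k, hk⟩ := key d hd _ n hm
    exact ⟨k + m, by rw [pow_add, mul_smul, hk]⟩

/-- One step of the comparison: adding an element. -/
theorem HmapOfLE_sup_span_surjective (K : Ideal R) (b : R) (M : ModuleCat.{u} R) (i : ℕ)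
    (h : ∀ x : (localCohomology K i).obj M, ∃ n : ℕ, b ^ n • x = 0) :
    Function.Surjective ((Dual2.HmapOfLE (le_sup_left : K ≤ K ⊔ Ideal.span {b}) i).app M).hom :=
  fun x => (exists_HmapOfLE_eq_iff M i x).2 (h x)

/-- One step of the comparison: adding an element. -/
theorem HmapOfLE_sup_span_injective (K : Ideal R) (b : R) (M : ModuleCat.{u} R) (i : ℕ)
    (h : ∀ j, j + 1 = i → ∀ x : (localCohomology K j).obj M, ∃ n : ℕ, b ^ n • x = 0) :
    Function.Injective ((Dual2.HmapOfLE (le_sup_left : K ≤ K ⊔ Ideal.span {b}) i).app M).hom := by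
  cases i with
  | zero =>
    obtain ⟨δ, h0, -⟩ := exists_lc_awaySeq b K M
    exact h0
  | succ j =>
    rw [← LinearMap.ker_eq_bot]
    obtain ⟨e⟩ := nonempty_ker_HmapOfLE_equiv (b := b) (a := K) M j
    have := lc_subsingleton_of_isPowerTorsion (Ideal.span {b}) 0 ((localCohomology K j).obj M)
      fun x => (mem_torsionSub_span b).2 (h j rfl x)
    exact Submodule.eq_bot_iff _ |>.2 fun x hx =>
      congrArg Subtype.val (e.injective (Subsingleton.elim (e ⟨x, hx⟩) (e 0)))

/-- Comparison maps are bijective when the local cohomology at the points in between vanishes. -/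
theorem HmapOfLE_surjective_injective_of_local (M : Type u) [AddCommGroup M] [Module R M] (i : ℕ)
    (I I' : Ideal R) (hle : I ≤ I') :
    ((∀ p : PrimeSpectrum R, I ≤ p.asIdeal → ¬ I' ≤ p.asIdeal →
      Subsingleton (LocCoh.H (IsLocalRing.maximalIdeal (Localization.AtPrime p.asIdeal)) i
        (LocalizedModule p.asIdeal.primeCompl M))) →
      Function.Surjective ((Dual2.HmapOfLE hle i).app (ModuleCat.of R M)).hom) ∧
    ((∀ p : PrimeSpectrum R, I ≤ p.asIdeal → ¬ I' ≤ p.asIdeal → ∀ j : ℕ, j + 1 = i →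
      Subsingleton (LocCoh.H (IsLocalRing.maximalIdeal (Localization.AtPrime p.asIdeal)) j
        (LocalizedModule p.asIdeal.primeCompl M))) →
      Function.Injective ((Dual2.HmapOfLE hle i).app (ModuleCat.of R M)).hom) := by
  classical
  obtain ⟨s, hs⟩ := IsNoetherian.noetherian I'
  suffices H : ∀ (t : Finset R) (J : Ideal R) (hJ : I ≤ J), J = I ⊔ Ideal.span t → J ≤ I' →
      ((∀ p : PrimeSpectrum R, I ≤ p.asIdeal → ¬ I' ≤ p.asIdeal →
        Subsingleton (LocCoh.H (IsLocalRing.maximalIdeal (Localization.AtPrime p.asIdeal)) i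
          (LocalizedModule p.asIdeal.primeCompl M))) →
        Function.Surjective ((Dual2.HmapOfLE hJ i).app (ModuleCat.of R M)).hom) ∧
      ((∀ p : PrimeSpectrum R, I ≤ p.asIdeal → ¬ I' ≤ p.asIdeal → ∀ j : ℕ, j + 1 = i →
        Subsingleton (LocCoh.H (IsLocalRing.maximalIdeal (Localization.AtPrime p.asIdeal)) j
          (LocalizedModule p.asIdeal.primeCompl M))) →
        Function.Injective ((Dual2.HmapOfLE hJ i).app (ModuleCat.of R M)).hom) by
    refine H s I' hle ?_ le_rfl
    change I' = I ⊔ Submodule.span R (s : Set R)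
    rw [hs, sup_eq_right.2 hle]
  intro t
  induction t using Finset.induction with
  | empty =>
    intro J hJ hJe _
    have : J = I := by simp [hJe]
    subst this
    rw [HmapOfLE_refl]
    exact ⟨fun _ x => ⟨x, rfl⟩, fun _ _ _ h => h⟩
  | @insert b t _ ih =>
    intro J hJ hJe hJI
    have hK : I ≤ I ⊔ Ideal.span (t : Set R) := le_sup_left
    have hJK : J = (I ⊔ Ideal.span (t : Set R)) ⊔ Ideal.span {b} := by
      rw [hJe, Finset.coe_insert, Ideal.span_insert, sup_assoc, sup_comm (Ideal.span {b})]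
    subst hJK
    have hb : b ∈ I' := hJI (Ideal.mem_sup_right (Ideal.mem_span_singleton_self b))
    have ih' := ih _ hK rfl (le_sup_left.trans hJI)
    have e : ((Dual2.HmapOfLE hK i).app (ModuleCat.of R M)).hom ∘ₗ
        ((Dual2.HmapOfLE (le_sup_left : I ⊔ Ideal.span (t : Set R) ≤
          (I ⊔ Ideal.span (t : Set R)) ⊔ Ideal.span {b}) i).app (ModuleCat.of R M)).hom =
        ((Dual2.HmapOfLE hJ i).app (ModuleCat.of R M)).hom :=
      congrArg (fun τ : localCohomology ((I ⊔ Ideal.span (t : Set R)) ⊔ Ideal.span {b}) i ⟶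
          localCohomology I i => (τ.app (ModuleCat.of R M)).hom)
        (HmapOfLE_comp hK (le_sup_left : I ⊔ Ideal.span (t : Set R) ≤ _ ⊔ Ideal.span {b}) i)
    constructor
    · intro h
      rw [← e, LinearMap.coe_comp]
      refine (ih'.1 h).comp (HmapOfLE_sup_span_surjective _ b _ i fun x => ?_)
      exact exists_pow_smul_eq_zero_of_local M i b _
        (fun p hp hbp => h p (le_sup_left.trans hp) fun hI' => hbp (hI' hb)) x
    · intro h
      rw [← e, LinearMap.coe_comp]
      refine (ih'.2 h).comp (HmapOfLE_sup_span_injective _ b _ i fun j hj x => ?_)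
      exact exists_pow_smul_eq_zero_of_local M j b _
        (fun p hp hbp => h p (le_sup_left.trans hp) (fun hI' => hbp (hI' hb)) j hj) x

end Groth.Agent.Lib.LocalCoh
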