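import Groth.Agent.Lib.LocalCoh.Local
import Mathlib.RingTheory.KrullDimension.Module

/-!
# Vanishing of local cohomology above the dimension of the support
-/

universe u

open CategoryTheory CategoryTheory.Limits

namespace Groth.Agent.Lib.LocalCoh

section Support

variable {R : Type u} [CommRing R] (S : Submonoid R) {M : Type u} [AddCommGroup M] [Module R M]

lemma comap_mem_support_of_localizedModule {q : PrimeSpectrum (Localization S)}
    (hq : q ∈ Module.support (Localization S) (LocalizedModule S M)) :
    PrimeSpectrum.comap (algebraMap R (Localization S)) q ∈ Module.support R M := by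
  rw [Module.mem_support_iff'] at hq ⊢
  obtain ⟨x, hx⟩ := hq
  induction x using LocalizedModule.induction_on with
  | h m s =>
    refine ⟨m, fun r hr h0 => hx (algebraMap R (Localization S) r) hr ?_⟩
    rw [algebraMap_smul, LocalizedModule.smul'_mk, h0, LocalizedModule.zero_mk]

variable (M)

lemma supportDim_localizedModule_le :
    Module.supportDim (Localization S) (LocalizedModule S M) ≤ Module.supportDim R M := by
  refine Order.krullDim_le_of_strictMono
    (fun q => ⟨PrimeSpectrum.comap (algebraMap R (Localization S)) q.1,
      comap_mem_support_of_localizedModule S q.2⟩) ?_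
  exact fun a b h => (IsLocalization.orderEmbedding S (Localization S)).strictMono
    (a := a.1.asIdeal) (b := b.1.asIdeal) h

/-- Localizing a local ring off the closed point drops the dimension. -/
lemma supportDim_localizedModule_lt [IsLocalRing R] (p : PrimeSpectrum R)
    (hp : p.asIdeal ≠ IsLocalRing.maximalIdeal R) (i : ℕ)
    (hi : Module.supportDim R M < ((i + 1 : ℕ) : WithBot ℕ∞)) :
    Module.supportDim (Localization.AtPrime p.asIdeal) (LocalizedModule p.asIdeal.primeCompl M) <
      (i : WithBot ℕ∞) := by
  rcases subsingleton_or_nontrivial M with hM | hM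
  · have : Subsingleton (LocalizedModule p.asIdeal.primeCompl M) := by
      refine subsingleton_of_forall_eq 0 fun x => ?_
      induction x using LocalizedModule.induction_on with
      | h m s => rw [Subsingleton.elim m 0, LocalizedModule.zero_mk]
    rw [Module.supportDim_eq_bot_of_subsingleton]
    exact WithBot.bot_lt_coe _
  have hm : IsLocalRing.closedPoint R ∈ Module.support R M := by
    obtain ⟨q, hq⟩ := Module.nonempty_support_of_nontrivial (R := R) (M := M)
    exact Module.mem_support_mono (IsLocalRing.le_maximalIdeal q.2.ne_top) hq
  have key : ∀ s : LTSeries (Module.support (Localization.AtPrime p.asIdeal)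
      (LocalizedModule p.asIdeal.primeCompl M)), s.length + 1 ≤ i := by
    intro s
    let f : Module.support (Localization.AtPrime p.asIdeal)
        (LocalizedModule p.asIdeal.primeCompl M) → Module.support R M := fun q =>
      ⟨PrimeSpectrum.comap (algebraMap R _) q.1, comap_mem_support_of_localizedModule _ q.2⟩
    have hf : StrictMono f := fun a b h =>
      (IsLocalization.orderEmbedding p.asIdeal.primeCompl
        (Localization.AtPrime p.asIdeal)).strictMono (a := a.1.asIdeal) (b := b.1.asIdeal) h
    let t := (s.map f hf).snoc ⟨IsLocalRing.closedPoint R, hm⟩ (by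
      show (s.map f hf).last < ⟨IsLocalRing.closedPoint R, hm⟩
      have hle : (s.map f hf).last.1.asIdeal ≤ p.asIdeal := by
        show Ideal.comap _ s.last.1.asIdeal ≤ _
        exact (Ideal.comap_mono (IsLocalRing.le_maximalIdeal s.last.1.2.ne_top)).trans
          (Localization.AtPrime.comap_maximalIdeal (I := p.asIdeal)).le
      exact lt_of_le_of_ne (IsLocalRing.le_maximalIdeal (s.map f hf).last.1.2.ne_top) fun e =>
        hp (le_antisymm (IsLocalRing.le_maximalIdeal p.2.ne_top)
          ((congrArg (fun z : Module.support R M => z.1.asIdeal) e).ge.trans hle)))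
    have ht : ((t.length : ℕ) : WithBot ℕ∞) < ((i + 1 : ℕ) : WithBot ℕ∞) :=
      (Order.LTSeries.length_le_krullDim t).trans_lt hi
    have : t.length = s.length + 1 := rfl
    rw [this] at ht
    exact Nat.lt_succ_iff.1 (by exact_mod_cast ht)
  cases i with
  | zero =>
    have : IsEmpty (Module.support (Localization.AtPrime p.asIdeal)
        (LocalizedModule p.asIdeal.primeCompl M)) :=
      ⟨fun q => absurd (key (RelSeries.singleton _ q)) (by omega)⟩
    rw [Module.supportDim, Order.krullDim_eq_bot]
    exact WithBot.bot_lt_coe _
  | succ j =>
    refine lt_of_le_of_lt (b := ((j : ℕ) : WithBot ℕ∞)) ?_ (by exact_mod_cast Nat.lt_succ_self j)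
    refine iSup_le fun s => ?_
    have := key s
    exact_mod_cast (Nat.le_of_succ_le_succ this)

end Support

/-- Grothendieck vanishing. -/
theorem lc_subsingleton_of_supportDim_lt : ∀ (i : ℕ) (R : Type u) [CommRing R] [IsNoetherianRing R]
    (I : Ideal R) (M : Type u) [AddCommGroup M] [Module R M],
    Module.supportDim R M < (i : WithBot ℕ∞) → Subsingleton (LocCoh.H I i M)
  | 0, R, _, _, I, M, _, _, h => by
    have : IsEmpty (Module.support R M) := ⟨fun q =>
      not_le.2 h ((Order.LTSeries.length_le_krullDim (RelSeries.singleton _ q)).trans_eq'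
        (by simp [RelSeries.singleton]))⟩
    have hs : Subsingleton M := Module.support_eq_empty_iff.1 (Set.isEmpty_coe_sort.1 this)
    have : IsZero (ModuleCat.of R M) := ModuleCat.isZero_of_subsingleton _
    exact ModuleCat.subsingleton_of_isZero ((localCohomology I 0).map_isZero this)
  | i + 1, R, _, _, I, M, _, _, h => by
    refine subsingleton_of_forall_eq 0 fun x => ?_
    suffices hp : ∀ p : PrimeSpectrum R,
        Subsingleton (LocCoh.H (IsLocalRing.maximalIdeal (Localization.AtPrime p.asIdeal)) (i + 1)
          (LocalizedModule p.asIdeal.primeCompl M)) by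
      obtain ⟨n, hn⟩ := exists_pow_smul_eq_zero_of_local M (i + 1) 1 I (fun p _ _ => hp p) x
      rwa [one_pow, one_smul] at hn
    intro p
    let A := Localization.AtPrime p.asIdeal
    let N := LocalizedModule p.asIdeal.primeCompl M
    have hN : Module.supportDim A N < ((i + 1 : ℕ) : WithBot ℕ∞) :=
      (supportDim_localizedModule_le p.asIdeal.primeCompl M).trans_lt h
    have hinj := (HmapOfLE_surjective_injective_of_local N (i + 1) (⊥ : Ideal A)
      (IsLocalRing.maximalIdeal A) bot_le).2 fun q _ hq j hj => by
        rw [show j = i by omega]
        exact lc_subsingleton_of_supportDim_lt i _ _ _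
          (supportDim_localizedModule_lt N q (fun e => hq e.ge) i hN)
    have := lc_subsingleton_bot i (ModuleCat.of A N)
    exact hinj.subsingleton

end Groth.Agent.Lib.LocalCoh
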