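import Mathlib.RingTheory.Ideal.Height

/-!
# Heights add along chains of primes
-/

universe u v

open Order

namespace Groth.Agent.Lib.LocalCoh.HeightChain

lemma height_add_le {α : Type u} {β : Type v} [Preorder α] [Preorder β] (f : α → β)
    (hf : StrictMono f) (c : α) (hc : ∀ x, f c ≤ f x) (x : α) :
    height (f c) + height x ≤ height (f x) := by
  have key : ∀ (n : ℕ) (x : α), (n : ℕ∞) ≤ height x → height (f c) + n ≤ height (f x) := by
    intro n
    induction n with
    | zero => intro x _; simpa using height_mono (hc x)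
    | succ n ih =>
      intro x hx
      obtain ⟨s, hs, hlen⟩ := exists_series_of_le_height x hx
      have hne : s.length ≠ 0 := by omega
      have h1 : s.eraseLast.last < x := hs ▸ s.eraseLast_last_rel_last hne
      have h2 := ih s.eraseLast.last (by
        refine le_trans ?_ length_le_height_last
        simp [RelSeries.eraseLast_length, hlen])
      refine le_trans ?_ (height_add_one_le (hf h1))
      rw [Nat.cast_add, Nat.cast_one, ← add_assoc]
      exact add_le_add h2 le_rfl
  cases h : height x with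
  | top =>
    rw [ENat.eq_top_iff_forall_ge] at h
    rw [add_top, top_le_iff, ENat.eq_top_iff_forall_ge]
    exact fun m => le_add_self.trans (key m x (h m))
  | coe m => exact key m x h.ge

variable {R : Type u} [CommRing R]

lemma map_mk_isPrime {p J : Ideal R} [J.IsPrime] (h : p ≤ J) :
    (J.map (Ideal.Quotient.mk p)).IsPrime :=
  Ideal.map_isPrime_of_surjective Ideal.Quotient.mk_surjective (by rwa [Ideal.mk_ker])

lemma comap_map_mk {p J : Ideal R} (h : p ≤ J) :
    (J.map (Ideal.Quotient.mk p)).comap (Ideal.Quotient.mk p) = J := by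
  rw [Ideal.comap_map_of_surjective _ Ideal.Quotient.mk_surjective, ← RingHom.ker_eq_comap_bot,
    sup_eq_left.2 (by rwa [Ideal.mk_ker])]

/-- `ht (s/p) + ht (q/s) ≤ ht (q/p)`. -/
theorem height_map_add_le (p s q : Ideal R) [p.IsPrime] [s.IsPrime] [q.IsPrime] (hps : p ≤ s)
    (hsq : s ≤ q) :
    (s.map (Ideal.Quotient.mk p)).height + (q.map (Ideal.Quotient.mk s)).height ≤
      (q.map (Ideal.Quotient.mk p)).height := by
  let f : PrimeSpectrum (R ⧸ s) → PrimeSpectrum (R ⧸ p) :=
    PrimeSpectrum.comap (Ideal.Quotient.factor hps)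
  have hinj : Function.Injective f :=
    PrimeSpectrum.comap_injective_of_surjective _ (Ideal.Quotient.factor_surjective hps)
  have hmono : StrictMono f := fun a b hab =>
    lt_of_le_of_ne (Ideal.comap_mono hab.le : (f a).asIdeal ≤ (f b).asIdeal) fun h => hab.ne (hinj h)
  let c : PrimeSpectrum (R ⧸ s) := ⟨⊥, Ideal.isPrime_bot⟩
  have hfac : ∀ (J : Ideal R) [J.IsPrime] (h : s ≤ J),
      f ⟨_, map_mk_isPrime h⟩ = ⟨_, map_mk_isPrime (hps.trans h)⟩ := fun J _ h => by
    refine PrimeSpectrum.ext (Ideal.comap_injective_of_surjective _ Ideal.Quotient.mk_surjective ?_)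
    show ((J.map _).comap (Ideal.Quotient.factor hps)).comap (Ideal.Quotient.mk p) = _
    rw [Ideal.comap_comap, Ideal.Quotient.factor_comp_mk, comap_map_mk h, comap_map_mk (hps.trans h)]
  have hc : c = ⟨_, map_mk_isPrime (le_refl s)⟩ := PrimeSpectrum.ext (Ideal.map_quotient_self s).symm
  have hcle : ∀ x, f c ≤ f x := fun x =>
    (Ideal.comap_mono (bot_le : c.asIdeal ≤ x.asIdeal) : (f c).asIdeal ≤ (f x).asIdeal)
  have h := height_add_le f hmono c hcle ⟨_, map_mk_isPrime hsq⟩
  rw [hfac q hsq, hc, hfac s le_rfl, ← PrimeSpectrum.height_eq_orderHeight,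
    ← PrimeSpectrum.height_eq_orderHeight, ← PrimeSpectrum.height_eq_orderHeight] at h
  exact h

end Groth.Agent.Lib.LocalCoh.HeightChain
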