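import Groth.Agent.Lib.Depth.Basic
import Groth.Agent.Lib.Excellent.DepthLocalization
import Mathlib.RingTheory.Ideal.Height
import Mathlib.RingTheory.Localization.LocalizationLocalization
import Mathlib.RingTheory.Localization.BaseChange

/-!
# Depth at a prime of a localisation
-/

universe u

namespace Groth.Agent.Lib.LocalCoh.LocDepth

variable {R : Type u} [CommRing R] (S : Submonoid R) (M : Type u) [AddCommGroup M] [Module R M]

theorem depth_eq (P : Ideal (Localization S)) [P.IsPrime] (p : Ideal R) [p.IsPrime]
    (hp : P.comap (algebraMap R (Localization S)) = p) :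
    LocCoh.depth (Localization.AtPrime p) (LocalizedModule p.primeCompl M) =
      LocCoh.depth (Localization.AtPrime P) (LocalizedModule P.primeCompl (LocalizedModule S M)) := by
  subst hp
  let Rp := Localization.AtPrime (P.comap (algebraMap R (Localization S)))
  let AP := Localization.AtPrime P
  let N := LocalizedModule P.primeCompl (LocalizedModule S M)
  let φ : Rp ≃ₐ[R] AP := IsLocalization.localizationLocalizationAtPrimeIsoLocalization S P
  let : Algebra Rp AP := φ.toRingEquiv.toRingHom.toAlgebra
  have : IsScalarTower R Rp AP :=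
    IsScalarTower.of_algebraMap_eq fun x => (φ.commutes x).symm
  let : Module Rp N := Module.compHom N (algebraMap Rp AP)
  have : IsScalarTower Rp AP N := IsScalarTower.of_algebraMap_smul fun _ _ => rfl
  have : IsScalarTower R Rp N := IsScalarTower.of_algebraMap_smul fun r x => by
    show algebraMap Rp AP (algebraMap R Rp r) • x = r • x
    rw [← IsScalarTower.algebraMap_apply, algebraMap_smul]
  have : IsLocalization (P.comap (algebraMap R (Localization S))).primeCompl AP :=
    IsLocalization.isLocalization_atPrime_localization_atPrime S P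
  let g : M →ₗ[R] N := ((LocalizedModule.mkLinearMap P.primeCompl (LocalizedModule S M)).restrictScalars R)
    ∘ₗ LocalizedModule.mkLinearMap S M
  have : IsLocalizedModule (P.comap (algebraMap R (Localization S))).primeCompl g := by
    rw [isLocalizedModule_iff_isBaseChange (P.comap (algebraMap R (Localization S))).primeCompl AP]
    exact IsBaseChange.comp (IsLocalizedModule.isBaseChange S (Localization S) _)
      (IsLocalizedModule.isBaseChange P.primeCompl AP _)
  have e : LocalizedModule (P.comap (algebraMap R (Localization S))).primeCompl M ≃ₗ[Rp] N :=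
    (IsLocalizedModule.linearEquiv (P.comap (algebraMap R (Localization S))).primeCompl
      (LocalizedModule.mkLinearMap _ M) g).extendScalarsOfIsLocalization
        (P.comap (algebraMap R (Localization S))).primeCompl Rp
  exact (Depth.Basic.depth_congr e).trans (Depth.Basic.depth_eq_of_surjective φ.surjective)

theorem ringKrullDim_quotient_map_le (p s : Ideal R) [p.IsPrime] [s.IsPrime] (hps : p ≤ s) :
    ringKrullDim (Localization.AtPrime s ⧸ p.map (algebraMap R (Localization.AtPrime s))) ≤
      (((s.map (Ideal.Quotient.mk p)).height : ℕ∞) : WithBot ℕ∞) := by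
  let Rs := Localization.AtPrime s
  have hsurj : Function.Surjective (Ideal.Quotient.mk p) := Ideal.Quotient.mk_surjective
  have hker : ∀ {J : Ideal R}, p ≤ J → RingHom.ker (Ideal.Quotient.mk p) ≤ J := fun h => by
    rw [Ideal.mk_ker]; exact h
  have hs : (s.map (Ideal.Quotient.mk p)).IsPrime := Ideal.map_isPrime_of_surjective hsurj (hker hps)
  have hcm : ∀ {J : Ideal R}, p ≤ J → (J.map (Ideal.Quotient.mk p)).comap (Ideal.Quotient.mk p) = J :=
    fun h => by
      rw [Ideal.comap_map_of_surjective _ hsurj, ← RingHom.ker_eq_comap_bot, sup_eq_left.2 (hker h)]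
  rw [ringKrullDim_quotient,
    show (s.map (Ideal.Quotient.mk p)).height = Order.height (⟨_, hs⟩ : PrimeSpectrum (R ⧸ p)) from
      PrimeSpectrum.height_eq_orderHeight ⟨_, hs⟩]
  show Order.krullDim _ ≤ ((Order.height (⟨_, hs⟩ : PrimeSpectrum (R ⧸ p)) : ℕ∞) : WithBot ℕ∞)
  rw [Order.height_eq_krullDim_Iic]
  have hle : ∀ Q : PrimeSpectrum.zeroLocus (p.map (algebraMap R Rs) : Set Rs),
      p ≤ Q.1.asIdeal.comap (algebraMap R Rs) ∧ Q.1.asIdeal.comap (algebraMap R Rs) ≤ s :=
    fun Q => ⟨Ideal.map_le_iff_le_comap.1 Q.2,
      (Ideal.comap_mono (IsLocalRing.le_maximalIdeal Q.1.isPrime.ne_top)).trans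
        (IsLocalization.AtPrime.under_maximalIdeal Rs s).le⟩
  refine Order.krullDim_le_of_strictMono
    (fun Q => ⟨⟨(Q.1.asIdeal.comap (algebraMap R Rs)).map (Ideal.Quotient.mk p),
      Ideal.map_isPrime_of_surjective hsurj (hker (hle Q).1)⟩, Ideal.map_mono (hle Q).2⟩)
    fun Q Q' h => ?_
  refine lt_of_le_of_ne (Ideal.map_mono (Ideal.comap_mono h.le) : _ ≤ _) fun he => h.ne (Subtype.ext ?_)
  refine PrimeSpectrum.localization_comap_injective Rs s.primeCompl (PrimeSpectrum.ext ?_)
  have := congrArg (fun P => P.asIdeal.comap (Ideal.Quotient.mk p)) (congrArg Subtype.val he)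
  simp only [hcm (hle Q).1, hcm (hle Q').1] at this
  exact this

/-- `depth M_s ≤ depth M_p + ht (s / p)`. -/
theorem depth_le_depth_add_height [IsNoetherianRing R] [Module.Finite R M] (p s : Ideal R)
    [p.IsPrime] [s.IsPrime] (hps : p ≤ s) :
    LocCoh.depth (Localization.AtPrime s) (LocalizedModule s.primeCompl M) ≤
      LocCoh.depth (Localization.AtPrime p) (LocalizedModule p.primeCompl M) +
        (s.map (Ideal.Quotient.mk p)).height := by
  let Rs := Localization.AtPrime s
  have : IsNoetherianRing Rs := IsLocalization.isNoetherianRing s.primeCompl _ inferInstance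
  have : Module.Finite Rs (LocalizedModule s.primeCompl M) :=
    Module.Finite.of_isLocalizedModule s.primeCompl (LocalizedModule.mkLinearMap s.primeCompl M)
  have hdisj : Disjoint (s.primeCompl : Set R) (p : Set R) :=
    Set.disjoint_left.mpr fun a ha hb => ha (hps hb)
  have hP : (p.map (algebraMap R Rs)).IsPrime :=
    IsLocalization.isPrime_of_isPrime_disjoint s.primeCompl Rs p inferInstance hdisj
  rw [depth_eq s.primeCompl M (p.map (algebraMap R Rs)) p
    (IsLocalization.under_map_of_isPrime_disjoint s.primeCompl Rs inferInstance hdisj)]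
  refine WithBot.coe_le_coe.1 ?_
  rw [WithBot.coe_add]
  exact (Groth.Agent.Lib.Excellent.DepthLocalization.depth_le_depth_localization_add _
    (p.map (algebraMap R Rs))).trans (add_le_add le_rfl (ringKrullDim_quotient_map_le p s hps))

end Groth.Agent.Lib.LocalCoh.LocDepth
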