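import Groth.Agent.Lib.LocalCoh.FaltingsRegular
import Groth.Agent.Lib.LocalCoh.Change

/-!
# Adjusted depth and finiteness dimension along a surjection
-/

universe u

open IsLocalRing CategoryTheory
open Groth.Agent.Lib Groth.Agent.Lib.LocalCoh.Killed

namespace Groth.Agent.Lib.LocalCoh.SurjAdj

open Groth.Agent.Lib.LocalCoh

variable {S : Type u} [CommRing S] {R : Type u} [CommRing R] [Algebra S R]
  (M : Type u) [AddCommGroup M] [Module R M] [Module S M] [IsScalarTower S R M]

/-- The adjusted depth along a surjection. -/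
theorem adjDepth_comap (hπ : Function.Surjective (algebraMap S R)) (a : Ideal S)
    (P : PrimeSpectrum R) :
    LocCoh.adjDepth a M (PrimeSpectrum.comap (algebraMap S R) P) =
      LocCoh.adjDepth (a.map (algebraMap S R)) M P := by
  let p := P.asIdeal.comap (algebraMap S R)
  have hPmap : p.map (algebraMap S R) = P.asIdeal := Ideal.map_comap_of_surjective _ hπ P.asIdeal
  unfold LocCoh.adjDepth
  congr 1
  · let N := LocalizedModule P.asIdeal.primeCompl M
    let Rp := Localization.AtPrime p
    let AP := Localization.AtPrime P.asIdeal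
    let φ : Rp →+* AP := Localization.localRingHom p P.asIdeal (algebraMap S R) rfl
    let : Algebra Rp AP := φ.toAlgebra
    have : IsScalarTower S Rp AP := IsScalarTower.of_algebraMap_eq fun x => by
      show _ = Localization.localRingHom p P.asIdeal (algebraMap S R) rfl (algebraMap S Rp x)
      rw [Localization.localRingHom_to_map, ← IsScalarTower.algebraMap_apply]
    let : Module Rp N := Module.compHom N (algebraMap Rp AP)
    have : IsScalarTower Rp AP N := IsScalarTower.of_algebraMap_smul fun _ _ => rfl
    have : IsScalarTower S Rp N := IsScalarTower.of_algebraMap_smul fun r x => by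
      show algebraMap Rp AP (algebraMap S Rp r) • x = r • x
      rw [← IsScalarTower.algebraMap_apply, algebraMap_smul]
    let g : M →ₗ[S] N := (LocalizedModule.mkLinearMap P.asIdeal.primeCompl M).restrictScalars S
    have : IsLocalizedModule p.primeCompl g := by
      refine ⟨fun s => ?_, fun y => ?_, fun {x₁ x₂} h => ?_⟩
      · have h := IsLocalizedModule.map_units (LocalizedModule.mkLinearMap P.asIdeal.primeCompl M)
          (⟨algebraMap S R s.1, s.2⟩ : P.asIdeal.primeCompl)
        rw [Module.End.isUnit_iff] at h ⊢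
        convert h using 1
        funext x
        exact (algebraMap_smul R (s : S) x).symm
      · obtain ⟨⟨m, ⟨s, hs⟩⟩, h⟩ :=
          IsLocalizedModule.surj P.asIdeal.primeCompl (LocalizedModule.mkLinearMap P.asIdeal.primeCompl M) y
        obtain ⟨s, rfl⟩ := hπ s
        refine ⟨⟨m, ⟨s, hs⟩⟩, Eq.trans ?_ h⟩
        exact (algebraMap_smul R s y).symm
      · obtain ⟨⟨s, hs⟩, h⟩ := IsLocalizedModule.exists_of_eq (S := P.asIdeal.primeCompl)
          (f := LocalizedModule.mkLinearMap P.asIdeal.primeCompl M) h
        obtain ⟨s, rfl⟩ := hπ s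
        exact ⟨⟨s, hs⟩, (algebraMap_smul R s x₁).symm.trans (h.trans (algebraMap_smul R s x₂))⟩
    have e : LocalizedModule p.primeCompl M ≃ₗ[Rp] N :=
      (IsLocalizedModule.linearEquiv p.primeCompl (LocalizedModule.mkLinearMap p.primeCompl M)
        g).extendScalarsOfIsLocalization p.primeCompl Rp
    have hsurj : Function.Surjective (algebraMap Rp AP) := fun z => by
      obtain ⟨⟨x, ⟨t, ht⟩⟩, rfl⟩ := IsLocalization.mk'_surjective P.asIdeal.primeCompl z
      obtain ⟨x, rfl⟩ := hπ x
      obtain ⟨t, rfl⟩ := hπ t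
      exact ⟨IsLocalization.mk' Rp x (⟨t, ht⟩ : p.primeCompl),
        Localization.localRingHom_mk' p P.asIdeal (algebraMap S R) rfl x ⟨t, ht⟩⟩
    exact (Depth.Basic.depth_congr e).trans (Depth.Basic.depth_eq_of_surjective hsurj)
  · let f : S →+* R ⧸ P.asIdeal := (Ideal.Quotient.mk P.asIdeal).comp (algebraMap S R)
    have hf : Function.Surjective f := Ideal.Quotient.mk_surjective.comp hπ
    have hker : RingHom.ker f = p := by
      rw [← RingHom.comap_ker, Ideal.mk_ker]
    let e := (Ideal.quotEquivOfEq hker.symm).trans (RingHom.quotientKerEquivOfSurjective hf)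
    have hcomm : (e : S ⧸ p →+* R ⧸ P.asIdeal).comp (Ideal.Quotient.mk p) = f :=
      RingHom.ext fun z => rfl
    rw [show a.map (algebraMap S R) ⊔ P.asIdeal = (a ⊔ p).map (algebraMap S R) by
      rw [Ideal.map_sup, hPmap], Ideal.map_map]
    show _ = ((a ⊔ p).map f).height
    rw [← hcomm, ← Ideal.map_map, Ideal.map_coe e, e.height_map]
    rfl

theorem minAdjDepth_le (hπ : Function.Surjective (algebraMap S R)) (a b : Ideal R) :
    LocCoh.minAdjDepth a b M ≤
      LocCoh.minAdjDepth (a.comap (algebraMap S R)) (b.comap (algebraMap S R)) M := by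
  refine le_iInf₂ fun q hq => ?_
  by_cases hker : RingHom.ker (algebraMap S R) ≤ q.asIdeal
  · let P : PrimeSpectrum R := ⟨_, Ideal.map_isPrime_of_surjective hπ hker⟩
    have hP : PrimeSpectrum.comap (algebraMap S R) P = q := PrimeSpectrum.ext (by
      show (q.asIdeal.map _).comap _ = _
      rw [Ideal.comap_map_of_surjective _ hπ, ← RingHom.ker_eq_comap_bot, sup_eq_left.2 hker])
    rw [← hP, adjDepth_comap M hπ, Ideal.map_comap_of_surjective _ hπ]
    refine iInf₂_le P fun hb => hq ?_
    exact (Ideal.comap_mono hb).trans_eq (congrArg PrimeSpectrum.asIdeal hP)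
  · have : Subsingleton (LocalizedModule q.asIdeal.primeCompl M) := by
      obtain ⟨r, hr, hrp⟩ := Set.not_subset.1 hker
      refine LocalizedModule.subsingleton_iff.2 fun m => ⟨r, hrp, ?_⟩
      rw [← algebraMap_smul R r m, RingHom.mem_ker.1 hr, zero_smul]
    rw [MinAdj.adjDepth_eq_top_of_subsingleton]
    exact le_top

theorem finDimRel_le [IsNoetherianRing S] [IsNoetherianRing R]
    (hπ : Function.Surjective (algebraMap S R)) (a b : Ideal R) :
    LocCoh.finDimRel (a.comap (algebraMap S R)) (b.comap (algebraMap S R)) M ≤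
      LocCoh.finDimRel a b M := by
  refine le_iInf₂ fun i hi => iInf₂_le i fun hK => hi fun r hr => ?_
  obtain ⟨r, rfl⟩ := hπ r
  obtain ⟨e⟩ := nonempty_lcRestrictIso (R := S) R (a.comap (algebraMap S R)) (ModuleCat.of R M) i
  let e' := (e ≪≫ (localCohomology (a.comap (algebraMap S R)) i).mapIso
    (resObjIso (R := S) R M)).toLinearEquiv
  obtain ⟨n, hn⟩ := hK (show r ∈ b.comap (algebraMap S R) from hr)
  refine ⟨n, Module.mem_annihilator.2 ?_⟩
  rw [← Ideal.map_comap_of_surjective _ hπ a]
  intro z
  rw [← map_pow]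
  let z' : (ModuleCat.restrictScalars (algebraMap S R)).obj
      ((localCohomology ((a.comap (algebraMap S R)).map (algebraMap S R)) i).obj (ModuleCat.of R M)) := z
  have h : r ^ n • z' = 0 := e'.injective ((map_smul e' (r ^ n) z').trans
    ((Module.mem_annihilator.1 hn (e' z')).trans (map_zero e').symm))
  exact h

end Groth.Agent.Lib.LocalCoh.SurjAdj
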