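import Groth.Agent.Lib.LocalCoh.Vanishing
import Mathlib.RingTheory.Regular.Category
import Mathlib.RingTheory.Regular.RegularSequence
import Mathlib.RingTheory.Regular.RegularSequence

/-!
# Non-vanishing of local cohomology at the length of a regular sequence
-/

universe u

open CategoryTheory CategoryTheory.Limits RingTheory.Sequence Pointwise

namespace Groth.Agent.Lib.LocalCoh

variable {R : Type u} [CommRing R] (I : Ideal R)

lemma weaklyRegular_lc_subsingleton : ∀ {rs : List R} {M : ModuleCat.{u} R},
    IsWeaklyRegular M rs → (∀ r ∈ rs, r ∈ I) → ∀ {i : ℕ}, i < rs.length →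
      Subsingleton ((localCohomology I i).obj M) := by
  intro rs
  induction rs with
  | nil => intro M _ _ i hi; simp at hi
  | cons x rs ih =>
    intro M hreg hmem i hi
    rw [isWeaklyRegular_cons_iff] at hreg
    simp only [List.mem_cons, forall_eq_or_imp] at hmem
    have hpow : ∀ n : ℕ, IsSMulRegular M (x ^ n) := fun n => hreg.1.pow n
    cases i with
    | zero =>
      refine subsingleton_of_forall_eq 0 fun z => ?_
      obtain ⟨n, hn⟩ := (((lcZeroIso I).app M).hom.hom z).2
      refine ((lcZeroIso I).app M).toLinearEquiv.injective ((Subtype.ext ?_).trans (map_zero _).symm)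
      exact hpow n ((hn _ (Ideal.pow_mem_pow hmem.1 n)).trans (smul_zero _).symm)
    | succ i =>
      have h : Subsingleton ((localCohomology I i).obj (M.smulShortComplex x).X₃) :=
        ih (M := ModuleCat.of R (QuotSMulTop x M)) hreg.2 hmem.2 (by simpa using hi)
      have hinj : ∀ z : (localCohomology I (i + 1)).obj M, x • z = 0 → z = 0 := fun z hz => by
        obtain ⟨w, hw⟩ := ((lcDeltaSeq I).exact₁ hreg.1.smulShortComplex_shortExact i z).1 (by
          rw [ModuleCat.smulShortComplex_f_eq_smul_id]
          exact (lc_map_smul_id I (i + 1) M x z).trans hz)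
        rw [← hw, h.elim w 0, map_zero]
        rfl
      refine subsingleton_of_forall_eq 0 fun z => ?_
      obtain ⟨n, hn⟩ := isPowerTorsion_lc I (i + 1) M z
      have hx : x ^ n • z = 0 := hn _ (Ideal.pow_mem_pow hmem.1 n)
      clear hn
      induction n with
      | zero => simpa using hx
      | succ n ihn =>
        refine ihn ?_
        rw [pow_succ', mul_smul] at hx
        exact hinj _ hx

/-- A regular sequence with power torsion quotient gives a nonzero local cohomology module. -/
theorem lc_nontrivial_of_isWeaklyRegular : ∀ {rs : List R} {M : ModuleCat.{u} R},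
    IsWeaklyRegular M rs → (∀ r ∈ rs, r ∈ I) →
    Nontrivial (M ⧸ (Ideal.ofList rs • ⊤ : Submodule R M)) →
    LocCoh.IsPowerTorsion I (M ⧸ (Ideal.ofList rs • ⊤ : Submodule R M)) →
    Nontrivial ((localCohomology I rs.length).obj M) := by
  intro rs
  induction rs with
  | nil =>
    intro M _ _ hnt htor
    let e : (M ⧸ (Ideal.ofList ([] : List R) • ⊤ : Submodule R M)) ≃ₗ[R] M :=
      Submodule.quotEquivOfEqBot _ (by simp)
    have hM : Nontrivial M := e.toEquiv.symm.nontrivial
    have hM' : LocCoh.IsPowerTorsion I M :=
      isPowerTorsion_of_injective I e.symm.toLinearMap e.symm.injective htor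
    let e' : (DRing.gammaI I).obj M ≃ₗ[R] M :=
      LinearEquiv.ofTop _ ((torsionSub_eq_top_iff I M).2 hM')
    exact (((lcZeroIso I).app M).toLinearEquiv.trans e').toEquiv.nontrivial
  | cons x rs ih =>
    intro M hreg hmem hnt htor
    rw [isWeaklyRegular_cons_iff] at hreg
    simp only [List.mem_cons, forall_eq_or_imp] at hmem
    let e := Submodule.quotOfListConsSMulTopEquivQuotSMulTopInner M x rs
    have h3 : Nontrivial ((localCohomology I rs.length).obj (M.smulShortComplex x).X₃) :=
      ih (M := ModuleCat.of R (QuotSMulTop x M)) hreg.2 hmem.2 e.toEquiv.symm.nontrivial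
        (isPowerTorsion_of_injective I e.symm.toLinearMap e.symm.injective htor)
    have h0 : Subsingleton ((localCohomology I rs.length).obj (M.smulShortComplex x).X₂) :=
      weaklyRegular_lc_subsingleton I (rs := x :: rs) (M := M)
        ((isWeaklyRegular_cons_iff _ _ _).2 hreg) (by simp [hmem.1]; exact hmem.2) (by simp)
    refine not_subsingleton_iff_nontrivial.1 fun hs => ?_
    have hs' : Subsingleton ((localCohomology I (rs.length + 1)).obj (M.smulShortComplex x).X₁) := hs
    refine not_subsingleton ((localCohomology I rs.length).obj (M.smulShortComplex x).X₃)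
      (subsingleton_of_forall_eq 0 fun z => ?_)
    obtain ⟨w, rfl⟩ := ((lcDeltaSeq I).exact₃ hreg.1.smulShortComplex_shortExact rs.length z).1
      (hs'.elim _ _)
    rw [h0.elim w 0, map_zero]

variable [IsNoetherianRing R]

/-- Top local cohomology at an ideal containing a regular element dropping the dimension is not
finite. -/
theorem lc_not_finite_of_regular (M : ModuleCat.{u} R) (d : ℕ) {x : R} (hx : x ∈ I)
    (hreg : IsSMulRegular M x) (hd : Module.supportDim R (QuotSMulTop x M) < (d : WithBot ℕ∞))
    (hnt : Nontrivial ((localCohomology I d).obj M)) :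
    ¬ Module.Finite R ((localCohomology I d).obj M) := by
  intro hfin
  have h3 : Subsingleton ((localCohomology I d).obj (M.smulShortComplex x).X₃) :=
    lc_subsingleton_of_supportDim_lt d R I (QuotSMulTop x M) hd
  have hsurj : ∀ z : (localCohomology I d).obj M, ∃ w, x • w = z := fun z => by
    obtain ⟨w, hw⟩ := ((lcDeltaSeq I).exact₂ hreg.smulShortComplex_shortExact d z).1 (h3.elim _ _)
    refine ⟨w, ?_⟩
    rw [ModuleCat.smulShortComplex_f_eq_smul_id] at hw
    exact (lc_map_smul_id I d M x w).symm.trans hw
  obtain ⟨n, hn⟩ := exists_pow_smul_eq_zero I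
    (LinearMap.id : (localCohomology I d).obj M →ₗ[R] (localCohomology I d).obj M)
    fun z => isPowerTorsion_lc I d M z
  refine not_subsingleton ((localCohomology I d).obj M) (subsingleton_of_forall_eq 0 fun z => ?_)
  have hdiv : ∀ (k : ℕ) (z : (localCohomology I d).obj M), ∃ w, x ^ k • w = z := fun k => by
    induction k with
    | zero => exact fun z => ⟨z, by simp⟩
    | succ k ihk =>
      intro z
      obtain ⟨w, rfl⟩ := hsurj z
      obtain ⟨v, rfl⟩ := ihk w
      exact ⟨v, by rw [pow_succ', mul_smul]⟩
  obtain ⟨w, rfl⟩ := hdiv n z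
  exact hn _ (Ideal.pow_mem_pow hx n) w

end Groth.Agent.Lib.LocalCoh
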