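import Groth.Agent.Lib.LocalCoh.TransformUniversal
import Mathlib.Algebra.Module.LocalizedModule.Basic

/-!
# Closed modules, and the transform at a principal ideal
-/

universe u

open CategoryTheory CategoryTheory.Limits Opposite

namespace Groth.Agent.Lib.LocalCoh

variable {R : Type u} [CommRing R] [IsNoetherianRing R] (I : Ideal R)

set_option linter.unusedSectionVars false

/-- A torsion-free module with no first local cohomology is closed. -/
lemma toDT_bijective_of (N : ModuleCat.{u} R) (h0 : DRing.torsionSub I N = ⊥)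
    (h1 : Subsingleton ((localCohomology I 1).obj N)) :
    Function.Bijective (LocCoh.toDT I N) := by
  refine ⟨LinearMap.ker_eq_bot.1 ((ker_toDT I N).trans h0), fun z => ?_⟩
  have : cokerToDTEquiv I N (Submodule.Quotient.mk z) = 0 := Subsingleton.elim _ _
  rw [LinearEquiv.map_eq_zero_iff] at this
  exact (Submodule.Quotient.mk_eq_zero _).1 this

variable (a : R) (M : ModuleCat.{u} R)

/-- The localization at `a`, as a module. -/
noncomputable abbrev awayObj : ModuleCat.{u} R :=
  ModuleCat.of R (LocalizedModule (Submonoid.powers a) M)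

/-- The map to the localization. -/
noncomputable abbrev awayHom : M ⟶ awayObj a M :=
  ModuleCat.ofHom (LocalizedModule.mkLinearMap (Submonoid.powers a) M)

omit [IsNoetherianRing R] in
lemma awayObj_smul_bijective : Function.Bijective fun m : awayObj a M => a • m :=
  (Module.End.isUnit_iff _).1 (IsLocalizedModule.map_units
    (LocalizedModule.mkLinearMap (Submonoid.powers a) M) ⟨a, Submonoid.mem_powers a⟩)

omit [IsNoetherianRing R] in
lemma torsionSub_awayObj : DRing.torsionSub (Ideal.span {a}) (awayObj a M) = ⊥ := by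
  rw [Submodule.eq_bot_iff]
  rintro x ⟨n, hn⟩
  have key : ∀ k, a ^ k • x = 0 → x = 0 := by
    intro k
    induction k with
    | zero => simp
    | succ k ih =>
      intro h
      rw [pow_succ', mul_smul] at h
      exact ih ((awayObj_smul_bijective a M).1 (h.trans (smul_zero a).symm))
  exact key n (hn _ (Ideal.pow_mem_pow (Ideal.mem_span_singleton_self a) n))

lemma toDT_awayObj_bijective :
    Function.Bijective (LocCoh.toDT (Ideal.span {a}) (awayObj a M)) :=
  toDT_bijective_of _ _ (torsionSub_awayObj a M)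
    (lc_subsingleton_of_smul_bijective _ 1 _ (Ideal.mem_span_singleton_self a)
      (awayObj_smul_bijective a M))

omit [IsNoetherianRing R] in
lemma ker_awayHom :
    LinearMap.ker (awayHom a M).hom ≤ DRing.torsionSub (Ideal.span {a}) M := by
  intro m hm
  obtain ⟨⟨_, n, rfl⟩, hn⟩ := (LocalizedModule.mk_eq (S := Submonoid.powers a)).1
    ((LinearMap.mem_ker.1 hm).trans (LocalizedModule.zero_mk 1).symm)
  refine ⟨n, fun b hb => ?_⟩
  rw [Ideal.span_singleton_pow, Ideal.mem_span_singleton'] at hb
  obtain ⟨c, rfl⟩ := hb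
  have hn' : a ^ n • m = 0 := by simpa [Submonoid.smul_def] using hn
  rw [mul_smul, hn', smul_zero]

omit [IsNoetherianRing R] in
lemma coker_awayHom : LocCoh.IsPowerTorsion (Ideal.span {a})
    (awayObj a M ⧸ LinearMap.range (awayHom a M).hom) := by
  intro q
  obtain ⟨x, rfl⟩ := Submodule.Quotient.mk_surjective _ q
  induction x using LocalizedModule.induction_on with
  | h m s =>
    obtain ⟨_, n, rfl⟩ := s
    refine ⟨n, fun b hb => ?_⟩
    rw [Ideal.span_singleton_pow, Ideal.mem_span_singleton'] at hb
    obtain ⟨c, rfl⟩ := hb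
    rw [← Submodule.Quotient.mk_smul, Submodule.Quotient.mk_eq_zero]
    refine ⟨c • m, ?_⟩
    show LocalizedModule.mk (c • m) 1 = _
    rw [mul_smul, LocalizedModule.smul'_mk, LocalizedModule.smul'_mk]
    exact (LocalizedModule.mk_eq.2 ⟨1, by
      simp [Submonoid.smul_def, smul_comm (a ^ n) c m]⟩)

/-- The transform at a principal ideal is the localization. -/
noncomputable def principalEquiv :
    (LocCoh.idealTransform (Ideal.span {a})).obj M ≃ₗ[R] awayObj a M :=
  (LinearEquiv.ofBijective _
    (transform_map_bijective (Ideal.span {a}) (awayHom a M) (ker_awayHom a M)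
      (coker_awayHom a M))).trans
    (LinearEquiv.ofBijective _ (toDT_awayObj_bijective a M)).symm

lemma principalEquiv_toDT (m : M) :
    principalEquiv a M (LocCoh.toDT (Ideal.span {a}) M m) = (awayHom a M).hom m := by
  simp only [principalEquiv, LinearEquiv.trans_apply]
  rw [LinearEquiv.symm_apply_eq]
  exact toDT_naturality _ (awayHom a M) m

lemma principalEquiv_tι (t : ℕ)
    (f : ((powSys (Ideal.span {a})).obj (op (op t))).unop ⟶ M) :
    principalEquiv a M (tι (Ideal.span {a}) (op (op t)) M f) =
      LocalizedModule.mk (f.hom ⟨a ^ t, Ideal.pow_mem_pow (Ideal.mem_span_singleton_self a) t⟩)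
        (⟨a ^ t, pow_mem (Submonoid.mem_powers a) t⟩ : Submonoid.powers a) := by
  simp only [principalEquiv, LinearEquiv.trans_apply]
  rw [LinearEquiv.symm_apply_eq, LinearEquiv.ofBijective_apply, LinearEquiv.ofBijective_apply,
    map_tι, toDT_eq_tι _ (awayObj a M) (op (op t))]
  congr 1
  ext ⟨r, hr⟩
  have hr' : r ∈ Ideal.span {a ^ t} := by rw [← Ideal.span_singleton_pow]; exact hr
  obtain ⟨c, rfl⟩ := Ideal.mem_span_singleton'.1 hr'
  have hcr : f.hom ⟨c * a ^ t, hr⟩ =
      c • f.hom ⟨a ^ t, Ideal.pow_mem_pow (Ideal.mem_span_singleton_self a) t⟩ :=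
    (congrArg f.hom (Subtype.ext (smul_eq_mul c (a ^ t)).symm)).trans (map_smul f.hom c _)
  show LocalizedModule.mk (f.hom ⟨c * a ^ t, hr⟩) 1 = (c * a ^ t) • _
  rw [hcr]
  generalize f.hom ⟨a ^ t, Ideal.pow_mem_pow (Ideal.mem_span_singleton_self a) t⟩ = v
  rw [mul_smul, LocalizedModule.smul'_mk, LocalizedModule.smul'_mk]
  exact LocalizedModule.mk_eq.2 ⟨1, by simp [Submonoid.smul_def, smul_comm (a ^ t) c v]⟩

end Groth.Agent.Lib.LocalCoh
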