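import Groth.Agent.Lib.LocalCoh.MayerVietoris
import Groth.Agent.Lib.LocalCoh.Acyclic
import Groth.Agent.Lib.LocalCoh.TransformPrincipal
import Mathlib.Algebra.Module.LocalizedModule.Exact

/-!
# The long exact sequence relating local cohomology at `a`, at `a + (b)`, and of the localization
-/

universe u

open CategoryTheory CategoryTheory.Limits

namespace Groth.Agent.Lib.LocalCoh

variable {R : Type u} [CommRing R]

section Complexes

variable {X Y Z : CochainComplex (ModuleCat.{u} R) ℕ} (f : X ⟶ Y) (g : Y ⟶ Z)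

/-- The long exact sequence of a short exact sequence of complexes, transported along equivalences. -/
theorem exists_lesSeq (hinj : ∀ n, Function.Injective (f.f n).hom)
    (hex : ∀ n, Function.Exact (f.f n).hom (g.f n).hom)
    (hsurj : ∀ n, Function.Surjective (g.f n).hom)
    {Hx Hy Hz : ℕ → Type u} [∀ i, AddCommGroup (Hx i)] [∀ i, Module R (Hx i)]
    [∀ i, AddCommGroup (Hy i)] [∀ i, Module R (Hy i)] [∀ i, AddCommGroup (Hz i)]
    [∀ i, Module R (Hz i)]
    (ex : ∀ i, X.homology i ≃ₗ[R] Hx i) (ey : ∀ i, Y.homology i ≃ₗ[R] Hy i)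
    (ez : ∀ i, Z.homology i ≃ₗ[R] Hz i) (p : ∀ i, Hx i →ₗ[R] Hy i) (q : ∀ i, Hy i →ₗ[R] Hz i)
    (hp : ∀ i x, p i (ex i x) = ey i (HomologicalComplex.homologyMap f i x))
    (hq : ∀ i x, q i (ey i x) = ez i (HomologicalComplex.homologyMap g i x)) :
    ∃ δ : ∀ i, Hz i →ₗ[R] Hx (i + 1), Function.Injective (p 0) ∧
      (∀ i, Function.Exact (p i) (q i)) ∧ (∀ i, Function.Exact (q i) (δ i)) ∧
      (∀ i, Function.Exact (δ i) (p (i + 1))) := by
  have w : f ≫ g = 0 := by
    ext n x
    exact ((hex n) (f.f n x)).2 ⟨x, rfl⟩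
  have hS : (ShortComplex.mk f g w).ShortExact := by
    refine HomologicalComplex.shortExact_of_degreewise_shortExact _ fun n => ?_
    have : Mono ((ShortComplex.mk f g w).map (HomologicalComplex.eval _ _ n)).f :=
      (ModuleCat.mono_iff_injective _).2 (hinj n)
    have : Epi ((ShortComplex.mk f g w).map (HomologicalComplex.eval _ _ n)).g :=
      (ModuleCat.epi_iff_surjective _).2 (hsurj n)
    exact { exact := (ShortComplex.ShortExact.moduleCat_exact_iff_function_exact _).2 (hex n) }
  let δ : ∀ i, Hz i →ₗ[R] Hx (i + 1) := fun i =>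
    (ex (i + 1)).toLinearMap ∘ₗ (hS.δ i (i + 1) rfl).hom ∘ₗ (ez i).symm.toLinearMap
  have hp' : ∀ i, p i ∘ₗ (ex i).toLinearMap =
      (ey i).toLinearMap ∘ₗ (HomologicalComplex.homologyMap f i).hom := fun i =>
    LinearMap.ext (hp i)
  have hq' : ∀ i, q i ∘ₗ (ey i).toLinearMap =
      (ez i).toLinearMap ∘ₗ (HomologicalComplex.homologyMap g i).hom := fun i =>
    LinearMap.ext (hq i)
  have hd : ∀ i, δ i ∘ₗ (ez i).toLinearMap =
      (ex (i + 1)).toLinearMap ∘ₗ (hS.δ i (i + 1) rfl).hom := fun i =>
    LinearMap.ext fun x => by simp [δ]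
  refine ⟨δ, ?_, fun i => ?_, fun i => ?_, fun i => ?_⟩
  · have hmono : Function.Injective (HomologicalComplex.homologyMap f 0).hom := by
      have : Mono (f.f 0) := (ModuleCat.mono_iff_injective _).2 (hinj 0)
      have : Mono (HomologicalComplex.homologyMap f 0) := by
        have := X.isIso_homologyπ 0 0 (by simp) (by simp)
        have := Y.isIso_homologyπ 0 0 (by simp) (by simp)
        rw [← (IsIso.inv_comp_eq _).2 (HomologicalComplex.homologyπ_naturality f 0).symm]
        infer_instance
      exact (ModuleCat.mono_iff_injective _).1 this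
    intro x y h
    obtain ⟨x, rfl⟩ := (ex 0).surjective x
    obtain ⟨y, rfl⟩ := (ex 0).surjective y
    exact congrArg _ (hmono ((ey 0).injective ((hp 0 x).symm.trans (h.trans (hp 0 y)))))
  · exact (Function.Exact.iff_of_ladder_linearEquiv (hp' i) (hq' i)).2
      ((ShortComplex.ShortExact.moduleCat_exact_iff_function_exact _).1 (hS.homology_exact₂ i))
  · exact (Function.Exact.iff_of_ladder_linearEquiv (hq' i) (hd i)).2
      ((ShortComplex.ShortExact.moduleCat_exact_iff_function_exact _).1
        (hS.homology_exact₃ i (i + 1) rfl))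
  · exact (Function.Exact.iff_of_ladder_linearEquiv (hd i) (hp' (i + 1))).2
      ((ShortComplex.ShortExact.moduleCat_exact_iff_function_exact _).1
        (hS.homology_exact₁ i (i + 1) rfl))

end Complexes

section Functoriality

variable {M M' : ModuleCat.{u} R} (J : InjectiveResolution M) (J' : InjectiveResolution M')
  (K : Ideal R) {f : M ⟶ M'} (φ : J.cocomplex ⟶ J'.cocomplex)

lemma gammaCxIso_map (comm : J.ι.f 0 ≫ φ.f 0 = f ≫ J'.ι.f 0) (n : ℕ) :
    HomologicalComplex.homologyMap
        (((DRing.gammaI K).mapHomologicalComplex (ComplexShape.up ℕ)).map φ) n ≫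
      (gammaCxIso J' K n).hom = (gammaCxIso J K n).hom ≫ (localCohomology K n).map f := by
  have e1 := (lcAcRes K J).homologyIso_natural (lcAcRes K J') φ (lcDeltaSeq K) comm n
  have e2 := (NatTrans.mapHomologicalComplex (lcZeroIso K).inv (ComplexShape.up ℕ)).naturality φ
  refine (Category.assoc _ _ _).symm.trans (Eq.trans ?_
    ((congrArg (HomologicalComplex.homologyMap _ n ≫ ·) e1).trans (Category.assoc _ _ _).symm))
  refine Eq.trans ?_ (Category.assoc _ _ _)
  refine congrArg (· ≫ ((lcAcRes K J').homologyIso (lcDeltaSeq K) n).hom) ?_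
  exact (HomologicalComplex.homologyMap_comp _ _ n).symm.trans
    ((congrArg (fun t => HomologicalComplex.homologyMap t n) e2).trans
      (HomologicalComplex.homologyMap_comp _ _ n))

end Functoriality

section AwayFunctor

variable (b : R)

/-- The localization map, as a linear map. -/
noncomputable abbrev mkAway (M : ModuleCat.{u} R) : M →ₗ[R] LocalizedModule (Submonoid.powers b) M :=
  LocalizedModule.mkLinearMap (Submonoid.powers b) M

/-- Localization at an element, as an endofunctor. -/
noncomputable def awayFunctor : ModuleCat.{u} R ⥤ ModuleCat.{u} R where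
  obj M := awayObj b M
  map f := ModuleCat.ofHom (IsLocalizedModule.map (Submonoid.powers b) (mkAway b _)
    (mkAway b _) f.hom)
  map_id M := ModuleCat.hom_ext (IsLocalizedModule.map_id (Submonoid.powers b) (mkAway b M))
  map_comp {X Y Z} f g := ModuleCat.hom_ext (IsLocalizedModule.map_comp' (Submonoid.powers b)
    (mkAway b X) (mkAway b Y) (mkAway b Z) f.hom g.hom)

instance awayFunctor_additive : (awayFunctor (R := R) b).Additive where
  map_add {_ _ f g} := ModuleCat.hom_ext (map_add (IsLocalizedModule.map (Submonoid.powers b)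
    (mkAway b _) (mkAway b _)) f.hom g.hom)

/-- The canonical map to the localization. -/
noncomputable def awayUnit : 𝟭 (ModuleCat.{u} R) ⟶ awayFunctor b where
  app M := awayHom b M
  naturality M N f := ModuleCat.hom_ext (LinearMap.ext fun m =>
    (IsLocalizedModule.map_apply (Submonoid.powers b) (mkAway b M) (mkAway b N) f.hom m).symm)

lemma awayFunctor_exact (S : ShortComplex (ModuleCat.{u} R)) (hS : S.Exact) :
    (S.map (awayFunctor b)).Exact :=
  (ShortComplex.ShortExact.moduleCat_exact_iff_function_exact _).2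
    (IsLocalizedModule.map_exact (Submonoid.powers b) (mkAway b _) (mkAway b _)
      (mkAway b _) _ _
      ((ShortComplex.ShortExact.moduleCat_exact_iff_function_exact S).1 hS))

lemma awayFunctor_mono {M N : ModuleCat.{u} R} (f : M ⟶ N) (hf : Mono f) :
    Mono ((awayFunctor b).map f) :=
  (ModuleCat.mono_iff_injective _).2
    (IsLocalizedModule.map_injective (Submonoid.powers b) (mkAway b M) (mkAway b N) f.hom
      ((ModuleCat.mono_iff_injective _).1 hf))

lemma mem_torsionSub_span {M : Type u} [AddCommGroup M]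
    [Module R M] {x : M} :
    x ∈ DRing.torsionSub (Ideal.span {b}) M ↔ ∃ n : ℕ, b ^ n • x = 0 := by
  refine ⟨fun ⟨n, hn⟩ => ⟨n, hn _ (Ideal.pow_mem_pow (Ideal.mem_span_singleton_self b) n)⟩,
    fun ⟨n, hn⟩ => ⟨n, fun a ha => ?_⟩⟩
  rw [Ideal.span_singleton_pow, Ideal.mem_span_singleton'] at ha
  obtain ⟨c, rfl⟩ := ha
  rw [mul_smul, hn, smul_zero]

lemma awayHom_eq_zero_iff {M : ModuleCat.{u} R} (x : M) :
    (awayHom b M).hom x = 0 ↔ x ∈ DRing.torsionSub (Ideal.span {b}) M := by
  refine ⟨fun h => ker_awayHom b M h, fun h => ?_⟩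
  obtain ⟨n, hn⟩ := (mem_torsionSub_span b).1 h
  exact (IsLocalizedModule.eq_zero_iff (Submonoid.powers b) (mkAway b M)).2
    ⟨⟨b ^ n, n, rfl⟩, hn⟩

variable [IsNoetherianRing R]

/-- An injective module surjects onto its localization, with split kernel. -/
lemma exists_awayHom_section (E : ModuleCat.{u} R) [hE : CategoryTheory.Injective E] :
    ∃ s : awayObj b E ⟶ E, s ≫ awayHom b E = 𝟙 _ := by
  have hE' : Module.Injective R E := (Module.injective_iff_injective_object R E).2 hE
  have hsurj : Function.Surjective (awayHom b E).hom := by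
    intro q
    induction q using LocalizedModule.induction_on with
    | h m s =>
      obtain ⟨_, n, rfl⟩ := s
      have hbn : Function.Surjective
          fun q : E ⧸ DRing.torsionSub (Ideal.span {b}) E => b ^ n • q := by
        intro q
        induction n generalizing q with
        | zero => exact ⟨q, by simp⟩
        | succ k ih =>
          obtain ⟨y, hy⟩ := (smul_bijective_quotient_torsionSub E b).2 q
          obtain ⟨z, hz⟩ := ih y
          exact ⟨z, by
            simp only at hy hz ⊢
            rw [pow_succ', mul_smul, hz, hy]⟩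
      obtain ⟨q', hq'⟩ := hbn (Submodule.Quotient.mk m)
      obtain ⟨y, rfl⟩ := Submodule.Quotient.mk_surjective _ q'
      simp only [← Submodule.Quotient.mk_smul] at hq'
      obtain ⟨k, hk⟩ := (mem_torsionSub_span b).1 ((Submodule.Quotient.eq _).1 hq')
      refine ⟨y, ?_⟩
      show LocalizedModule.mk y 1 = LocalizedModule.mk m _
      refine LocalizedModule.mk_eq.2 ⟨⟨b ^ k, k, rfl⟩, ?_⟩
      simp only [Submonoid.smul_def, one_smul]
      rw [← sub_eq_zero, ← smul_sub]
      exact hk
  have hk : Module.Injective R (LinearMap.ker (awayHom b E).hom) := by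
    have he : LinearMap.ker (awayHom b E).hom = DRing.torsionSub (Ideal.span {b}) E :=
      Submodule.ext fun x => awayHom_eq_zero_iff b x
    rw [he]
    exact injective_torsionSub _ E
  obtain ⟨r, hr⟩ := hk.out (LinearMap.ker (awayHom b E).hom).subtype (Submodule.injective_subtype _)
    LinearMap.id
  let t : E →ₗ[R] E := LinearMap.id - (LinearMap.ker (awayHom b E).hom).subtype ∘ₗ r
  have ht : LinearMap.ker (awayHom b E).hom ≤ LinearMap.ker t := fun x hx => by
    have h := congrArg Subtype.val (hr ⟨x, hx⟩)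
    simp only [LinearMap.mem_ker, t, LinearMap.sub_apply, LinearMap.id_apply, LinearMap.comp_apply,
      Submodule.subtype_apply]
    exact sub_eq_zero.2 h.symm
  refine ⟨ModuleCat.ofHom (((LinearMap.ker (awayHom b E).hom).liftQ t ht) ∘ₗ
    (LinearMap.quotKerEquivOfSurjective (awayHom b E).hom hsurj).symm.toLinearMap), ?_⟩
  refine ModuleCat.hom_ext (LinearMap.ext fun q => ?_)
  obtain ⟨x, rfl⟩ := hsurj q
  show (awayHom b E).hom (((LinearMap.ker (awayHom b E).hom).liftQ t ht)
    ((LinearMap.quotKerEquivOfSurjective (awayHom b E).hom hsurj).symm ((awayHom b E).hom x))) = _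
  have e : (LinearMap.quotKerEquivOfSurjective (awayHom b E).hom hsurj).symm ((awayHom b E).hom x) =
      Submodule.Quotient.mk x := by
    rw [LinearEquiv.symm_apply_eq]
    rfl
  rw [e, Submodule.liftQ_apply]
  show (awayHom b E).hom (x - (r x).1) = (awayHom b E).hom x
  rw [map_sub, LinearMap.mem_ker.1 (r x).2, sub_zero]

lemma injective_awayObj (E : ModuleCat.{u} R) [CategoryTheory.Injective E] :
    CategoryTheory.Injective (awayObj b E) := by
  obtain ⟨s, hs⟩ := exists_awayHom_section b E
  refine ⟨fun g f _ => ⟨Injective.factorThru (g ≫ s) f ≫ awayHom b E, ?_⟩⟩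
  rw [← Category.assoc, Injective.comp_factorThru, Category.assoc, hs, Category.comp_id]

/-- The localization of an injective resolution. -/
noncomputable def awayResolution {M : ModuleCat.{u} R} (J : InjectiveResolution M) :
    InjectiveResolution (awayObj b M) :=
  injectiveResolutionMk (((awayFunctor b).mapHomologicalComplex _).obj J.cocomplex)
    (fun n => injective_awayObj b (J.cocomplex.X n)) ((awayFunctor b).map (J.ι.f 0))
    (((awayFunctor b).map_comp _ _).symm.trans
      ((congrArg (awayFunctor b).map J.ι_f_zero_comp_complex_d).trans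
        ((awayFunctor b).map_zero _ _)))
    (@awayFunctor_mono _ _ b _ _ (J.ι.f 0) (inferInstance : Mono (J.ι.f 0)))
    (awayFunctor_exact b (ShortComplex.mk _ _ J.ι_f_zero_comp_complex_d)
      (ShortComplex.exact_of_f_is_kernel _ J.isLimitKernelFork))
    (fun n => by
      rw [HomologicalComplex.exactAt_iff' _ n (n + 1) (n + 2) (by simp) (by simp)]
      exact awayFunctor_exact b _ (J.exact_succ n))

lemma awayResolution_ι {M : ModuleCat.{u} R} (J : InjectiveResolution M) :
    (awayResolution b J).ι.f 0 = (awayFunctor b).map (J.ι.f 0) :=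
  CochainComplex.fromSingle₀Equiv_symm_apply_f_zero (C := ((awayFunctor b).mapHomologicalComplex _).obj J.cocomplex) _ _

/-- The localization map of resolutions. -/
noncomputable def awayResolutionMap {M : ModuleCat.{u} R} (J : InjectiveResolution M) :
    J.cocomplex ⟶ (awayResolution b J).cocomplex where
  f n := (awayUnit b).app (J.cocomplex.X n)
  comm' i j _ := ((awayUnit b).naturality (J.cocomplex.d i j)).symm

variable (a : Ideal R)

/-- The long exact sequence of `a`, `a + (b)` and localization at `b`. -/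
theorem exists_lc_awaySeq (M : ModuleCat.{u} R) :
    ∃ δ : ∀ i, (localCohomology a i).obj (awayObj b M) →ₗ[R]
        (localCohomology (a ⊔ Ideal.span {b}) (i + 1)).obj M,
      Function.Injective ((Dual2.HmapOfLE (le_sup_left : a ≤ a ⊔ Ideal.span {b}) 0).app M).hom ∧
      (∀ i, Function.Exact ((Dual2.HmapOfLE (le_sup_left : a ≤ a ⊔ Ideal.span {b}) i).app M).hom
        ((localCohomology a i).map (awayHom b M)).hom) ∧
      (∀ i, Function.Exact ((localCohomology a i).map (awayHom b M)).hom (δ i)) ∧
      (∀ i, Function.Exact (δ i)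
        ((Dual2.HmapOfLE (le_sup_left : a ≤ a ⊔ Ideal.span {b}) (i + 1)).app M).hom) := by
  let J : InjectiveResolution M := injectiveResolution M
  let J' := awayResolution b J
  let g : gammaCx J a ⟶ gammaCx J' a :=
    ((DRing.gammaI a).mapHomologicalComplex (ComplexShape.up ℕ)).map (awayResolutionMap b J)
  refine exists_lesSeq (gammaCxMap J (le_sup_left : a ≤ a ⊔ Ideal.span {b})) g ?_ ?_ ?_
    (fun i => (gammaCxIso J (a ⊔ Ideal.span {b}) i).toLinearEquiv)
    (fun i => (gammaCxIso J a i).toLinearEquiv) (fun i => (gammaCxIso J' a i).toLinearEquiv)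
    (fun i => ((Dual2.HmapOfLE (le_sup_left : a ≤ a ⊔ Ideal.span {b}) i).app M).hom)
    (fun i => ((localCohomology a i).map (awayHom b M)).hom) ?_ ?_
  · intro n x y h
    exact Subtype.ext (congrArg (fun t => t.1) h :)
  · rintro n ⟨x, hx⟩
    constructor
    · intro h
      have h' : (awayHom b (J.cocomplex.X n)).hom x = 0 := congrArg (fun t => t.1) h
      exact ⟨⟨x, torsion_sup_of_both hx ((awayHom_eq_zero_iff b x).1 h')⟩, rfl⟩
    · rintro ⟨⟨y, hy⟩, e⟩
      have e' : y = x := congrArg (fun t => t.1) e
      subst e'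
      refine Subtype.ext ((awayHom_eq_zero_iff b (M := J.cocomplex.X n) y).2 ?_)
      obtain ⟨k, hk⟩ := hy
      exact ⟨k, fun r hr => hk r (Ideal.pow_right_mono le_sup_right k hr)⟩
  · rintro n ⟨q, hq⟩
    obtain ⟨s, hs⟩ := exists_awayHom_section b (J.cocomplex.X n) (hE := J.injective n)
    have key : ∀ q' : awayObj b (J.cocomplex.X n), q' ∈ DRing.torsionSub a (awayObj b (J.cocomplex.X n)) →
        ∃ x : DRing.torsionSub a (J.cocomplex.X n),
          (awayHom b (J.cocomplex.X n)).hom x.1 = q' := fun q' hq' =>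
      ⟨⟨s.hom q', DRing.map_mem_torsionSub a s.hom hq'⟩, ConcreteCategory.congr_hom hs q'⟩
    obtain ⟨x, hx⟩ := key q hq
    exact ⟨x, Subtype.ext hx⟩
  · intro i x
    exact (ConcreteCategory.congr_hom (gammaCxIso_natural J _ i) x).symm
  · intro i x
    have comm : J.ι.f 0 ≫ (awayResolutionMap b J).f 0 = awayHom b M ≫ J'.ι.f 0 :=
      ((awayUnit b).naturality (J.ι.f 0)).trans
        (congrArg (awayHom b M ≫ ·) (awayResolution_ι b J).symm)
    exact (ConcreteCategory.congr_hom (gammaCxIso_map J J' a _ comm i) x).symm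

variable {b} {a}

omit [IsNoetherianRing R] in
/-- `b` acts bijectively on local cohomology of a localization at `b`. -/
lemma smul_bijective_lc_away (M : ModuleCat.{u} R) (i : ℕ) :
    Function.Bijective fun x : (localCohomology a i).obj (awayObj b M) => b • x := by
  have : IsIso (b • 𝟙 (awayObj b M)) :=
    (ConcreteCategory.isIso_iff_bijective _).2 (awayObj_smul_bijective b M)
  have h := (asIso ((localCohomology a i).map (b • 𝟙 (awayObj b M)))).toLinearEquiv.bijective
  exact (funext fun x => lc_map_smul_id a i (awayObj b M) b x) ▸ h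

/-- The image of `H_{a+(b)} → H_a` is the `b`-power torsion. -/
theorem exists_HmapOfLE_eq_iff (M : ModuleCat.{u} R) (i : ℕ) (x : (localCohomology a i).obj M) :
    (∃ y, ((Dual2.HmapOfLE (le_sup_left : a ≤ a ⊔ Ideal.span {b}) i).app M).hom y = x) ↔
      ∃ n : ℕ, b ^ n • x = 0 := by
  obtain ⟨δ, -, hex, -, -⟩ := exists_lc_awaySeq b a M
  constructor
  · rintro ⟨y, rfl⟩
    obtain ⟨n, hn⟩ := isPowerTorsion_lc (a ⊔ Ideal.span {b}) i M y
    refine ⟨n, ?_⟩
    rw [← map_smul, hn _ (Ideal.pow_mem_pow (le_sup_right (a := a)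
      (Ideal.mem_span_singleton_self b)) n), map_zero]
  · rintro ⟨n, hn⟩
    refine ((hex i) x).1 ?_
    have key : ∀ k, b ^ k • ((localCohomology a i).map (awayHom b M)).hom x = 0 →
        ((localCohomology a i).map (awayHom b M)).hom x = 0 := by
      intro k
      induction k with
      | zero => simp
      | succ k ih =>
        intro h
        rw [pow_succ', mul_smul] at h
        exact ih ((smul_bijective_lc_away M i).1 (h.trans (smul_zero b).symm))
    refine key n ?_
    rw [← map_smul, hn, map_zero]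

/-- The cokernel of a map to a closed module with torsion kernel and cokernel. -/
theorem nonempty_cokerEquivH1 (I : Ideal R) {M M' : ModuleCat.{u} R} (e : M ⟶ M')
    (hk : LinearMap.ker e.hom ≤ DRing.torsionSub I M)
    (hc : LocCoh.IsPowerTorsion I (M' ⧸ LinearMap.range e.hom))
    (hb : Function.Bijective (LocCoh.toDT I M')) :
    Nonempty ((M' ⧸ LinearMap.range e.hom) ≃ₗ[R] (localCohomology I 1).obj M) := by
  let Ψ : (LocCoh.idealTransform I).obj M ≃ₗ[R] M' :=
    (LinearEquiv.ofBijective _ (transform_map_bijective I e hk hc)).trans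
      (LinearEquiv.ofBijective _ hb).symm
  have h : (LinearMap.range (LocCoh.toDT I M)).map (Ψ : _ →ₗ[R] M') = LinearMap.range e.hom := by
    rw [← LinearMap.range_comp]
    congr 1
    refine LinearMap.ext fun m => ?_
    show (LinearEquiv.ofBijective _ hb).symm _ = e.hom m
    rw [LinearEquiv.symm_apply_eq]
    exact toDT_naturality I e m
  exact ⟨(Submodule.Quotient.equiv _ _ Ψ h).symm.trans (cokerToDTEquiv I M)⟩

/-- The kernel of `H_{a+(b)} → H_a`. -/
theorem nonempty_ker_HmapOfLE_equiv (M : ModuleCat.{u} R) (i : ℕ) :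
    Nonempty (LinearMap.ker
        ((Dual2.HmapOfLE (le_sup_left : a ≤ a ⊔ Ideal.span {b}) (i + 1)).app M).hom ≃ₗ[R]
      (localCohomology (Ideal.span {b}) 1).obj ((localCohomology a i).obj M)) := by
  obtain ⟨δ, -, hex, hδ, hδ'⟩ := exists_lc_awaySeq b a M
  let θ := (localCohomology a i).map (awayHom b M)
  have hk : LinearMap.ker θ.hom ≤ DRing.torsionSub (Ideal.span {b}) _ := fun x hx =>
    (mem_torsionSub_span b).2 ((exists_HmapOfLE_eq_iff M i x).1 ((hex i x).1 hx))
  have e1 : LinearMap.range (δ i) = LinearMap.ker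
      ((Dual2.HmapOfLE (le_sup_left : a ≤ a ⊔ Ideal.span {b}) (i + 1)).app M).hom :=
    ((hδ' i).linearMap_ker_eq).symm
  let e2 : ((localCohomology a i).obj (awayObj b M) ⧸ LinearMap.range θ.hom) ≃ₗ[R]
      LinearMap.ker ((Dual2.HmapOfLE (le_sup_left : a ≤ a ⊔ Ideal.span {b}) (i + 1)).app M).hom :=
    (Submodule.quotEquivOfEq _ _ (hδ i).linearMap_ker_eq.symm).trans
      ((δ i).quotKerEquivRange.trans (LinearEquiv.ofEq _ _ e1))
  have hc : LocCoh.IsPowerTorsion (Ideal.span {b})
      ((localCohomology a i).obj (awayObj b M) ⧸ LinearMap.range θ.hom) := by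
    intro q
    obtain ⟨n, hn⟩ := isPowerTorsion_lc (a ⊔ Ideal.span {b}) (i + 1) M (e2 q).1
    refine ⟨n, fun r hr => e2.injective (Subtype.ext ?_)⟩
    rw [map_smul, map_zero]
    exact hn r (Ideal.pow_right_mono le_sup_right n hr)
  have hb : Function.Bijective
      (LocCoh.toDT (Ideal.span {b}) ((localCohomology a i).obj (awayObj b M))) := by
    refine toDT_bijective_of _ _ ?_ (lc_subsingleton_of_smul_bijective _ 1 _
      (Ideal.mem_span_singleton_self b) (smul_bijective_lc_away M i))
    rw [Submodule.eq_bot_iff]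
    intro x hx
    obtain ⟨n, hn⟩ := (mem_torsionSub_span b).1 hx
    induction n with
    | zero => simpa using hn
    | succ k ih =>
      rw [pow_succ', mul_smul] at hn
      exact ih ((smul_bijective_lc_away M i).1 (hn.trans (smul_zero b).symm))
  obtain ⟨e3⟩ := nonempty_cokerEquivH1 _ θ hk hc hb
  exact ⟨e2.symm.trans e3⟩

end AwayFunctor

end Groth.Agent.Lib.LocalCoh
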