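import Groth.Agent.Lib.LocalCoh.LocDepth
import Groth.Agent.Lib.LocalCoh.HeightChain
import Groth.Prelude.Def_W4bk5brsh7111920
import Mathlib.RingTheory.Ideal.AssociatedPrime.Localization

/-!
# Adjusted depths
-/

universe u

open IsLocalRing
open Groth.Agent.Lib.Depth

namespace Groth.Agent.Lib.LocalCoh.MinAdj

variable {R : Type u} [CommRing R]

open HeightChain in
/-- The height of `J/p` does not drop in a localisation missing `J`. -/
lemma height_map_mk_le_localization (S : Submonoid R) (P J : Ideal (Localization S)) [P.IsPrime]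
    [J.IsPrime] (hPJ : P ≤ J) :
    ((J.comap (algebraMap R (Localization S))).map
        (Ideal.Quotient.mk (P.comap (algebraMap R (Localization S))))).height ≤
      (J.map (Ideal.Quotient.mk P)).height := by
  let A := Localization S
  let p := P.comap (algebraMap R A)
  let j := J.comap (algebraMap R A)
  have hpj : p ≤ j := Ideal.comap_mono hPJ
  let x : PrimeSpectrum (R ⧸ p) := ⟨_, map_mk_isPrime hpj⟩
  let y : PrimeSpectrum (A ⧸ P) := ⟨_, map_mk_isPrime hPJ⟩
  refine le_trans (PrimeSpectrum.height_eq_orderHeight x).le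
    (le_trans ?_ (PrimeSpectrum.height_eq_orderHeight y).ge)
  rw [← WithBot.coe_le_coe, Order.height_eq_krullDim_Iic, Order.height_eq_krullDim_Iic]
  have hlej : ∀ z : Set.Iic x, z.1.asIdeal.comap (Ideal.Quotient.mk p) ≤ j := fun z =>
    (Ideal.comap_mono (z.2 : z.1.asIdeal ≤ x.asIdeal)).trans (comap_map_mk hpj).le
  have hdis : ∀ z : Set.Iic x, Disjoint (S : Set R) (z.1.asIdeal.comap (Ideal.Quotient.mk p) : Set R) :=
    fun z => Set.disjoint_left.2 fun a ha hb =>
      Ideal.IsPrime.ne_top (I := J) inferInstance (Ideal.eq_top_of_isUnit_mem _ (hlej z hb) (IsLocalization.map_units A ⟨a, ha⟩))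
  have hge : ∀ z : Set.Iic x, P ≤ (z.1.asIdeal.comap (Ideal.Quotient.mk p)).map (algebraMap R A) :=
    fun z => (IsLocalization.map_under S A P).symm.le.trans (Ideal.map_mono fun a ha => by
      rw [Ideal.mem_comap, Ideal.Quotient.eq_zero_iff_mem.2 ha]
      exact zero_mem _)
  let g : Set.Iic x → Set.Iic y := fun z =>
    have := IsLocalization.isPrime_of_isPrime_disjoint S A _ (inferInstanceAs
      (z.1.asIdeal.comap (Ideal.Quotient.mk p)).IsPrime) (hdis z)
    ⟨⟨_, map_mk_isPrime (hge z)⟩, Ideal.map_mono (Ideal.map_le_iff_le_comap.2 (hlej z))⟩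
  refine Order.krullDim_le_of_strictMono g fun z z' h => ?_
  refine lt_of_le_of_ne (Ideal.map_mono (Ideal.map_mono (Ideal.comap_mono h.le)) : _ ≤ _)
    fun he => h.ne (Subtype.ext (PrimeSpectrum.ext ?_))
  have h1 := congrArg (fun I => I.asIdeal.comap (Ideal.Quotient.mk P)) (congrArg Subtype.val he)
  simp only [g, comap_map_mk (hge z), comap_map_mk (hge z')] at h1
  have h2 := congrArg (fun I => Ideal.under R I) h1
  simp only [IsLocalization.under_map_of_isPrime_disjoint S A (inferInstanceAs
      (z.1.asIdeal.comap (Ideal.Quotient.mk p)).IsPrime) (hdis z),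
    IsLocalization.under_map_of_isPrime_disjoint S A (inferInstanceAs
      (z'.1.asIdeal.comap (Ideal.Quotient.mk p)).IsPrime) (hdis z')] at h2
  exact Ideal.comap_injective_of_surjective _ Ideal.Quotient.mk_surjective h2

variable (a : Ideal R) (M : Type u) [AddCommGroup M] [Module R M]

theorem adjDepth_comap_le (S : Submonoid R) (P : PrimeSpectrum (Localization S)) :
    LocCoh.adjDepth a M (PrimeSpectrum.comap (algebraMap R (Localization S)) P) ≤
      LocCoh.adjDepth (a.map (algebraMap R (Localization S))) (LocalizedModule S M) P := by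
  refine add_le_add (LocDepth.depth_eq S M P.asIdeal _ rfl).le ?_
  rw [Ideal.height_eq_inf_minimalPrimes (I := (a.map _ ⊔ P.asIdeal).map _)]
  refine le_iInf₂ fun K hK => ?_
  have := hK.1.1
  let J := K.comap (Ideal.Quotient.mk P.asIdeal)
  have hJP : P.asIdeal ≤ J := fun z hz => by
    rw [Ideal.mem_comap, Ideal.Quotient.eq_zero_iff_mem.2 hz]; exact zero_mem _
  have hKJ : K = J.map (Ideal.Quotient.mk P.asIdeal) :=
    (Ideal.map_comap_of_surjective _ Ideal.Quotient.mk_surjective K).symm
  rw [hKJ]
  refine le_trans (Ideal.height_mono (Ideal.map_mono ?_))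
    (height_map_mk_le_localization S P.asIdeal J hJP)
  refine sup_le ?_ (Ideal.comap_mono hJP)
  exact Ideal.map_le_iff_le_comap.1 (le_trans le_sup_left (Ideal.map_le_iff_le_comap.1 hK.1.2))

theorem minAdjDepth_le_localization (b : Ideal R) (S : Submonoid R) :
    LocCoh.minAdjDepth a b M ≤ LocCoh.minAdjDepth (a.map (algebraMap R (Localization S)))
      (b.map (algebraMap R (Localization S))) (LocalizedModule S M) :=
  le_iInf₂ fun P hP =>
    (iInf₂_le (PrimeSpectrum.comap (algebraMap R (Localization S)) P)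
      fun h => hP (Ideal.map_le_iff_le_comap.2 h)).trans (adjDepth_comap_le a M S P)

lemma adjDepth_eq_top_of_subsingleton (p : PrimeSpectrum R)
    [Subsingleton (LocalizedModule p.asIdeal.primeCompl M)] : LocCoh.adjDepth a M p = ⊤ := by
  rw [LocCoh.adjDepth, LocCoh.depth,
    Basic.idealDepth_subsingleton (M := LocalizedModule p.asIdeal.primeCompl M), top_add]

theorem adjDepth_le_of_between [IsNoetherianRing R] [Module.Finite R M] (p q : PrimeSpectrum R)
    (hq : q.asIdeal ∈ (a ⊔ p.asIdeal).minimalPrimes)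
    (hht : (q.asIdeal.map (Ideal.Quotient.mk p.asIdeal)).height =
      ((a ⊔ p.asIdeal).map (Ideal.Quotient.mk p.asIdeal)).height)
    (s : PrimeSpectrum R) (hps : p ≤ s) (hsq : s ≤ q) :
    LocCoh.adjDepth a M s ≤ LocCoh.adjDepth a M p := by
  unfold LocCoh.adjDepth
  refine (add_le_add (LocDepth.depth_le_depth_add_height M p.asIdeal s.asIdeal hps)
    (Ideal.height_mono (Ideal.map_mono (sup_le (le_sup_left.trans hq.1.2) hsq)))).trans ?_
  rw [add_assoc, ← hht]
  exact add_le_add le_rfl (HeightChain.height_map_add_le p.asIdeal s.asIdeal q.asIdeal hps hsq)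

section Quotient

variable (c : Ideal R) [Module (R ⧸ c) M] [IsScalarTower R (R ⧸ c) M]

lemma subsingleton_localized_of_not_le (p : PrimeSpectrum R) (hc : ¬ c ≤ p.asIdeal) :
    Subsingleton (LocalizedModule p.asIdeal.primeCompl M) := by
  obtain ⟨r, hr, hrp⟩ := Set.not_subset.1 hc
  refine LocalizedModule.subsingleton_iff.2 fun m => ⟨r, hrp, ?_⟩
  rw [← algebraMap_smul (R ⧸ c) r m, Ideal.Quotient.algebraMap_eq,
    Ideal.Quotient.eq_zero_iff_mem.2 hr, zero_smul]

theorem adjDepth_comap_quotient [IsNoetherianRing R] (P : PrimeSpectrum (R ⧸ c)) :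
    LocCoh.adjDepth a M (PrimeSpectrum.comap (Ideal.Quotient.mk c) P) =
      LocCoh.adjDepth (a.map (Ideal.Quotient.mk c)) M P := by
  let p := P.asIdeal.comap (Ideal.Quotient.mk c)
  have hcp : c ≤ p := fun z hz => by
    rw [Ideal.mem_comap, Ideal.Quotient.eq_zero_iff_mem.2 hz]; exact zero_mem _
  have hPmap : P.asIdeal = p.map (Ideal.Quotient.mk c) :=
    (Ideal.map_comap_of_surjective _ Ideal.Quotient.mk_surjective P.asIdeal).symm
  unfold LocCoh.adjDepth
  congr 1
  · let N := LocalizedModule P.asIdeal.primeCompl M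
    let Rp := Localization.AtPrime p
    let AP := Localization.AtPrime P.asIdeal
    let φ : Rp →+* AP := Localization.localRingHom p P.asIdeal (Ideal.Quotient.mk c) rfl
    let : Algebra Rp AP := φ.toAlgebra
    have : IsScalarTower R Rp AP := IsScalarTower.of_algebraMap_eq fun x => by
      show _ = Localization.localRingHom p P.asIdeal (Ideal.Quotient.mk c) rfl (algebraMap R Rp x)
      rw [Localization.localRingHom_to_map]
      rfl
    let : Module Rp N := Module.compHom N (algebraMap Rp AP)
    have : IsScalarTower Rp AP N := IsScalarTower.of_algebraMap_smul fun _ _ => rfl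
    have : IsScalarTower R Rp N := IsScalarTower.of_algebraMap_smul fun r x => by
      show algebraMap Rp AP (algebraMap R Rp r) • x = r • x
      rw [← IsScalarTower.algebraMap_apply, algebraMap_smul]
    let g : M →ₗ[R] N := (LocalizedModule.mkLinearMap P.asIdeal.primeCompl M).restrictScalars R
    have : IsLocalizedModule p.primeCompl g := by
      refine ⟨fun s => ?_, fun y => ?_, fun {x₁ x₂} h => ?_⟩
      · have h := IsLocalizedModule.map_units (LocalizedModule.mkLinearMap P.asIdeal.primeCompl M)
          (⟨Ideal.Quotient.mk c s.1, s.2⟩ : P.asIdeal.primeCompl)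
        rw [Module.End.isUnit_iff] at h ⊢
        convert h using 1
        funext x
        exact (algebraMap_smul (R ⧸ c) (s : R) x).symm
      · obtain ⟨⟨m, ⟨s, hs⟩⟩, h⟩ :=
          IsLocalizedModule.surj P.asIdeal.primeCompl (LocalizedModule.mkLinearMap P.asIdeal.primeCompl M) y
        obtain ⟨s, rfl⟩ := Ideal.Quotient.mk_surjective s
        refine ⟨⟨m, ⟨s, hs⟩⟩, Eq.trans ?_ h⟩
        exact (algebraMap_smul (R ⧸ c) s y).symm
      · obtain ⟨⟨s, hs⟩, h⟩ := IsLocalizedModule.exists_of_eq (S := P.asIdeal.primeCompl)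
          (f := LocalizedModule.mkLinearMap P.asIdeal.primeCompl M) h
        obtain ⟨s, rfl⟩ := Ideal.Quotient.mk_surjective s
        refine ⟨⟨s, hs⟩, ?_⟩
        exact (algebraMap_smul (R ⧸ c) s x₁).symm.trans (h.trans (algebraMap_smul (R ⧸ c) s x₂))
    have e : LocalizedModule p.primeCompl M ≃ₗ[Rp] N :=
      (IsLocalizedModule.linearEquiv p.primeCompl (LocalizedModule.mkLinearMap p.primeCompl M)
        g).extendScalarsOfIsLocalization p.primeCompl Rp
    have hsurj : Function.Surjective (algebraMap Rp AP) := fun z => by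
      obtain ⟨⟨x, ⟨t, ht⟩⟩, rfl⟩ := IsLocalization.mk'_surjective P.asIdeal.primeCompl z
      obtain ⟨x, rfl⟩ := Ideal.Quotient.mk_surjective x
      obtain ⟨t, rfl⟩ := Ideal.Quotient.mk_surjective t
      exact ⟨IsLocalization.mk' Rp x (⟨t, ht⟩ : p.primeCompl),
        Localization.localRingHom_mk' p P.asIdeal (Ideal.Quotient.mk c) rfl x ⟨t, ht⟩⟩
    exact (Basic.depth_congr e).trans (Basic.depth_eq_of_surjective hsurj)
  · let e := (Ideal.quotEquivOfEq hPmap).trans (DoubleQuot.quotQuotEquivQuotOfLE hcp)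
    rw [← e.height_map]
    congr 1
    have hcomm : (e : ((R ⧸ c) ⧸ P.asIdeal) →+* R ⧸ p).comp
        ((Ideal.Quotient.mk P.asIdeal).comp (Ideal.Quotient.mk c)) = Ideal.Quotient.mk p :=
      RingHom.ext fun z => rfl
    rw [show a.map (Ideal.Quotient.mk c) ⊔ P.asIdeal = (a ⊔ p).map (Ideal.Quotient.mk c) by
      rw [Ideal.map_sup, ← hPmap], ← Ideal.map_coe e, Ideal.map_map, Ideal.map_map,
      RingHom.comp_assoc, hcomm]
    rfl

theorem minAdjDepth_quotient [IsNoetherianRing R] (b : Ideal R) :
    LocCoh.minAdjDepth a b M =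
      LocCoh.minAdjDepth (a.map (Ideal.Quotient.mk c)) (b.map (Ideal.Quotient.mk c)) M := by
  refine le_antisymm (le_iInf₂ fun P hP => ?_) (le_iInf₂ fun p hp => ?_)
  · rw [← adjDepth_comap_quotient a M c P]
    exact iInf₂_le (PrimeSpectrum.comap (Ideal.Quotient.mk c) P)
      fun h => hP (Ideal.map_le_iff_le_comap.2 h)
  · by_cases hc : c ≤ p.asIdeal
    · let P : PrimeSpectrum (R ⧸ c) := ⟨_, HeightChain.map_mk_isPrime hc⟩
      have hcomap : PrimeSpectrum.comap (Ideal.Quotient.mk c) P = p :=
        PrimeSpectrum.ext (HeightChain.comap_map_mk hc)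
      have h := adjDepth_comap_quotient a M c P
      rw [hcomap] at h
      rw [h]
      refine iInf₂_le P fun h' => hp ?_
      exact (Ideal.le_comap_map).trans ((Ideal.comap_mono h').trans (HeightChain.comap_map_mk hc).le)
    · have := subsingleton_localized_of_not_le M c p hc
      rw [adjDepth_eq_top_of_subsingleton]
      exact le_top

end Quotient

section Torsion

variable [IsNoetherianRing R]

/-- The quotient by a submodule killed at `p` has the same adjusted depth at `p`. -/
lemma adjDepth_quotient_eq (N : Submodule R M) (p : PrimeSpectrum R)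
    (hN : ∀ x ∈ N, ∃ t ∉ p.asIdeal, t • x = 0) :
    LocCoh.adjDepth a (M ⧸ N) p = LocCoh.adjDepth a M p := by
  have hb : Function.Bijective (LocalizedModule.map p.asIdeal.primeCompl N.mkQ) := by
    refine ⟨(injective_iff_map_eq_zero _).2 fun z hz => ?_, fun z => ?_⟩
    · induction z using LocalizedModule.induction_on with
      | h m s =>
        rw [LocalizedModule.map_mk, ← LocalizedModule.zero_mk (1 : p.asIdeal.primeCompl),
          LocalizedModule.mk_eq] at hz
        obtain ⟨⟨t, ht⟩, h⟩ := hz
        simp only [smul_zero, Submonoid.smul_def, OneMemClass.coe_one, one_smul] at h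
        rw [← map_smul, Submodule.mkQ_apply, Submodule.Quotient.mk_eq_zero] at h
        obtain ⟨t', ht', h'⟩ := hN _ h
        rw [← LocalizedModule.zero_mk (1 : p.asIdeal.primeCompl), LocalizedModule.mk_eq]
        refine ⟨(⟨t', ht'⟩ : p.asIdeal.primeCompl) * ⟨t, ht⟩, ?_⟩
        simp only [smul_zero, Submonoid.smul_def, Submonoid.coe_mul, OneMemClass.coe_one, one_smul,
          mul_smul]
        exact h'
    · induction z using LocalizedModule.induction_on with
      | h m s =>
        obtain ⟨m, rfl⟩ := N.mkQ_surjective m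
        exact ⟨LocalizedModule.mk m s, LocalizedModule.map_mk _ _ _ _⟩
  unfold LocCoh.adjDepth
  rw [LocCoh.depth, LocCoh.depth, Basic.idealDepth_congr _ (LinearEquiv.ofBijective _ hb)]

lemma mem_iSup_torsionBy {I : Ideal R} {x : M}
    (hx : x ∈ ⨆ n : ℕ, LocCoh.torsionBy (I ^ n) M) : ∃ n, ∀ z ∈ I ^ n, z • x = 0 := by
  refine Submodule.iSup_induction (fun n => LocCoh.torsionBy (I ^ n) M)
    (motive := fun x => ∃ n, ∀ z ∈ I ^ n, z • x = 0) hx (fun n x hx => ⟨n, fun z hz => ?_⟩)
    ⟨0, fun z _ => smul_zero _⟩ ?_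
  · exact (Submodule.mem_torsionBySet_iff _ _).1 hx ⟨z, hz⟩
  · rintro x y ⟨n, hn⟩ ⟨m, hm⟩
    exact ⟨n + m, fun z hz => by
      rw [smul_add, hn z (Ideal.pow_le_pow_right (Nat.le_add_right _ _) hz),
        hm z (Ideal.pow_le_pow_right (Nat.le_add_left _ _) hz), add_zero]⟩

lemma exists_smul_eq_zero_of_not_le {I : Ideal R} {p : PrimeSpectrum R} (hI : ¬ I ≤ p.asIdeal)
    {x : M} (hx : x ∈ ⨆ n : ℕ, LocCoh.torsionBy (I ^ n) M) : ∃ t ∉ p.asIdeal, t • x = 0 := by
  obtain ⟨r, hr, hrp⟩ := Set.not_subset.1 hI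
  obtain ⟨n, hn⟩ := mem_iSup_torsionBy M hx
  exact ⟨r ^ n, fun h => hrp (p.2.mem_of_pow_mem n h), hn _ (Ideal.pow_mem_pow hr n)⟩

theorem minAdjDepth_quotient_torsion (b c : Ideal R) [Module.Finite R M] :
    (b ≤ c → LocCoh.minAdjDepth a b M =
        LocCoh.minAdjDepth a b (M ⧸ (⨆ n : ℕ, LocCoh.torsionBy (c ^ n) M))) ∧
      (0 < LocCoh.minAdjDepth a b M → LocCoh.minAdjDepth a b M =
        LocCoh.minAdjDepth a b (M ⧸ (⨆ n : ℕ, LocCoh.torsionBy (a ^ n) M))) := by
  constructor
  · exact fun hbc => iInf_congr fun p => iInf_congr fun hp =>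
      (adjDepth_quotient_eq a M _ p fun x hx =>
        exists_smul_eq_zero_of_not_le M (fun h => hp (hbc.trans h)) hx).symm
  · intro hpos
    refine iInf_congr fun p => iInf_congr fun hp => (adjDepth_quotient_eq a M _ p fun x hx => ?_).symm
    by_cases hap : a ≤ p.asIdeal
    swap
    · exact exists_smul_eq_zero_of_not_le M hap hx
    by_contra hc
    push Not at hc
    obtain ⟨n, hn⟩ := mem_iSup_torsionBy M hx
    have hann : Module.annihilator R (R ∙ x) ≤ p.asIdeal := fun t ht => by
      by_contra htp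
      exact hc t htp (congrArg Subtype.val
        (Module.mem_annihilator.1 ht ⟨x, Submodule.mem_span_singleton_self x⟩))
    obtain ⟨Q, hQ, hQp⟩ := Ideal.exists_minimalPrimes_le hann
    have hQass : Q ∈ associatedPrimes R M :=
      associatedPrimes.subset_of_injective (R ∙ x).injective_subtype
        (Module.associatedPrimes.minimalPrimes_annihilator_subset_associatedPrimes R _ hQ)
    have hQp' := hQ.1.1
    have haQ : a ≤ Q := fun z hz => hQp'.mem_of_pow_mem n (hQ.1.2 (Module.mem_annihilator.2 fun w => by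
      obtain ⟨r, hr⟩ := Submodule.mem_span_singleton.1 w.2
      refine Subtype.ext ?_
      rw [Submodule.coe_smul, ← hr, smul_comm, hn _ (Ideal.pow_mem_pow hz n), smul_zero]
      rfl))
    have hd : LocCoh.depth (Localization.AtPrime Q) (LocalizedModule Q.primeCompl M) = 0 := by
      let S := Localization.AtPrime Q
      let ψ := LocalizedModule.mkLinearMap Q.primeCompl M
      have := Module.Finite.of_isLocalizedModule Q.primeCompl (Rₚ := S) ψ
      have : IsNoetherianRing S := IsLocalization.isNoetherianRing Q.primeCompl _ inferInstance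
      have hm : maximalIdeal S ∈ associatedPrimes S (LocalizedModule Q.primeCompl M) := by
        rw [← Module.associatedPrimes.preimage_comap_associatedPrimes_eq_associatedPrimes_of_isLocalizedModule
          Q.primeCompl S ψ, Set.mem_preimage,
          show Ideal.comap (algebraMap R S) (maximalIdeal S) = Q from
            IsLocalization.AtPrime.under_maximalIdeal S Q]
        exact hQass
      have : Nontrivial (LocalizedModule Q.primeCompl M) := by
        by_contra h
        have := not_nontrivial_iff_subsingleton.mp h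
        simp [associatedPrimes.eq_empty_of_subsingleton] at hm
      exact (Assoc.depth_eq_zero_iff _).mpr hm
    have h0 : LocCoh.adjDepth a M ⟨Q, hQp'⟩ = 0 := by
      rw [LocCoh.adjDepth, hd, zero_add, sup_eq_right.2 haQ, Ideal.map_quotient_self]
      exact Ideal.height_bot
    exact absurd (hpos.trans_le (iInf₂_le (⟨Q, hQp'⟩ : PrimeSpectrum R) fun h => hp (h.trans hQp)))
      (by rw [h0]; exact lt_irrefl 0)

end Torsion

end Groth.Agent.Lib.LocalCoh.MinAdj
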