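import Groth.Agent.Lib.LocalCoh.Killed
import Groth.Agent.Lib.LocalCoh.Away
import Groth.Agent.Lib.LocalCoh.MinAdj
import Groth.Agent.Lib.Depth.LocalCoh

/-!
# The finiteness dimension is at most the adjusted depth
-/

universe u

open IsLocalRing CategoryTheory
open scoped Pointwise
open Groth.Agent.Lib Groth.Agent.Lib.LocalCoh.Killed Groth.Agent.Lib.LCFin

namespace Groth.Agent.Lib.LocalCoh.Faltings

open Groth.Agent.Lib.LocalCoh

variable {R : Type u} [CommRing R] [IsNoetherianRing R] [IsLocalRing R]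

/-- Primes over `p` are `p` or the maximal ideal. -/
def Cov (p : Ideal R) : Prop :=
  p ≠ maximalIdeal R ∧ ∀ P : Ideal R, P.IsPrime → p ≤ P → P = p ∨ P = maximalIdeal R

variable (a : Ideal R) (x : R) (p : Ideal R) [p.IsPrime]

/-- The first local cohomology of a one dimensional quotient is not killed. -/
theorem base (hcov : Cov p) (hap : ¬ a ≤ p) (ha : a ≠ ⊤) (hx : x ∉ p) (M : Type u) [AddCommGroup M]
    [Module R M] [Module.Finite R M] (hp : p ∈ associatedPrimes R M) :
    ¬ Killed (Ideal.span {x}) (LocCoh.H a 1 M) := by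
  intro hK
  obtain ⟨n, hn⟩ := hK (Ideal.mem_span_singleton_self x)
  obtain ⟨-, m, hm⟩ := isAssociatedPrime_iff.mp hp
  have hker : p = LinearMap.ker (LinearMap.toSpanSingleton R M m) := by
    ext t
    rw [hm, Submodule.mem_colon_singleton, Submodule.mem_bot, LinearMap.mem_ker,
      LinearMap.toSpanSingleton_apply]
  let f : (R ⧸ p) →ₗ[R] M := p.liftQ (LinearMap.toSpanSingleton R M m) hker.le
  have hf : Function.Injective f := LinearMap.ker_eq_bot.1 (Submodule.ker_liftQ_eq_bot _ _ _ hker.ge)
  have hg := (LinearMap.range f).mkQ_surjective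
  have hex := LinearMap.exact_map_mkQ_range f
  let H := LocCoh.H a 1 (R ⧸ p)
  let T := LinearMap.range (Seq.δ a hf hg hex 0)
  have hTfin : Module.Finite R T := by
    have : Module.Finite R ((DRing.gammaI a).obj (ModuleCat.of R (M ⧸ LinearMap.range f))) :=
      inferInstanceAs (Module.Finite R (DRing.torsionSub a (M ⧸ LinearMap.range f)))
    have : Module.Finite R (LocCoh.H a 0 (M ⧸ LinearMap.range f)) :=
      Module.Finite.equiv ((lcZeroIso a).app (ModuleCat.of R (M ⧸ LinearMap.range f))).toLinearEquiv.symm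
    exact Module.Finite.range _
  have hpow : ∀ z : H, x ^ n • z ∈ T := fun z => by
    refine (Seq.exact_δ_map a hf hg hex 0 _).1 ?_
    rw [map_smul, Module.mem_annihilator.1 hn]
  -- multiplication by an element outside `p` is surjective on `H`
  have hsurj : ∀ y : R, y ∉ p → Function.Surjective fun z : H => y • z := by
    intro y hy z
    have hμ : Function.Injective (LinearMap.lsmul R (R ⧸ p) y) := by
      rw [injective_iff_map_eq_zero]
      intro w hw
      obtain ⟨w, rfl⟩ := Submodule.Quotient.mk_surjective _ w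
      rw [LinearMap.lsmul_apply, ← Submodule.Quotient.mk_smul, Submodule.Quotient.mk_eq_zero,
        smul_eq_mul] at hw
      rw [Submodule.Quotient.mk_eq_zero]
      exact ((Ideal.IsPrime.mem_or_mem ‹_› hw).resolve_left hy)
    let N := LinearMap.range (LinearMap.lsmul R (R ⧸ p) y)
    have htor : LocCoh.IsPowerTorsion a ((R ⧸ p) ⧸ N) := by
      let J := p ⊔ Ideal.span {y}
      have hle : a ≤ J.radical := by
        rw [Ideal.radical_eq_sInf]
        refine le_sInf fun P hP => ?_
        rcases hcov.2 P hP.2 (le_sup_left.trans hP.1) with h | h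
        · exact absurd (h ▸ hP.1 (Ideal.mem_sup_right (Ideal.mem_span_singleton_self y))) hy
        · exact h ▸ le_maximalIdeal ha
      obtain ⟨k, hk⟩ := Ideal.exists_pow_le_of_le_radical_of_fg hle (IsNoetherian.noetherian a)
      intro w
      refine ⟨k, fun r hr => ?_⟩
      obtain ⟨w, rfl⟩ := Submodule.Quotient.mk_surjective _ w
      obtain ⟨w, rfl⟩ := Submodule.Quotient.mk_surjective _ w
      obtain ⟨u, hu, v, hv, rfl⟩ := Submodule.mem_sup.1 (hk hr)
      obtain ⟨v, rfl⟩ := Ideal.mem_span_singleton'.1 hv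
      rw [← Submodule.Quotient.mk_smul, Submodule.Quotient.mk_eq_zero]
      refine ⟨Submodule.Quotient.mk (v * w), ?_⟩
      rw [LinearMap.lsmul_apply, ← Submodule.Quotient.mk_smul, ← Submodule.Quotient.mk_smul,
        Submodule.Quotient.eq]
      simp only [smul_eq_mul]
      have e : y * (v * w) - (u + v * y) * w = -(u * w) := by ring
      rw [e]
      exact neg_mem (Ideal.mul_mem_right _ _ hu)
    have h0 : Subsingleton (LocCoh.H a 1 ((R ⧸ p) ⧸ N)) :=
      lc_subsingleton_of_isPowerTorsion a 0 (ModuleCat.of R ((R ⧸ p) ⧸ N)) htor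
    obtain ⟨z', hz'⟩ := (Seq.exact_map_map a hμ N.mkQ_surjective
      (LinearMap.exact_map_mkQ_range _) 1 z).1 (Subsingleton.elim _ _)
    exact ⟨z', (Seq.Hmap_lsmul a 1 y z').symm.trans hz'⟩
  have hHfin : Module.Finite R H := by
    have hT : T = ⊤ := eq_top_iff.2 fun z _ => by
      obtain ⟨z', rfl⟩ := hsurj (x ^ n) (fun h => hx (Ideal.IsPrime.mem_of_pow_mem ‹_› n h)) z
      exact hpow z'
    exact Module.Finite.equiv ((LinearEquiv.ofEq _ _ hT).trans Submodule.topEquiv)
  obtain ⟨y, hya, hyp⟩ := Set.not_subset.1 hap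
  have hH0 : Subsingleton H := by
    obtain ⟨s, hs⟩ := hHfin.1
    choose k hk using fun w : s => isPowerTorsion_lc a 1 (ModuleCat.of R (R ⧸ p)) w.1
    let K := Finset.univ.sup k
    refine subsingleton_of_forall_eq 0 fun z => ?_
    obtain ⟨z', rfl⟩ := hsurj (y ^ K) (fun h => hyp (Ideal.IsPrime.mem_of_pow_mem ‹_› K h)) z
    show y ^ K • z' = 0
    have hz' : z' ∈ Submodule.span R (s : Set H) := hs ▸ Submodule.mem_top
    induction hz' using Submodule.span_induction with
    | mem w hw =>
      exact hk ⟨w, hw⟩ _ (Ideal.pow_le_pow_right (Finset.le_sup (Finset.mem_univ _))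
        (Ideal.pow_mem_pow hya K))
    | zero => exact smul_zero _
    | add w₁ w₂ _ _ h₁ h₂ => rw [smul_add, h₁, h₂, add_zero]
    | smul c w _ h => rw [smul_comm, h, smul_zero]
  have hpne : Nontrivial (R ⧸ p) := Ideal.Quotient.nontrivial_iff.mpr Ideal.IsPrime.ne_top'
  have h00 : Subsingleton (LocCoh.H a 0 (R ⧸ p)) :=
    (Depth.LocalCoh.subsingleton_H_zero_iff a (ModuleCat.of R (R ⧸ p))).2 fun w ⟨k, hk⟩ => by
      obtain ⟨w, rfl⟩ := Submodule.Quotient.mk_surjective _ w
      have := hk _ (Ideal.pow_mem_pow hya k)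
      rw [← Submodule.Quotient.mk_smul, Submodule.Quotient.mk_eq_zero, smul_eq_mul] at this
      rw [Submodule.Quotient.mk_eq_zero]
      exact (Ideal.IsPrime.mem_or_mem ‹_› this).resolve_left
        fun h => hyp (Ideal.IsPrime.mem_of_pow_mem ‹_› k h)
  have h2 : ((2 : ℕ) : ℕ∞) ≤ LocCoh.idealDepth a (R ⧸ p) :=
    (Depth.LocalCoh.le_idealDepth_iff_H a (R ⧸ p) 2).2 fun i hi => by
      interval_cases i
      exacts [h00, hH0]
  have hle := h2.trans (Depth.Basic.idealDepth_mono (le_maximalIdeal ha)
    (Depth.Basic.smul_top_ne_top (M := R ⧸ p) (maximalIdeal.isMaximal R).ne_top))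
  have hass : p ∈ associatedPrimes R (R ⧸ p) := by
    rw [associatedPrimes.eq_singleton_of_isPrimary (Ideal.IsPrime.isPrimary ‹_›),
      (Ideal.IsPrime.radical ‹_›)]
    exact Set.mem_singleton _
  have h3 := (WithBot.coe_le_coe.2 hle).trans
    (Depth.Assoc.depth_le_ringKrullDim_quotient (R ⧸ p) hass)
  have h4 : ringKrullDim (R ⧸ p) ≤ 1 := by
    rw [ringKrullDim_quotient]
    rw [Order.krullDim_le_one_iff]
    intro P
    rcases hcov.2 _ P.1.2 P.2 with h | h
    · exact Or.inl fun Q _ => (h.trans_le Q.2 : P.1.asIdeal ≤ Q.1.asIdeal)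
    · exact Or.inr fun Q _ => ((le_maximalIdeal Q.1.2.ne_top).trans_eq h.symm : Q.1.asIdeal ≤ P.1.asIdeal)
  have := h3.trans h4
  rw [← WithBot.coe_one, WithBot.coe_le_coe] at this
  exact absurd this (by decide)

/-- Some local cohomology up to `depth M_p + 1` is not killed by a power of `x`. -/
theorem one_dim (hcov : Cov p) (hap : ¬ a ≤ p) (ha : a ≠ ⊤) (hx : x ∉ p) :
    ∀ (t : ℕ) (M : Type u) [AddCommGroup M] [Module R M] [Module.Finite R M],
      LocCoh.depth (Localization.AtPrime p) (LocalizedModule p.primeCompl M) = t →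
      ¬ (∀ i ≤ t + 1, Killed (Ideal.span {x}) (LocCoh.H a i M)) := by
  intro t
  induction t using Nat.strong_induction_on with
  | _ t ih =>
  intro M₀ _ _ _ hd₀ hK₀
  let Γ := DRing.torsionSub a M₀
  let M := M₀ ⧸ Γ
  obtain ⟨y, hya, hyp⟩ := Set.not_subset.1 hap
  have hΓp : ∀ w ∈ Γ, ∃ s ∉ p, s • w = 0 := fun w hw => by
    obtain ⟨k, hk⟩ := hw
    exact ⟨y ^ k, fun h => hyp (Ideal.IsPrime.mem_of_pow_mem ‹_› k h), hk _ (Ideal.pow_mem_pow hya k)⟩
  have hΓK : Killed (Ideal.span {x}) Γ :=
    of_surjective (f := ((lcZeroIso a).app (ModuleCat.of R M₀)).toLinearEquiv.toLinearMap)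
      (LinearEquiv.surjective _) (hK₀ 0 (by omega))
  have hK : ∀ i ≤ t + 1, Killed (Ideal.span {x}) (LocCoh.H a i M) := fun i hi =>
    (killed_H_quotient_iff a Γ hΓK i).2 (hK₀ i hi)
  have hd : LocCoh.depth (Localization.AtPrime p) (LocalizedModule p.primeCompl M) = t := by
    have hb : Function.Bijective (LocalizedModule.map p.primeCompl Γ.mkQ) := by
      refine ⟨(injective_iff_map_eq_zero _).2 fun z hz => ?_, fun z => ?_⟩
      · induction z using LocalizedModule.induction_on with
        | h w s =>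
          rw [LocalizedModule.map_mk, ← LocalizedModule.zero_mk (1 : p.primeCompl),
            LocalizedModule.mk_eq] at hz
          obtain ⟨r, h⟩ := hz
          simp only [smul_zero, Submonoid.smul_def, OneMemClass.coe_one, one_smul] at h
          rw [← map_smul, Submodule.mkQ_apply, Submodule.Quotient.mk_eq_zero] at h
          obtain ⟨s', hs', h'⟩ := hΓp _ h
          rw [← LocalizedModule.zero_mk (1 : p.primeCompl), LocalizedModule.mk_eq]
          refine ⟨(⟨s', hs'⟩ : p.primeCompl) * r, ?_⟩
          simp only [smul_zero, Submonoid.smul_def, Submonoid.coe_mul, OneMemClass.coe_one, one_smul,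
            mul_smul]
          exact h'
      · induction z using LocalizedModule.induction_on with
        | h w s =>
          obtain ⟨w, rfl⟩ := Γ.mkQ_surjective w
          exact ⟨LocalizedModule.mk w s, LocalizedModule.map_mk _ _ _ _⟩
    rw [← hd₀]
    exact (Depth.Basic.depth_congr (LinearEquiv.ofBijective _ hb)).symm
  have htf : DRing.torsionSub a M = ⊥ := LCFin.Cd.torsionSub_quotient_eq_bot a M₀
  have hna : ∀ Q ∈ associatedPrimes R M, ¬ a ≤ Q := fun Q hQ hle => by
    obtain ⟨hQp, w, hw⟩ := isAssociatedPrime_iff.mp hQ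
    have hw0 : w = 0 := (Submodule.mem_bot R).1 (htf ▸ (⟨1, fun r hr => by
      have := hle (by simpa using hr)
      rw [hw, Submodule.mem_colon_singleton] at this
      simpa using this⟩ : w ∈ DRing.torsionSub a M))
    exact hQp.ne_top ((Ideal.eq_top_iff_one _).mpr (by
      rw [hw, hw0, Submodule.mem_colon_singleton]; simp))
  by_cases hpM : p ∈ associatedPrimes R M
  · exact base a x p hcov hap ha hx M hpM (hK 1 (by omega))
  obtain ⟨z, hzp, hzreg⟩ : ∃ z ∈ p, IsSMulRegular M z := by
    rw [Depth.Assoc.exists_isSMulRegular_iff]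
    intro Q hQ hle
    rcases hcov.2 Q (IsAssociatedPrime.isPrime hQ) hle with h | h
    · exact hpM (h ▸ hQ)
    · exact hna Q hQ (h ▸ le_maximalIdeal ha)
  let S := Localization.AtPrime p
  let ψ := LocalizedModule.mkLinearMap p.primeCompl M
  have := Module.Finite.of_isLocalizedModule p.primeCompl (Rₚ := S) ψ
  have : IsNoetherianRing S := IsLocalization.isNoetherianRing p.primeCompl _ inferInstance
  have hzS : algebraMap R S z ∈ maximalIdeal S :=
    (IsLocalization.AtPrime.to_map_mem_maximal_iff S p z).mpr hzp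
  have hregS : IsSMulRegular (LocalizedModule p.primeCompl M) (algebraMap R S z) := by
    simpa using RingTheory.Sequence.IsWeaklyRegular.of_isLocalizedModule S p.primeCompl ψ
      ((RingTheory.Sequence.isWeaklyRegular_singleton_iff M z).mpr hzreg)
  have hd' : LocCoh.depth S (LocalizedModule p.primeCompl (QuotSMulTop z M)) + 1 = t := by
    rw [← hd, Depth.Basic.depth_congr (Depth.CM.quotSMulTopLocalizedEquiv p M z)]
    exact Depth.SES.idealDepth_quotSMulTop _ hzS hregS
  obtain ⟨e, he⟩ : ∃ e : ℕ, LocCoh.depth S (LocalizedModule p.primeCompl (QuotSMulTop z M)) = e :=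
    ⟨_, (ENat.natCast_toNat fun h => by simp [h] at hd').symm⟩
  rw [he] at hd'
  have het : e + 1 = t := by exact_mod_cast hd'
  refine ih e (by omega) (QuotSMulTop z M) he fun i hi => ?_
  have hμ : Function.Injective (LinearMap.lsmul R M z) := hzreg
  have hqs : Function.Surjective (z • (⊤ : Submodule R M)).mkQ := Submodule.mkQ_surjective _
  have hexact : Function.Exact (LinearMap.lsmul R M z) (z • (⊤ : Submodule R M)).mkQ := fun w => by
    rw [Submodule.mkQ_apply, Submodule.Quotient.mk_eq_zero,
      Submodule.mem_smul_pointwise_iff_exists]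
    simp
  exact of_exact (Seq.exact_map_δ a hμ hqs hexact i)
    (hK i (by omega)) (hK (i + 1) (by omega))

end Groth.Agent.Lib.LocalCoh.Faltings

namespace Groth.Agent.Lib.LocalCoh.Faltings

open Groth.Agent.Lib.LocalCoh HeightChain

variable {R : Type u} [CommRing R] [IsNoetherianRing R]

lemma killed_localized (a : Ideal R) (x : R) (q : Ideal R) [q.IsPrime] (M : Type u) [AddCommGroup M]
    [Module R M] (i : ℕ) (h : Killed (Ideal.span {x}) (LocCoh.H a i M)) :
    Killed (Ideal.span {algebraMap R (Localization.AtPrime q) x})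
      (LocCoh.H (a.map (algebraMap R (Localization.AtPrime q))) i
        (LocalizedModule q.primeCompl M)) := by
  obtain ⟨e⟩ := nonempty_lc_localizedModule_equiv a q.primeCompl M i
  refine of_surjective (f := e.toLinearMap) e.surjective ?_
  obtain ⟨n, hn⟩ := h (Ideal.mem_span_singleton_self x)
  rw [Killed, Ideal.span_singleton_le_iff_mem]
  refine ⟨n, Module.mem_annihilator.2 fun z => ?_⟩
  induction z using LocalizedModule.induction_on with
  | h m s =>
    rw [← map_pow, algebraMap_smul, LocalizedModule.smul'_mk, Module.mem_annihilator.1 hn,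
      LocalizedModule.zero_mk]

/-- Below `q` and above `p`, a prime avoiding `x` that is covered by `q`. -/
lemma exists_covered (p q : Ideal R) [p.IsPrime] [q.IsPrime] (hpq : p < q) (x : R) (hx : x ∉ p) :
    ∃ s : Ideal R, s.IsPrime ∧ p ≤ s ∧ s < q ∧ x ∉ s ∧
      ∀ P : Ideal R, P.IsPrime → s ≤ P → P ≤ q → P = s ∨ P = q := by
  obtain ⟨s, ⟨hsp, hps, hsq, hxs⟩, hmax⟩ := (wellFounded_gt (α := Ideal R)).has_min
    {s | s.IsPrime ∧ p ≤ s ∧ s < q ∧ x ∉ s} ⟨p, inferInstance, le_rfl, hpq, hx⟩
  refine ⟨s, hsp, hps, hsq, hxs, fun P hP hsP hPq => ?_⟩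
  by_contra hne
  push Not at hne
  have hlt : s < P := lt_of_le_of_ne hsP hne.1.symm
  have hPq' : P < q := lt_of_le_of_ne hPq hne.2
  let f := Ideal.Quotient.mk s
  have hmap : ∀ {J K : Ideal R}, s ≤ J → J < K → J.map f < K.map f := fun {J K} hJ hJK =>
    lt_of_le_of_ne (Ideal.map_mono hJK.le) fun h => hJK.ne (by
      have := congrArg (Ideal.comap f) h
      rwa [comap_map_mk hJ, comap_map_mk (hJ.trans hJK.le)] at this)
  have h2 : (2 : ℕ∞) ≤ (q.map f).height := by
    have := map_mk_isPrime (le_refl s)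
    have := map_mk_isPrime hsP
    have := map_mk_isPrime hsq.le
    have h1 := Ideal.height_strict_mono_of_isPrime (hmap le_rfl hlt)
    have h2 := Ideal.height_strict_mono_of_isPrime (hmap hsP hPq')
    calc (2 : ℕ∞) = 1 + 1 := rfl
      _ ≤ (P.map f).height + 1 := add_le_add ((Order.one_le_iff_pos).2 (bot_le.trans_lt h1)) le_rfl
      _ ≤ _ := Order.add_one_le_of_lt h2
  obtain ⟨y, hyq, hy⟩ : ∃ y ∈ q, ∀ J ∈ (s ⊔ Ideal.span {x}).minimalPrimes, y ∉ J := by
    by_contra hc
    push Not at hc
    have hfin := Ideal.finite_minimalPrimes_of_isNoetherianRing R (s ⊔ Ideal.span {x})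
    obtain ⟨J, hJ, hqJ⟩ := (Ideal.subset_union_prime_finite hfin ⊥ ⊥ (f := id)
      fun J hJ _ _ => hJ.1.1).1 fun y hy => by
        obtain ⟨J, hJ, hyJ⟩ := hc y hy
        exact Set.mem_iUnion₂_of_mem hJ hyJ
    have hle := (Ideal.height_mono (Ideal.map_mono hqJ)).trans
      (Ideal.map_height_le_one_of_mem_minimalPrimes hJ)
    exact absurd (h2.trans hle) (by decide)
  have hsy : s ⊔ Ideal.span {y} ≤ q := sup_le hsq.le ((Ideal.span_singleton_le_iff_mem _).2 hyq)
  obtain ⟨J, hJ, hJq⟩ := Ideal.exists_minimalPrimes_le hsy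
  have := hJ.1.1
  have hJ1 := Ideal.map_height_le_one_of_mem_minimalPrimes hJ
  have hsJ : s ≤ J := le_sup_left.trans hJ.1.2
  have hyJ : y ∈ J := hJ.1.2 (Ideal.mem_sup_right (Ideal.mem_span_singleton_self y))
  have hJne : J ≠ q := fun h => absurd (h2.trans (h ▸ hJ1)) (by decide)
  have hxJ : x ∉ J := by
    intro hxJ
    obtain ⟨J', hJ', hJJ'⟩ := Ideal.exists_minimalPrimes_le
      (sup_le hsJ ((Ideal.span_singleton_le_iff_mem _).2 hxJ) : s ⊔ Ideal.span {x} ≤ J)
    have := hJ'.1.1
    have hlt' : J' < J := lt_of_le_of_ne hJJ' fun h => hy J' hJ' (h ▸ hyJ)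
    have hsJ' : s ≤ J' := le_sup_left.trans hJ'.1.2
    have hne' : s < J' := lt_of_le_of_ne hsJ' fun h =>
      hxs (h ▸ hJ'.1.2 (Ideal.mem_sup_right (Ideal.mem_span_singleton_self x)))
    have := map_mk_isPrime (le_refl s)
    have := map_mk_isPrime hsJ'
    have := map_mk_isPrime hsJ
    have h1 := Ideal.height_strict_mono_of_isPrime (hmap le_rfl hne')
    have h3 := (Ideal.height_strict_mono_of_isPrime (hmap hsJ' hlt')).trans_le hJ1
    rw [Order.lt_one_iff.1 h3] at h1
    exact not_lt_bot h1
  have hsltJ : s < J := lt_of_le_of_ne hsJ fun h => by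
    obtain ⟨J', hJ', -⟩ := Ideal.exists_minimalPrimes_le
      (sup_le hsq.le ((Ideal.span_singleton_le_iff_mem _).2
        (show x ∈ q by
          by_contra hxq
          exact hmax P ⟨hP, hps.trans hsP, hPq', fun hxP => hxq (hPq hxP)⟩ hlt)))
    exact hy J' hJ' (hJ'.1.2 (Ideal.mem_sup_left (h ▸ hyJ)))
  exact hmax J ⟨inferInstance, hps.trans hsJ, lt_of_le_of_ne hJq hJne, hxJ⟩ hsltJ

theorem finDimRel_le_minAdjDepth (a b : Ideal R) (M : Type u) [AddCommGroup M] [Module R M]
    [Module.Finite R M] : LocCoh.finDimRel a b M ≤ LocCoh.minAdjDepth a b M := by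
  refine le_iInf₂ fun p hb => not_lt.1 fun hlt => ?_
  obtain ⟨x, hxb, hxp⟩ := Set.not_subset.1 hb
  unfold LocCoh.adjDepth at hlt
  obtain ⟨t, ht⟩ := ENat.ne_top_iff_exists.1
    (fun h => hlt.ne_top (by rw [h, top_add]) :
      LocCoh.depth (Localization.AtPrime p.asIdeal) (LocalizedModule p.asIdeal.primeCompl M) ≠ ⊤)
  obtain ⟨h, hh⟩ := ENat.ne_top_iff_exists.1
    (fun h => hlt.ne_top (by rw [h, add_top]) :
      ((a ⊔ p.asIdeal).map (Ideal.Quotient.mk p.asIdeal)).height ≠ ⊤)
  rw [← ht, ← hh] at hlt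
  have hK : ∀ i ≤ t + h, Killed (Ideal.span {x}) (LocCoh.H a i M) := fun i hi => by
    refine le_trans ((Ideal.span_singleton_le_iff_mem _).2 hxb) (le_iff a M i (lt_of_le_of_lt ?_ hlt))
    exact_mod_cast hi
  obtain ⟨Q, hQ, hIQ, hQh⟩ := Ideal.exists_isPrime_height_eq hh.symm
  obtain ⟨Q', hQ', hQQ⟩ := Ideal.exists_minimalPrimes_le hIQ
  have := hQ'.1.1
  let q := Q'.comap (Ideal.Quotient.mk p.asIdeal)
  have hpq : p.asIdeal ≤ q := fun z hz => by
    rw [Ideal.mem_comap, Ideal.Quotient.eq_zero_iff_mem.2 hz]; exact zero_mem _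
  have hq' : q.map (Ideal.Quotient.mk p.asIdeal) = Q' :=
    Ideal.map_comap_of_surjective _ Ideal.Quotient.mk_surjective Q'
  have hqh : Q'.height = h :=
    le_antisymm (hQh ▸ Ideal.height_mono hQQ) (hh.le.trans (Ideal.height_mono hQ'.1.2))
  have hapq : a ⊔ p.asIdeal ≤ q := Ideal.map_le_iff_le_comap.1 hQ'.1.2
  have hmin : ∀ P : Ideal R, P.IsPrime → a ⊔ p.asIdeal ≤ P → P ≤ q → q ≤ P := fun P hP h1 h2 =>
    have := map_mk_isPrime (J := P) (le_sup_right.trans h1)
    (Ideal.comap_mono (hQ'.2 ⟨this, Ideal.map_mono h1⟩ ((Ideal.map_mono h2).trans hq'.le)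
      : _ ≤ _)).trans (comap_map_mk (le_sup_right.trans h1)).le
  rcases eq_or_lt_of_le hpq with hpq' | hpq'
  · -- the adjusted depth is the depth
    let S := Localization.AtPrime p.asIdeal
    have hxu : IsUnit (algebraMap R S x) :=
      IsLocalization.map_units S (⟨x, hxp⟩ : p.asIdeal.primeCompl)
    have : IsNoetherianRing S := IsLocalization.isNoetherianRing p.asIdeal.primeCompl _ inferInstance
    have := Module.Finite.of_isLocalizedModule p.asIdeal.primeCompl (Rₚ := S)
      (LocalizedModule.mkLinearMap p.asIdeal.primeCompl M)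
    have hsub : ∀ i < t + 1, Subsingleton (LocCoh.H (a.map (algebraMap R S)) i
        (LocalizedModule p.asIdeal.primeCompl M)) := fun i hi => by
      obtain ⟨n, hn⟩ := killed_localized a x p.asIdeal M i (hK i (by omega))
        (Ideal.mem_span_singleton_self _)
      refine subsingleton_of_forall_eq 0 fun z => ?_
      exact (hxu.pow n).smul_eq_zero.1 (Module.mem_annihilator.1 hn z)
    have hle : a.map (algebraMap R S) ≤ maximalIdeal S := by
      rw [Ideal.map_le_iff_le_comap]
      exact (le_sup_left.trans hapq).trans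
        (hpq'.symm.le.trans (IsLocalization.AtPrime.under_maximalIdeal S p.asIdeal).ge)
    have hnt : Nontrivial (LocalizedModule p.asIdeal.primeCompl M) := by
      by_contra hc
      have := not_nontrivial_iff_subsingleton.mp hc
      rw [LocCoh.depth,
        Depth.Basic.idealDepth_subsingleton (M := LocalizedModule p.asIdeal.primeCompl M)] at ht
      exact ENat.natCast_ne_top t ht
    have := ((Depth.LocalCoh.le_idealDepth_iff_H (a.map (algebraMap R S))
      (LocalizedModule p.asIdeal.primeCompl M) (t + 1)).2 hsub).trans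
      (Depth.Basic.idealDepth_mono hle
        (Depth.Basic.smul_top_ne_top (maximalIdeal.isMaximal S).ne_top))
    change _ ≤ LocCoh.depth S _ at this
    rw [← ht, Nat.cast_le] at this
    omega
  obtain ⟨s, hsp, hps, hsq, hxs, hcov⟩ := exists_covered p.asIdeal q hpq' x hxp
  have hds : LocCoh.depth (Localization.AtPrime s) (LocalizedModule s.primeCompl M) + 1 ≤
      ((t + h : ℕ) : ℕ∞) := by
    have := map_mk_isPrime hps
    have h1 : s.map (Ideal.Quotient.mk p.asIdeal) < Q' := lt_of_le_of_ne
      ((Ideal.map_mono hsq.le).trans hq'.le) fun e => hsq.ne (by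
        rw [← comap_map_mk hps, e])
    refine (add_le_add (LocDepth.depth_le_depth_add_height M p.asIdeal s hps) le_rfl).trans ?_
    rw [← ht, add_assoc, Nat.cast_add]
    exact add_le_add le_rfl (hqh ▸ Order.add_one_le_of_lt (Ideal.height_strict_mono_of_isPrime h1))
  obtain ⟨d, hd⟩ := ENat.ne_top_iff_exists.1 (fun e => by
    rw [e, top_add, top_le_iff] at hds
    exact ENat.natCast_ne_top _ hds :
      LocCoh.depth (Localization.AtPrime s) (LocalizedModule s.primeCompl M) ≠ ⊤)
  rw [← hd] at hds
  have hd1 : d + 1 ≤ t + h := by exact_mod_cast hds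
  let S := Localization.AtPrime q
  have : IsNoetherianRing S := IsLocalization.isNoetherianRing q.primeCompl _ inferInstance
  have := Module.Finite.of_isLocalizedModule q.primeCompl (Rₚ := S)
    (LocalizedModule.mkLinearMap q.primeCompl M)
  have hdisj : Disjoint (q.primeCompl : Set R) (s : Set R) :=
    Set.disjoint_left.mpr fun z hz hz' => hz (hsq.le hz')
  have hsS : (s.map (algebraMap R S)).IsPrime :=
    IsLocalization.isPrime_of_isPrime_disjoint q.primeCompl S s hsp hdisj
  have hunder : (s.map (algebraMap R S)).comap (algebraMap R S) = s :=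
    IsLocalization.under_map_of_isPrime_disjoint q.primeCompl S hsp hdisj
  refine one_dim (a.map (algebraMap R S)) (algebraMap R S x) (s.map (algebraMap R S)) ⟨?_, ?_⟩
    ?_ ?_ ?_ d (LocalizedModule q.primeCompl M) ?_ fun i hi => killed_localized a x q M i (hK i (by omega))
  · intro e
    have := congrArg (Ideal.comap (algebraMap R S)) e
    rw [hunder] at this
    exact hsq.ne (this.trans (IsLocalization.AtPrime.under_maximalIdeal S q))
  · intro P hP hsP
    have h2 : P.comap (algebraMap R S) ≤ q :=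
      (Ideal.comap_mono (le_maximalIdeal hP.ne_top)).trans
        (IsLocalization.AtPrime.under_maximalIdeal S q).le
    rw [← IsLocalization.map_under q.primeCompl S P]
    rcases hcov _ (hP.comap _) (Ideal.map_le_iff_le_comap.1 hsP) h2 with e | e
    · exact Or.inl (congrArg _ e)
    · exact Or.inr ((congrArg _ e).trans (IsLocalization.AtPrime.map_eq_maximalIdeal q S))
  · intro e
    have h1 : a ≤ s := (Ideal.map_le_iff_le_comap.1 e).trans hunder.le
    exact hsq.not_ge (hmin s hsp (sup_le h1 hps) hsq.le)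
  · refine ne_top_of_le_ne_top (maximalIdeal.isMaximal S).ne_top (Ideal.map_le_iff_le_comap.2 ?_)
    exact (le_sup_left.trans hapq).trans (IsLocalization.AtPrime.under_maximalIdeal S q).ge
  · exact fun e => hxs (hunder.le e)
  · rw [hd]
    exact (LocDepth.depth_eq q.primeCompl M _ s hunder).symm

end Groth.Agent.Lib.LocalCoh.Faltings

namespace Groth.Agent.Lib.LocalCoh.Faltings

open Groth.Agent.Lib.LocalCoh HeightChain

variable {R : Type u} [CommRing R] [IsNoetherianRing R]

theorem not_killed_H_one (a b : Ideal R) (M : Type u) [AddCommGroup M] [Module R M]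
    [Module.Finite R M] (p : Ideal R) [p.IsPrime] (hp : p ∈ associatedPrimes R M) (hb : ¬ b ≤ p)
    (hht : ((a ⊔ p).map (Ideal.Quotient.mk p)).height = 1) :
    ¬ b ≤ (Module.annihilator R (LocCoh.H a 1 M)).radical := by
  intro hK
  obtain ⟨x, hxb, hxp⟩ := Set.not_subset.1 hb
  have hKx : Killed (Ideal.span {x}) (LocCoh.H a 1 M) :=
    le_trans ((Ideal.span_singleton_le_iff_mem _).2 hxb) hK
  obtain ⟨Q, hQ, hIQ, hQh⟩ := Ideal.exists_isPrime_height_eq (n := 1) (by simpa using hht)
  let q := Q.comap (Ideal.Quotient.mk p)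
  have hpq : p ≤ q := fun z hz => by
    rw [Ideal.mem_comap, Ideal.Quotient.eq_zero_iff_mem.2 hz]; exact zero_mem _
  have hq' : q.map (Ideal.Quotient.mk p) = Q :=
    Ideal.map_comap_of_surjective _ Ideal.Quotient.mk_surjective Q
  have hapq : a ⊔ p ≤ q := Ideal.map_le_iff_le_comap.1 hIQ
  have hap : ¬ a ≤ p := fun h => by
    rw [sup_eq_right.2 h, Ideal.map_quotient_self, Ideal.height_bot] at hht
    exact zero_ne_one hht
  have hlt : p < q := lt_of_le_of_ne hpq fun h => hap ((le_sup_left.trans hapq).trans h.ge)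
  let S := Localization.AtPrime q
  have : IsNoetherianRing S := IsLocalization.isNoetherianRing q.primeCompl _ inferInstance
  have := Module.Finite.of_isLocalizedModule q.primeCompl (Rₚ := S)
    (LocalizedModule.mkLinearMap q.primeCompl M)
  have hdisj : Disjoint (q.primeCompl : Set R) (p : Set R) :=
    Set.disjoint_left.mpr fun z hz hz' => hz (hlt.le hz')
  have hpS : (p.map (algebraMap R S)).IsPrime :=
    IsLocalization.isPrime_of_isPrime_disjoint q.primeCompl S p inferInstance hdisj
  have hunder : (p.map (algebraMap R S)).comap (algebraMap R S) = p :=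
    IsLocalization.under_map_of_isPrime_disjoint q.primeCompl S inferInstance hdisj
  refine base (a.map (algebraMap R S)) (algebraMap R S x) (p.map (algebraMap R S)) ⟨?_, ?_⟩
    ?_ ?_ ?_ (LocalizedModule q.primeCompl M) ?_ (killed_localized a x q M 1 hKx)
  · intro e
    have := congrArg (Ideal.comap (algebraMap R S)) e
    rw [hunder] at this
    exact hlt.ne (this.trans (IsLocalization.AtPrime.under_maximalIdeal S q))
  · intro P hP hpP
    have h1 : p ≤ P.comap (algebraMap R S) := Ideal.map_le_iff_le_comap.1 hpP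
    have h2 : P.comap (algebraMap R S) ≤ q :=
      (Ideal.comap_mono (le_maximalIdeal hP.ne_top)).trans
        (IsLocalization.AtPrime.under_maximalIdeal S q).le
    rw [← IsLocalization.map_under q.primeCompl S P]
    by_contra hne
    push Not at hne
    have hlt₁ : p < P.comap (algebraMap R S) := lt_of_le_of_ne h1 fun e => hne.1 (congrArg _ e.symm)
    have hlt₂ : P.comap (algebraMap R S) < q := lt_of_le_of_ne h2 fun e =>
      hne.2 ((congrArg _ e).trans (IsLocalization.AtPrime.map_eq_maximalIdeal q S))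
    have := map_mk_isPrime (le_refl p)
    have := map_mk_isPrime h1
    have := map_mk_isPrime hpq
    have hmap : ∀ {J K : Ideal R}, p ≤ J → J < K →
        J.map (Ideal.Quotient.mk p) < K.map (Ideal.Quotient.mk p) := fun {J K} hJ hJK =>
      lt_of_le_of_ne (Ideal.map_mono hJK.le) fun h => hJK.ne (by
        have := congrArg (Ideal.comap (Ideal.Quotient.mk p)) h
        rwa [comap_map_mk hJ, comap_map_mk (hJ.trans hJK.le)] at this)
    have h3 := Ideal.height_strict_mono_of_isPrime (hmap le_rfl hlt₁)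
    have h4 := Ideal.height_strict_mono_of_isPrime (hmap h1 hlt₂)
    rw [hq', hQh, Nat.cast_one, Order.lt_one_iff] at h4
    rw [h4] at h3
    exact not_lt_bot h3
  · intro e
    exact hap ((Ideal.map_le_iff_le_comap.1 e).trans hunder.le)
  · refine ne_top_of_le_ne_top (maximalIdeal.isMaximal S).ne_top (Ideal.map_le_iff_le_comap.2 ?_)
    exact (le_sup_left.trans hapq).trans (IsLocalization.AtPrime.under_maximalIdeal S q).ge
  · exact fun e => hxp (hunder.le e)
  · rw [← Module.associatedPrimes.preimage_comap_associatedPrimes_eq_associatedPrimes_of_isLocalizedModule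
      q.primeCompl S (LocalizedModule.mkLinearMap q.primeCompl M), Set.mem_preimage, hunder]
    exact hp

end Groth.Agent.Lib.LocalCoh.Faltings
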