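import Groth.Agent.Lib.LocalCoh.Local
import Groth.Agent.Lib.LCFin.Top
import Mathlib.RingTheory.Ideal.KrullsHeightTheorem

/-!
# Non-vanishing of local cohomology at the heights of minimal primes
-/

universe u

open scoped TensorProduct

namespace Groth.Agent.Lib.LocalCoh.Height

variable {R : Type u} [CommRing R] [IsNoetherianRing R]

theorem nontrivial_map_of_minimalPrimes (I p : Ideal R) [p.IsPrime] (hp : p ∈ I.minimalPrimes)
    (n : ℕ) (hn : p.height = n) :
    Nontrivial (LocCoh.H (I.map (algebraMap R (Localization.AtPrime p))) n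
      (Localization.AtPrime p)) := by
  have : IsNoetherianRing (Localization.AtPrime p) :=
    IsLocalization.isNoetherianRing p.primeCompl _ inferInstance
  refine LCFin.Top.not_cdLE_of_radical_eq _ ?_ n ?_
  · rw [IsLocalization.AtPrime.radical_map_of_mem_minimalPrimes (A := Localization.AtPrime p) p I hp,
      IsLocalization.AtPrime.map_eq_maximalIdeal p (Localization.AtPrime p)]
  · rw [IsLocalization.AtPrime.ringKrullDim_eq_height p (Localization.AtPrime p), hn]
    rfl

theorem nontrivial_H_of_minimalPrimes (I p : Ideal R) [p.IsPrime] (hp : p ∈ I.minimalPrimes)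
    (n : ℕ) (hn : p.height = n) : Nontrivial (LocCoh.H I n R) := by
  by_contra hc
  rw [not_nontrivial_iff_subsingleton] at hc
  obtain ⟨e⟩ := nonempty_lc_localizedModule_equiv I p.primeCompl R n
  have h1 : Subsingleton (LocalizedModule p.primeCompl (LocCoh.H I n R)) :=
    ⟨fun a b => by
      induction a using LocalizedModule.induction_on with
      | h x s => induction b using LocalizedModule.induction_on with
        | h y t => rw [LocalizedModule.mk_eq]; exact ⟨1, Subsingleton.elim _ _⟩⟩
  have e' : LocalizedModule p.primeCompl R ≃ₗ[Localization.AtPrime p] Localization.AtPrime p :=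
    (LocalizedModule.equivTensorProduct p.primeCompl R).trans
      (TensorProduct.AlgebraTensorModule.rid R (Localization.AtPrime p) (Localization.AtPrime p))
  have := (nontrivial_map_of_minimalPrimes I p hp n hn)
  have h2 : Subsingleton (LocCoh.H (I.map (algebraMap R (Localization.AtPrime p))) n
      (LocalizedModule p.primeCompl R)) := e.toEquiv.symm.subsingleton
  exact not_subsingleton (LocCoh.H (I.map (algebraMap R (Localization.AtPrime p))) n (Localization.AtPrime p))
    (lcLinearEquiv (I.map (algebraMap R (Localization.AtPrime p))) n e').toEquiv.symm.subsingleton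

theorem nontrivial_H_height (I : Ideal R) (h : ℕ) (hh : I.height = h) :
    Nontrivial (LocCoh.H I h R) := by
  obtain ⟨p, hp, hIp, hph⟩ := Ideal.exists_isPrime_height_eq hh
  obtain ⟨q, hq, hqp⟩ := Ideal.exists_minimalPrimes_le hIp
  have := hq.1.1
  exact nontrivial_H_of_minimalPrimes I q hq h
    (le_antisymm (hph ▸ Ideal.height_mono hqp) (hh ▸ Ideal.height_mono hq.1.2))

theorem height_le_of_cdLE (I : Ideal R) (d : ℕ) (hI : LocCoh.CdLE R I d) (p : Ideal R)
    (hp : p ∈ I.minimalPrimes) : p.height ≤ d := by
  have := hp.1.1
  obtain ⟨n, hn⟩ : ∃ n : ℕ, p.height = n :=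
    ⟨_, (ENat.natCast_toNat (Ideal.height_ne_top Ideal.IsPrime.ne_top')).symm⟩
  by_contra hc
  rw [hn] at hc
  have := nontrivial_H_of_minimalPrimes I p hp n hn
  exact not_subsingleton _ (hI R n (by simpa using hc))

end Groth.Agent.Lib.LocalCoh.Height
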