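import Groth.Agent.Lib.LocalCoh.Basic
import Mathlib.RingTheory.Filtration
import Mathlib.RingTheory.Noetherian.Basic
import Mathlib.Algebra.Module.Injective

/-!
# Power torsion and local cohomology over Noetherian rings
-/

universe u

open CategoryTheory CategoryTheory.Limits Opposite

namespace Groth.Agent.Lib.LocalCoh

variable {R : Type u} [CommRing R] (I : Ideal R)

/-- A finitely generated submodule of the power torsion submodule is killed by a single power. -/
lemma exists_pow_smul_eq_zero {M : Type u} [AddCommGroup M] [Module R M] {N : Type*}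
    [AddCommGroup N] [Module R N] [Module.Finite R N] (f : N →ₗ[R] M)
    (hf : ∀ x, f x ∈ DRing.torsionSub I M) : ∃ n : ℕ, ∀ a ∈ I ^ n, ∀ x, a • f x = 0 := by
  classical
  obtain ⟨s, hs⟩ := Module.finite_def.1 (inferInstance : Module.Finite R N)
  choose n hn using hf
  refine ⟨s.sup n, fun a ha x => ?_⟩
  have hx : x ∈ Submodule.span R (s : Set N) := by rw [hs]; trivial
  induction hx using Submodule.span_induction with
  | mem y hy => exact hn y a (Ideal.pow_le_pow_right (Finset.le_sup hy) ha)
  | zero => simp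
  | add y z _ _ h₁ h₂ => simp [h₁, h₂]
  | smul r y _ h => rw [map_smul, smul_comm, h, smul_zero]

variable [IsNoetherianRing R]

/-- Over a Noetherian ring the power torsion submodule of an injective module is injective. -/
theorem injective_torsionSub (E : Type u) [AddCommGroup E] [Module R E] [hE : Module.Injective R E] :
    Module.Injective R (DRing.torsionSub I E) := by
  refine Module.Baer.injective fun 𝔞 g => ?_
  obtain ⟨n, hn⟩ := exists_pow_smul_eq_zero I ((DRing.torsionSub I E).subtype ∘ₗ g) fun x => (g x).2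
  obtain ⟨k, hk⟩ := Ideal.exists_pow_inf_eq_pow_smul I (M := R) 𝔞
  have hg : ∀ x : 𝔞, (x : R) ∈ I ^ (k + n) → (g x : E) = 0 := by
    intro x hx
    have h₁ : (x : R) ∈ I ^ (k + n) • (⊤ : Submodule R R) ⊓ 𝔞 :=
      ⟨by simpa using hx, x.2⟩
    rw [hk (k + n) (Nat.le_add_right k n), Nat.add_sub_cancel_left] at h₁
    have h₂ : ∃ y : 𝔞, (y : R) = x ∧ (g y : E) = 0 := by
      refine Submodule.smul_induction_on h₁ (fun a ha z hz => ?_) ?_
      · refine ⟨a • ⟨z, hz.2⟩, rfl, ?_⟩
        rw [map_smul, Submodule.coe_smul]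
        exact hn a ha ⟨z, hz.2⟩
      · rintro a b ⟨y, hy, hy'⟩ ⟨z, hz, hz'⟩
        exact ⟨y + z, by simp [hy, hz], by simp [hy', hz']⟩
    obtain ⟨y, hy, hy'⟩ := h₂
    rwa [Subtype.ext hy] at hy'
  let p : 𝔞 →ₗ[R] R ⧸ I ^ (k + n) := (Submodule.mkQ (I ^ (k + n))) ∘ₗ 𝔞.subtype
  have hp : LinearMap.ker p ≤ LinearMap.ker ((DRing.torsionSub I E).subtype ∘ₗ g) := fun x hx => by
    rw [LinearMap.mem_ker] at hx ⊢
    exact hg x ((Submodule.Quotient.mk_eq_zero _).1 hx)
  obtain ⟨ψ, hψ⟩ := hE.out ((LinearMap.ker p).liftQ p le_rfl)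
    (by rw [← LinearMap.ker_eq_bot]; exact Submodule.ker_liftQ_eq_bot _ _ _ le_rfl)
    ((LinearMap.ker p).liftQ ((DRing.torsionSub I E).subtype ∘ₗ g) hp)
  have hψmem : ∀ q : R ⧸ I ^ (k + n), ψ q ∈ DRing.torsionSub I E := fun q => ⟨k + n, fun a ha => by
    obtain ⟨r, rfl⟩ := Submodule.Quotient.mk_surjective _ q
    rw [← map_smul, ← Submodule.Quotient.mk_smul]
    have : (Submodule.Quotient.mk (a • r) : R ⧸ I ^ (k + n)) = 0 :=
      (Submodule.Quotient.mk_eq_zero _).2 (Ideal.mul_mem_right r _ ha)
    rw [this, map_zero]⟩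
  refine ⟨(ψ.codRestrict _ hψmem) ∘ₗ Submodule.mkQ _, fun x hx => Subtype.ext ?_⟩
  exact hψ (Submodule.Quotient.mk ⟨x, hx⟩)

lemma injective_gammaI_obj (E : ModuleCat.{u} R) [hE : CategoryTheory.Injective E] :
    CategoryTheory.Injective ((DRing.gammaI I).obj E) :=
  have := (Module.injective_iff_injective_object R E).2 hE
  (Module.injective_iff_injective_object R _).1 (injective_torsionSub I E)

omit [IsNoetherianRing R] in
lemma torsionSub_eq_top_iff (M : Type u) [AddCommGroup M] [Module R M] :
    DRing.torsionSub I M = ⊤ ↔ LocCoh.IsPowerTorsion I M := by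
  rw [Submodule.eq_top_iff']
  rfl

omit [IsNoetherianRing R] in
lemma gammaIι_bijective (M : ModuleCat.{u} R) (hM : LocCoh.IsPowerTorsion I M) :
    Function.Bijective ((DRing.gammaIι I).app M).hom :=
  ⟨Subtype.val_injective, fun m => ⟨⟨m, hM m⟩, rfl⟩⟩

omit [IsNoetherianRing R] in
lemma isPowerTorsion_gammaI (M : ModuleCat.{u} R) :
    LocCoh.IsPowerTorsion I ((DRing.gammaI I).obj M) := fun m => by
  obtain ⟨n, hn⟩ := m.2
  exact ⟨n, fun a ha => Subtype.ext (hn a ha)⟩

omit [IsNoetherianRing R] in
lemma isPowerTorsion_of_injective {M N : Type u} [AddCommGroup M] [Module R M] [AddCommGroup N]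
    [Module R N] (f : M →ₗ[R] N) (hf : Function.Injective f) (hN : LocCoh.IsPowerTorsion I N) :
    LocCoh.IsPowerTorsion I M := fun m => by
  obtain ⟨n, hn⟩ := hN (f m)
  exact ⟨n, fun a ha => hf (by rw [map_smul, hn a ha, map_zero])⟩

omit [IsNoetherianRing R] in
lemma isPowerTorsion_of_surjective {M N : Type u} [AddCommGroup M] [Module R M] [AddCommGroup N]
    [Module R N] (f : M →ₗ[R] N) (hf : Function.Surjective f) (hM : LocCoh.IsPowerTorsion I M) :
    LocCoh.IsPowerTorsion I N := fun x => by
  obtain ⟨m, rfl⟩ := hf x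
  obtain ⟨n, hn⟩ := hM m
  exact ⟨n, fun a ha => by rw [← map_smul, hn a ha, map_zero]⟩

omit [IsNoetherianRing R] in
lemma lcZero_map_bijective_iff {M N : ModuleCat.{u} R} (f : M ⟶ N) :
    (Function.Injective ((localCohomology I 0).map f).hom ↔
      Function.Injective ((DRing.gammaI I).map f).hom) ∧
    (Function.Surjective ((localCohomology I 0).map f).hom ↔
      Function.Surjective ((DRing.gammaI I).map f).hom) := by
  have e : ((DRing.gammaI I).map f).hom =
      ((lcZeroIso I).app N).toLinearEquiv.toLinearMap ∘ₗ ((localCohomology I 0).map f).hom ∘ₗ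
        ((lcZeroIso I).app M).toLinearEquiv.symm.toLinearMap :=
    congrArg ModuleCat.Hom.hom (NatIso.naturality_1 (lcZeroIso I) f).symm
  rw [e]
  simp only [LinearMap.coe_comp, LinearEquiv.coe_coe, EquivLike.injective_comp,
    EquivLike.comp_injective, EquivLike.surjective_comp, EquivLike.comp_surjective]
  trivial

omit [IsNoetherianRing R] in
lemma gammaI_map_surjective_of_isPowerTorsion {M N : ModuleCat.{u} R} (g : M ⟶ N)
    (hg : Function.Surjective g.hom) (hM : LocCoh.IsPowerTorsion I M) :
    Function.Surjective ((DRing.gammaI I).map g).hom := by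
  rintro ⟨q, hq⟩
  obtain ⟨e, rfl⟩ := hg q
  exact ⟨⟨e, hM e⟩, rfl⟩

/-- Higher local cohomology of a power torsion module vanishes. -/
theorem lc_subsingleton_of_isPowerTorsion : ∀ (n : ℕ) (M : ModuleCat.{u} R),
    LocCoh.IsPowerTorsion I M → Subsingleton ((localCohomology I (n + 1)).obj M) := by
  intro n
  induction n with
  | zero =>
    intro M hM
    let E := (DRing.gammaI I).obj (Injective.under M)
    have : CategoryTheory.Injective E := injective_gammaI_obj I _
    let f : M ⟶ E := ModuleCat.ofHom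
      (LinearMap.codRestrict _ (Injective.ι M).hom fun m => DRing.map_mem_torsionSub I _ (hM m))
    have : Mono f := mono_of_mono_fac
      (show f ≫ (DRing.gammaIι I).app _ = Injective.ι M from rfl)
    let S := ShortComplex.mk f (cokernel.π f) (cokernel.condition f)
    have hS : S.ShortExact := { exact := ShortComplex.exact_cokernel f }
    have hE0 : Subsingleton ((localCohomology I 1).obj S.X₂) :=
      lc_subsingleton_of_injective I E 0
    refine subsingleton_of_forall_eq 0 fun z => ?_
    obtain ⟨w, rfl⟩ := ((lcDeltaSeq I).exact₁ hS 0 z).1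
      (Subsingleton.elim (α := (localCohomology I 1).obj S.X₂) _ _)
    apply ((lcDeltaSeq I).exact₃ hS 0 w).2
    exact (lcZero_map_bijective_iff I S.g).2.2 (gammaI_map_surjective_of_isPowerTorsion I S.g
      ((ModuleCat.epi_iff_surjective _).1 hS.epi_g) (isPowerTorsion_gammaI I _)) w
  | succ n ih =>
    intro M hM
    let E := (DRing.gammaI I).obj (Injective.under M)
    have : CategoryTheory.Injective E := injective_gammaI_obj I _
    let f : M ⟶ E := ModuleCat.ofHom
      (LinearMap.codRestrict _ (Injective.ι M).hom fun m => DRing.map_mem_torsionSub I _ (hM m))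
    have : Mono f := mono_of_mono_fac
      (show f ≫ (DRing.gammaIι I).app _ = Injective.ι M from rfl)
    let S := ShortComplex.mk f (cokernel.π f) (cokernel.condition f)
    have hS : S.ShortExact := { exact := ShortComplex.exact_cokernel f }
    have hE1 : Subsingleton ((localCohomology I (n + 2)).obj S.X₂) :=
      lc_subsingleton_of_injective I E (n + 1)
    have hQ : Subsingleton ((localCohomology I (n + 1)).obj S.X₃) :=
      ih S.X₃ (isPowerTorsion_of_surjective I S.g.hom
        ((ModuleCat.epi_iff_surjective _).1 hS.epi_g) (isPowerTorsion_gammaI I _))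
    refine subsingleton_of_forall_eq 0 fun z => ?_
    obtain ⟨w, rfl⟩ := ((lcDeltaSeq I).exact₁ hS (n + 1) z).1
      (Subsingleton.elim (α := (localCohomology I (n + 2)).obj S.X₂) _ _)
    rw [Subsingleton.elim w 0]
    exact map_zero _

end Groth.Agent.Lib.LocalCoh
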