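import Groth.Prelude.Def_W4bk5brsh7111920
import Mathlib.Topology.KrullDimension
import Mathlib.Topology.NoetherianSpace
import Mathlib.RingTheory.Spectrum.Prime.Topology

/-!
# Connectedness dimension
-/

universe u

open TopologicalSpace Set

namespace Groth.Agent.Lib.LocalCoh.ConnDim

variable {T : Type u} [TopologicalSpace T]

lemma dim_mono {Y Z : Set T} (h : Y ⊆ Z) : topologicalKrullDim ↥Y ≤ topologicalKrullDim ↥Z :=
  (Topology.IsInducing.subtypeVal.of_comp_iff.1
    (Topology.IsInducing.subtypeVal (t := Y)) :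
      Topology.IsInducing (Set.inclusion h)).topologicalKrullDim_le

lemma dim_univ : topologicalKrullDim ↥(univ : Set T) = topologicalKrullDim T :=
  IsHomeomorph.topologicalKrullDim_eq _ (Homeomorph.Set.univ T).isHomeomorph

lemma exists_component (x : T) : ∃ C ∈ irreducibleComponents T, x ∈ C :=
  ⟨irreducibleComponent x, irreducibleComponent_mem_irreducibleComponents x, mem_irreducibleComponent⟩

lemma sUnion_components : ⋃₀ irreducibleComponents T = univ :=
  eq_univ_of_forall fun x => by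
    obtain ⟨C, hC, hx⟩ := exists_component x
    exact ⟨C, hC, hx⟩

lemma isPreirreducible_diff {C Z : Set T} (hC : IsPreirreducible C) (hZ : IsClosed Z) :
    IsPreirreducible (C \ Z) := by
  intro U V hU hV hCU hCV
  obtain ⟨x, hx, h⟩ := hC (U ∩ Zᶜ) (V ∩ Zᶜ) (hU.inter hZ.isOpen_compl) (hV.inter hZ.isOpen_compl)
    (hCU.mono fun x hx => ⟨hx.1.1, hx.2, hx.1.2⟩) (hCV.mono fun x hx => ⟨hx.1.1, hx.2, hx.1.2⟩)
  exact ⟨x, ⟨hx, h.1.2⟩, h.1.1, h.2.1⟩

variable [NoetherianSpace T]

lemma isClosed_sUnion {A : Set (Set T)} (hA : A ⊆ irreducibleComponents T) : IsClosed (⋃₀ A) := by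
  rw [sUnion_eq_biUnion]
  exact ((NoetherianSpace.finite_irreducibleComponents).subset hA).isClosed_biUnion
    fun C hC => isClosed_of_mem_irreducibleComponents C (hA hC)

lemma not_subset_sUnion_others {C : Set T} (hC : C ∈ irreducibleComponents T) :
    ¬ C ⊆ ⋃₀ (irreducibleComponents T \ {C}) := by
  intro h
  have hfin : (irreducibleComponents T \ {C}).Finite :=
    (NoetherianSpace.finite_irreducibleComponents).subset diff_subset
  obtain ⟨D, hD, hCD⟩ := isIrreducible_iff_sUnion_isClosed.1 hC.1 hfin.toFinset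
    (fun D hD => isClosed_of_mem_irreducibleComponents D (hfin.mem_toFinset.1 hD).1)
    (by rwa [hfin.coe_toFinset])
  have hD' := hfin.mem_toFinset.1 hD
  exact hD'.2 (le_antisymm (hC.2 hD'.1.1 hCD) hCD)

theorem connDim_le_of_cover (A B : Set (Set T))
    (h : A ⊆ irreducibleComponents T ∧ B ⊆ irreducibleComponents T ∧ A.Nonempty ∧ B.Nonempty ∧
      A ∪ B = irreducibleComponents T) :
    LocCoh.connDim T ≤ topologicalKrullDim ↥(⋃₀ A ∩ ⋃₀ B) := by
  obtain ⟨hA, hB, hAn, hBn, hAB⟩ := h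
  have hcover : ⋃₀ A ∪ ⋃₀ B = univ := by rw [← sUnion_union, hAB, sUnion_components]
  by_cases hab : (⋃₀ A \ ⋃₀ B).Nonempty ∧ (⋃₀ B \ ⋃₀ A).Nonempty
  · refine iInf₂_le (⋃₀ A ∩ ⋃₀ B) ⟨(isClosed_sUnion hA).inter (isClosed_sUnion hB), fun hc => ?_⟩
    obtain ⟨x, hxA, hxB⟩ := hab.1
    obtain ⟨y, hyB, hyA⟩ := hab.2
    obtain ⟨z, -, hz1, hz2⟩ := hc.isPreconnected _ _ (isClosed_sUnion hB).isOpen_compl
      (isClosed_sUnion hA).isOpen_compl
      (fun z hz => by
        by_contra hne
        simp only [mem_union, mem_compl_iff, not_or, not_not] at hne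
        exact hz ⟨hne.2, hne.1⟩)
      ⟨x, fun h => hxB h.2, hxB⟩ ⟨y, fun h => hyA h.1, hyA⟩
    exact (hcover.symm.subset (mem_univ z)).elim hz2 hz1
  · -- one side contains the other, so some component lies in both
    obtain ⟨C, hCA, hCsub⟩ : ∃ C ∈ irreducibleComponents T, C ⊆ ⋃₀ A ∩ ⋃₀ B := by
      rw [not_and_or, not_nonempty_iff_eq_empty, not_nonempty_iff_eq_empty, diff_eq_empty,
        diff_eq_empty] at hab
      rcases hab with h | h
      · obtain ⟨C, hC⟩ := hAn
        exact ⟨C, hA hC, fun x hx => ⟨⟨C, hC, hx⟩, h ⟨C, hC, hx⟩⟩⟩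
      · obtain ⟨C, hC⟩ := hBn
        exact ⟨C, hB hC, fun x hx => ⟨h ⟨C, hC, hx⟩, ⟨C, hC, hx⟩⟩⟩
    by_cases hone : irreducibleComponents T = {C}
    · have hCuniv : C = univ := by rw [← sUnion_components (T := T), hone, sUnion_singleton]
      refine (iInf₂_le C ⟨isClosed_of_mem_irreducibleComponents C hCA, fun hc => ?_⟩).trans
        (dim_mono hCsub)
      rw [hCuniv, compl_univ] at hc
      exact not_nonempty_empty hc.nonempty
    · obtain ⟨D, hD, hDC⟩ : ∃ D ∈ irreducibleComponents T, D ≠ C := by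
        by_contra hne
        push Not at hne
        exact hone (eq_singleton_iff_unique_mem.2 ⟨hCA, hne⟩)
      have hclC := isClosed_of_mem_irreducibleComponents C hCA
      have hclO : IsClosed (⋃₀ (irreducibleComponents T \ {C})) := isClosed_sUnion diff_subset
      have hcov : C ∪ ⋃₀ (irreducibleComponents T \ {C}) = univ := eq_univ_of_forall fun x => by
        obtain ⟨E, hE, hx⟩ := exists_component x
        rcases eq_or_ne E C with rfl | hEC
        exacts [Or.inl hx, Or.inr ⟨E, ⟨hE, hEC⟩, hx⟩]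
      refine (iInf₂_le (C ∩ ⋃₀ (irreducibleComponents T \ {C})) ⟨hclC.inter hclO, fun hc => ?_⟩).trans
        (dim_mono (inter_subset_left.trans hCsub))
      obtain ⟨x, hxC, hxO⟩ := not_subset.1 (not_subset_sUnion_others hCA)
      obtain ⟨y, hyD, hyC⟩ := not_subset.1 fun h : D ⊆ C =>
        hDC (le_antisymm h (hD.2 hCA.1 h))
      obtain ⟨z, -, hz1, hz2⟩ := hc.isPreconnected _ _ hclO.isOpen_compl hclC.isOpen_compl
        (fun z hz => by
          by_contra hne
          simp only [mem_union, mem_compl_iff, not_or, not_not] at hne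
          exact hz ⟨hne.2, hne.1⟩)
        ⟨x, fun h => hxO h.2, hxO⟩ ⟨y, fun h => hyC h.1, hyC⟩
      exact (hcov.symm.subset (mem_univ z)).elim hz2 hz1

theorem exists_cover_le [Nonempty T] (Z : Set T) (hZ : IsClosed Z) (hc : ¬ IsConnected Zᶜ) :
    ∃ A B : Set (Set T), (A ⊆ irreducibleComponents T ∧ B ⊆ irreducibleComponents T ∧ A.Nonempty ∧
      B.Nonempty ∧ A ∪ B = irreducibleComponents T) ∧ ⋃₀ A ∩ ⋃₀ B ⊆ Z := by
  have hne : (irreducibleComponents T).Nonempty :=
    ⟨_, irreducibleComponent_mem_irreducibleComponents (Classical.arbitrary T)⟩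
  by_cases hZe : Zᶜ.Nonempty
  swap
  · exact ⟨_, _, ⟨subset_rfl, subset_rfl, hne, hne, union_self _⟩, fun x _ =>
      (compl_empty_iff.1 (not_nonempty_iff_eq_empty.1 hZe)).symm ▸ mem_univ x⟩
  have hpre : ¬ IsPreconnected Zᶜ := fun h => hc ⟨hZe, h⟩
  simp only [IsPreconnected, not_forall] at hpre
  obtain ⟨U, V, hU, hV, hcov, ⟨x, hxZ, hxU⟩, ⟨y, hyZ, hyV⟩, hdis⟩ := hpre
  rw [not_nonempty_iff_eq_empty] at hdis
  have hsep : ∀ C ∈ irreducibleComponents T, ∀ z ∈ C \ Z, ∀ w ∈ C \ Z, z ∈ U → w ∈ V → False := by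
    intro C hC z hz w hw hzU hwV
    obtain ⟨v, hv, hvU, hvV⟩ := (isPreirreducible_diff hC.1.2 hZ).isPreconnected U V hU hV
      (fun v hv => hcov hv.2) ⟨z, hz, hzU⟩ ⟨w, hw, hwV⟩
    exact eq_empty_iff_forall_notMem.1 hdis v ⟨hv.2, hvU, hvV⟩
  let A := {C ∈ irreducibleComponents T | C ⊆ Z ∨ (C \ Z ∩ U).Nonempty}
  let B := {C ∈ irreducibleComponents T | C ⊆ Z ∨ (C \ Z ∩ V).Nonempty}
  obtain ⟨Cx, hCx, hxC⟩ := exists_component x
  obtain ⟨Cy, hCy, hyC⟩ := exists_component y
  refine ⟨A, B, ⟨fun C hC => hC.1, fun C hC => hC.1,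
    ⟨Cx, hCx, Or.inr ⟨x, ⟨hxC, hxZ⟩, hxU⟩⟩, ⟨Cy, hCy, Or.inr ⟨y, ⟨hyC, hyZ⟩, hyV⟩⟩,
    subset_antisymm (union_subset (fun C hC => hC.1) fun C hC => hC.1) fun C hC => ?_⟩, ?_⟩
  · by_cases hCZ : C ⊆ Z
    · exact Or.inl ⟨hC, Or.inl hCZ⟩
    · obtain ⟨z, hz, hzZ⟩ := not_subset.1 hCZ
      rcases hcov hzZ with h | h
      exacts [Or.inl ⟨hC, Or.inr ⟨z, ⟨hz, hzZ⟩, h⟩⟩, Or.inr ⟨hC, Or.inr ⟨z, ⟨hz, hzZ⟩, h⟩⟩]
  · rintro z ⟨⟨C, ⟨hC, hC'⟩, hzC⟩, ⟨D, ⟨hD, hD'⟩, hzD⟩⟩
    by_contra hzZ
    rcases hC' with hC' | ⟨a, ha, haU⟩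
    · exact hzZ (hC' hzC)
    rcases hD' with hD' | ⟨b, hb, hbV⟩
    · exact hzZ (hD' hzD)
    rcases hcov hzZ with h | h
    exacts [hsep D hD z ⟨hzD, hzZ⟩ b hb h hbV, hsep C hC a ha z ⟨hzC, hzZ⟩ haU h]

theorem connDim_eq_iInf [Nonempty T] : LocCoh.connDim T = ⨅ (A : Set (Set T)) (B : Set (Set T))
    (_ : A ⊆ irreducibleComponents T ∧ B ⊆ irreducibleComponents T ∧ A.Nonempty ∧ B.Nonempty ∧
      A ∪ B = irreducibleComponents T), topologicalKrullDim ↥(⋃₀ A ∩ ⋃₀ B) := by
  refine le_antisymm (le_iInf fun A => le_iInf₂ fun B h => connDim_le_of_cover A B h)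
    (le_iInf₂ fun Z hZ => ?_)
  obtain ⟨A, B, h, hsub⟩ := exists_cover_le Z hZ.1 hZ.2
  exact ((iInf_le _ A).trans (iInf₂_le B h)).trans (dim_mono hsub)

omit [NoetherianSpace T] in
/-- A proper closed subset of an irreducible closed subset of finite dimension has smaller dimension. -/
theorem dim_lt {a Z : Set T} (ha : IsIrreducible a) (hac : IsClosed a) (hZc : IsClosed Z)
    (hZa : Z ⊆ a) (hne : Z ≠ a) (n : ℕ) (hn : topologicalKrullDim ↥a = n) :
    topologicalKrullDim ↥Z < n := by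
  have hle := (dim_mono hZa).trans hn.le
  refine lt_of_le_of_ne hle fun he => ?_
  obtain ⟨l, hl⟩ := Order.le_krullDim_iff.1 he.ge
  have hincl : Topology.IsInducing (Set.inclusion hZa) :=
    Topology.IsInducing.subtypeVal.of_comp_iff.1 (Topology.IsInducing.subtypeVal (t := Z))
  let f := IrreducibleCloseds.map (Set.inclusion hZa) hincl.continuous
  let top : IrreducibleCloseds ↥a :=
    ⟨univ, ⟨ha.nonempty.to_subtype.elim fun x => ⟨x, mem_univ x⟩, by
      exact (Subtype.preirreducibleSpace ha.2).isPreirreducible_univ⟩, isClosed_univ⟩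
  have hlt : (l.map f (IrreducibleCloseds.map_strictMono_of_isInducing hincl)).last < top := by
    refine lt_of_le_of_ne (fun x _ => mem_univ x) fun h => hne (hZa.antisymm fun x hx => ?_)
    have h' : ((l.map f (IrreducibleCloseds.map_strictMono_of_isInducing hincl)).last : Set ↥a) = univ :=
      congrArg (fun s : IrreducibleCloseds ↥a => (s : Set ↥a)) h
    have hlast : (l.map f (IrreducibleCloseds.map_strictMono_of_isInducing hincl)).last = f l.last :=
      LTSeries.last_map _ _ _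
    rw [hlast] at h'
    have hx' : (⟨x, hx⟩ : ↥a) ∈ closure (Set.inclusion hZa '' (l.last : Set ↥Z)) := by
      have := h'.symm.subset (mem_univ (⟨x, hx⟩ : ↥a))
      simpa [f, IrreducibleCloseds.coe_map] using this
    exact (closure_minimal (by rintro _ ⟨z, -, rfl⟩; exact z.2)
      (hZc.preimage continuous_subtype_val)) hx'
  have h2 : (((l.map f (IrreducibleCloseds.map_strictMono_of_isInducing hincl)).snoc top hlt).length : WithBot ℕ∞) ≤
      topologicalKrullDim ↥a := Order.LTSeries.length_le_krullDim _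
  rw [hn] at h2
  simp [hl] at h2
  norm_cast at h2
  omega

theorem connDim_le_subdim [Nonempty T] (hfin : topologicalKrullDim T < ⊤) :
    LocCoh.connDim T ≤ LocCoh.subdim T ∧
      (LocCoh.connDim T = LocCoh.subdim T ↔ IrreducibleSpace T) := by
  have hle : LocCoh.connDim T ≤ LocCoh.subdim T := le_iInf₂ fun C hC => by
    refine (connDim_le_of_cover {C} (irreducibleComponents T) ⟨singleton_subset_iff.2 hC, subset_rfl,
      singleton_nonempty C, ⟨C, hC⟩, union_eq_self_of_subset_left (singleton_subset_iff.2 hC)⟩).trans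
      (dim_mono (inter_subset_left.trans (sUnion_singleton C).subset))
  refine ⟨hle, fun he => ?_, fun _ => le_antisymm hle ?_⟩
  · have hne : (irreducibleComponents T).Nonempty :=
      ⟨_, irreducibleComponent_mem_irreducibleComponents (Classical.arbitrary T)⟩
    obtain ⟨C, hC, hmin⟩ := (NoetherianSpace.finite_irreducibleComponents (α := T)).exists_minimalFor
      (fun C : Set T => topologicalKrullDim ↥C) _ hne
    have hsub : LocCoh.subdim T = topologicalKrullDim ↥C :=
      le_antisymm (iInf₂_le C hC) (le_iInf₂ fun D hD =>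
        (le_total (topologicalKrullDim ↥C) (topologicalKrullDim ↥D)).elim id fun h => hmin hD h)
    by_contra hirr
    obtain ⟨D, hD, hDC⟩ : ∃ D ∈ irreducibleComponents T, D ≠ C := by
      by_contra hall
      push Not at hall
      have hCu : C = univ := eq_univ_of_forall fun x => by
        obtain ⟨E, hE, hx⟩ := exists_component x
        rwa [hall E hE] at hx
      exact hirr { isPreirreducible_univ := hCu ▸ hC.1.2, toNonempty := ‹_› }
    let Z := C ∩ ⋃₀ (irreducibleComponents T \ {C})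
    have h1 : LocCoh.connDim T ≤ topologicalKrullDim ↥Z := by
      refine (connDim_le_of_cover {C} (irreducibleComponents T \ {C}) ⟨singleton_subset_iff.2 hC,
        diff_subset, singleton_nonempty C, ⟨D, hD, hDC⟩,
        union_diff_cancel (singleton_subset_iff.2 hC)⟩).trans (dim_mono ?_)
      rw [sUnion_singleton]
    have hCbot : topologicalKrullDim ↥C ≠ ⊥ := by
      have : Nonempty ↥C := hC.1.nonempty.to_subtype
      rw [topologicalKrullDim, Ne, Order.krullDim_eq_bot_iff, not_isEmpty_iff]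
      exact ⟨⟨closure {Classical.arbitrary ↥C}, isIrreducible_singleton.closure, isClosed_closure⟩⟩
    obtain ⟨m, hm⟩ := WithBot.ne_bot_iff_exists.1 hCbot
    obtain ⟨n, rfl⟩ := ENat.ne_top_iff_exists.1 (fun h => by
      have := (topologicalKrullDim_subspace_le T C).trans_lt hfin
      rw [← hm, h] at this
      exact lt_irrefl _ this : m ≠ ⊤)
    have h2 := dim_lt hC.1 (isClosed_of_mem_irreducibleComponents C hC)
      ((isClosed_of_mem_irreducibleComponents C hC).inter (isClosed_sUnion diff_subset))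
      inter_subset_left (fun h => not_subset_sUnion_others hC (h.symm.subset.trans inter_subset_right)) n hm.symm
    exact (h1.trans_lt (h2.trans_le (hm.le.trans hsub.ge))).ne he
  · rw [connDim_eq_iInf]
    refine le_iInf fun A => le_iInf₂ fun B h => ?_
    have hs : irreducibleComponents T = {univ} := irreducibleComponents_eq_singleton
    obtain ⟨hA, hB, ⟨C, hCA⟩, ⟨D, hDB⟩, -⟩ := h
    have hC := hA hCA
    have hD := hB hDB
    rw [hs, mem_singleton_iff] at hC hD
    subst hC hD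
    refine (iInf₂_le univ (hs.symm.subset rfl)).trans (dim_mono fun x _ => ⟨⟨_, hCA, trivial⟩, _, hDB, trivial⟩)

omit [NoetherianSpace T] in
lemma _root_.Groth.Agent.Lib.LocalCoh.ConnDim.dim_zeroLocus {R : Type u} [CommRing R] (I : Ideal R) :
    topologicalKrullDim ↥(PrimeSpectrum.zeroLocus (I : Set R)) = ringKrullDim (R ⧸ I) := by
  rw [← PrimeSpectrum.topologicalKrullDim_eq_ringKrullDim]
  have h := (PrimeSpectrum.isClosedEmbedding_comap_of_surjective _ (Ideal.Quotient.mk I)
    Ideal.Quotient.mk_surjective).isEmbedding.toHomeomorph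
  rw [IsHomeomorph.topologicalKrullDim_eq _ h.isHomeomorph]
  exact IsHomeomorph.topologicalKrullDim_eq _ (Homeomorph.setCongr (by
    rw [range_comap_of_surjective _ _ Ideal.Quotient.mk_surjective, Ideal.mk_ker])).isHomeomorph

end Groth.Agent.Lib.LocalCoh.ConnDim
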