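import Groth.Agent.Lib.LCFin.Seq
import Groth.Agent.Lib.LCFin.Cd
import Groth.Prelude.Def_W4bk5brsh7111920

/-!
# Local cohomology killed by powers of a second ideal
-/

universe u

open CategoryTheory
open Groth.Agent.Lib.LocalCoh
open Groth.Agent.Lib.LCFin

namespace Groth.Agent.Lib.LocalCoh.Killed

variable {R : Type u} [CommRing R]

/-- Killed by a power of every element of `b`. -/
def Killed (b : Ideal R) (X : Type u) [AddCommGroup X] [Module R X] : Prop :=
  b ≤ (Module.annihilator R X).radical

variable {b : Ideal R} {X Y Z : Type u} [AddCommGroup X] [Module R X] [AddCommGroup Y] [Module R Y]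
  [AddCommGroup Z] [Module R Z]

lemma of_subsingleton [Subsingleton X] : Killed b X := fun _ _ =>
  Ideal.le_radical (Module.mem_annihilator.2 fun _ => Subsingleton.elim _ _)

lemma of_injective {f : X →ₗ[R] Y} (hf : Function.Injective f) (h : Killed b Y) : Killed b X :=
  h.trans (Ideal.radical_mono (f.annihilator_le_of_injective hf))

lemma of_surjective {f : X →ₗ[R] Y} (hf : Function.Surjective f) (h : Killed b X) : Killed b Y :=
  h.trans (Ideal.radical_mono (f.annihilator_le_of_surjective hf))

lemma of_exact {f : X →ₗ[R] Y} {g : Y →ₗ[R] Z} (hfg : Function.Exact f g) (hX : Killed b X)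
    (hZ : Killed b Z) : Killed b Y := fun r hr => by
  obtain ⟨n, hn⟩ := hX hr
  obtain ⟨m, hm⟩ := hZ hr
  refine ⟨n + m, Module.mem_annihilator.2 fun y => ?_⟩
  obtain ⟨x, hx⟩ := (hfg (r ^ m • y)).1 (by rw [map_smul, Module.mem_annihilator.1 hm])
  rw [pow_add, mul_smul, ← hx, ← map_smul, Module.mem_annihilator.1 hn, map_zero]

lemma H_of_killed (a : Ideal R) (i : ℕ) (h : Killed b X) : Killed b (LocCoh.H a i X) := fun r hr => by
  obtain ⟨n, hn⟩ := h hr
  refine ⟨n, Module.mem_annihilator.2 fun z => ?_⟩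
  rw [← Seq.Hmap_lsmul, show LinearMap.lsmul R X (r ^ n) = 0 from
    LinearMap.ext fun x => Module.mem_annihilator.1 hn x]
  show ((localCohomology a i).map (0 : ModuleCat.of R X ⟶ ModuleCat.of R X)).hom z = 0
  rw [Functor.map_zero]
  rfl

/-- Dividing by a killed submodule changes nothing. -/
theorem killed_H_quotient_iff (a : Ideal R) (N : Submodule R Y) (hN : Killed b N) (i : ℕ) :
    Killed b (LocCoh.H a i (Y ⧸ N)) ↔ Killed b (LocCoh.H a i Y) := by
  have hex := LinearMap.exact_subtype_mkQ N
  exact ⟨fun h => of_exact (Seq.exact_map_map a N.injective_subtype N.mkQ_surjective hex i)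
      (H_of_killed a i hN) h,
    fun h => of_exact (Seq.exact_map_δ a N.injective_subtype N.mkQ_surjective hex i) h
      (H_of_killed a (i + 1) hN)⟩

lemma le_iff (a : Ideal R) (M : Type u) [AddCommGroup M] [Module R M] (i : ℕ)
    (h : (i : ℕ∞) < LocCoh.finDimRel a b M) : Killed b (LocCoh.H a i M) := by
  by_contra hc
  exact absurd h (not_lt.2 (iInf₂_le i hc))

lemma iSup_torsionBy_eq [IsNoetherianRing R] (c : Ideal R) (M : Type u) [AddCommGroup M]
    [Module R M] : (⨆ n : ℕ, LocCoh.torsionBy (c ^ n) M) = DRing.torsionSub c M := by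
  refine le_antisymm (iSup_le fun n x hx => ⟨n, fun z hz => ?_⟩) ?_
  · exact (Submodule.mem_torsionBySet_iff _ _).1 hx ⟨z, hz⟩
  · rintro x ⟨n, hn⟩
    exact Submodule.mem_iSup_of_mem n ((Submodule.mem_torsionBySet_iff _ _).2 fun z => hn z z.2)

theorem finDimRel_quotient_torsion [IsNoetherianRing R] (a b c : Ideal R) (M : Type u)
    [AddCommGroup M] [Module R M] [Module.Finite R M] :
    (b ≤ c → LocCoh.finDimRel a b M =
        LocCoh.finDimRel a b (M ⧸ (⨆ n : ℕ, LocCoh.torsionBy (c ^ n) M))) ∧
      (0 < LocCoh.finDimRel a b M → LocCoh.finDimRel a b M =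
        LocCoh.finDimRel a b (M ⧸ (⨆ n : ℕ, LocCoh.torsionBy (a ^ n) M))) := by
  have key : ∀ N : Submodule R M, Killed b N →
      LocCoh.finDimRel a b M = LocCoh.finDimRel a b (M ⧸ N) := fun N hN =>
    iInf_congr fun i => iInf_congr_Prop (not_congr (killed_H_quotient_iff a N hN i).symm)
      fun _ => rfl
  refine ⟨fun hbc => key _ ?_, fun h0 => key _ ?_⟩
  · rw [iSup_torsionBy_eq]
    intro r hr
    obtain ⟨s, hs⟩ := IsNoetherian.noetherian (DRing.torsionSub c M)
    choose n hn using fun x : s => (hs ▸ Submodule.subset_span x.2 : (x : M) ∈ DRing.torsionSub c M)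
    refine ⟨Finset.univ.sup n, Module.mem_annihilator.2 ?_⟩
    rintro ⟨y, hy⟩
    refine Subtype.ext ?_
    show r ^ Finset.univ.sup n • y = 0
    rw [← hs] at hy
    induction hy using Submodule.span_induction with
    | mem y hy =>
      exact hn ⟨y, hy⟩ _ (Ideal.pow_le_pow_right (Finset.le_sup (Finset.mem_univ _))
        (Ideal.pow_mem_pow (hbc hr) _))
    | zero => exact smul_zero _
    | add y z _ _ hy hz => rw [smul_add, hy, hz, add_zero]
    | smul t y _ hy => rw [smul_comm, hy, smul_zero]
  · rw [iSup_torsionBy_eq]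
    exact of_surjective (f := ((lcZeroIso a).app (ModuleCat.of R M)).toLinearEquiv.toLinearMap)
      (LinearEquiv.surjective _) (le_iff a M 0 (by simpa using h0))

end Groth.Agent.Lib.LocalCoh.Killed
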