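import Groth.Agent.Lib.LocalCoh.TransformUniversal
import Mathlib.Algebra.Homology.ShortComplex.ExactFunctor

/-!
# Derived functors and exactness of ideal transforms
-/

universe u

open CategoryTheory CategoryTheory.Limits Opposite

namespace Groth.Agent.Lib.LocalCoh

variable {R : Type u} [CommRing R] (I : Ideal R)

/-- The right derived functors of the ideal transform. -/
noncomputable def transformRightDerivedIso (i : ℕ) :
    (LocCoh.idealTransform I).rightDerived (i + 1) ≅ localCohomology I (i + 2) :=
  rightDerivedMapIso (transformIso I) (i + 1) ≪≫ colimExt.rightDerivedIso (powSys I) (i + 1) ≪≫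
    connIso I i ≪≫ (lcIso I (i + 2)).symm

/-- Exactness of the ideal transform means cohomological dimension at most one. -/
theorem transform_exact_iff :
    (PreservesFiniteLimits (LocCoh.idealTransform I) ∧
      PreservesFiniteColimits (LocCoh.idealTransform I)) ↔ LocCoh.CdLE R I 1 := by
  constructor
  · rintro ⟨_, _⟩
    have key : ∀ (i : ℕ) (M : ModuleCat.{u} R), Subsingleton ((localCohomology I (i + 2)).obj M) := by
      intro i
      induction i with
      | zero =>
        intro M
        let S := ShortComplex.mk (Injective.ι M) (cokernel.π (Injective.ι M)) (cokernel.condition _)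
        have hS : S.ShortExact := { exact := ShortComplex.exact_cokernel _ }
        have hep : Epi ((LocCoh.idealTransform I).map S.g) := by
          have := hS.epi_g
          infer_instance
        have h2 : Subsingleton ((colimExt (powSys I) 1).obj M) := by
          refine subsingleton_of_forall_eq 0 fun x => ?_
          have hE : Subsingleton ((colimExt (powSys I) 1).obj S.X₂) :=
            colimExt.subsingleton_of_injective (powSys I) (Injective.under M) 0
          obtain ⟨y, rfl⟩ := ((transformDeltaSeq I).exact₁ hS 0 x).1
            (Subsingleton.elim (α := (colimExt (powSys I) 1).obj S.X₂) _ _)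
          obtain ⟨z, rfl⟩ := (ModuleCat.epi_iff_surjective _).1 hep y
          exact ((transformDeltaSeq I).exact₃ hS 0).apply_apply_eq_zero z
        exact (((connIso I 0).app M).toLinearEquiv.toEquiv.trans
          ((lcIso I 2).symm.app M).toLinearEquiv.toEquiv).symm.subsingleton
      | succ i ih =>
        intro M
        let S := ShortComplex.mk (Injective.ι M) (cokernel.π (Injective.ι M)) (cokernel.condition _)
        have hS : S.ShortExact := { exact := ShortComplex.exact_cokernel _ }
        have hE : Subsingleton ((localCohomology I (i + 3)).obj S.X₂) :=
          lc_subsingleton_of_injective I (Injective.under M) (i + 2)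
        have := ih S.X₃
        refine subsingleton_of_forall_eq 0 fun x => ?_
        obtain ⟨y, rfl⟩ := ((lcDeltaSeq I).exact₁ hS (i + 2) x).1
          (Subsingleton.elim (α := (localCohomology I (i + 3)).obj S.X₂) _ _)
        rw [Subsingleton.elim y 0]
        exact map_zero _
    intro M _ _ i hi
    obtain ⟨j, rfl⟩ := Nat.exists_eq_add_of_le' (show 2 ≤ i from hi)
    exact key j (ModuleCat.of R M)
  · intro h
    have key : ∀ S : ShortComplex (ModuleCat.{u} R), S.ShortExact →
        (S.map (LocCoh.idealTransform I)).ShortExact := fun S hS => by
      have h2 : Subsingleton ((localCohomology I 2).obj S.X₁) := h S.X₁ 2 one_lt_two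
      have h1 : Subsingleton ((colimExt (powSys I) 1).obj S.X₁) :=
        (((connIso I 0).app S.X₁).toLinearEquiv.toEquiv.trans
          ((lcIso I 2).symm.app S.X₁).toLinearEquiv.toEquiv).subsingleton
      exact
        { exact := (ShortComplex.ShortExact.moduleCat_exact_iff_function_exact _).2 (map_exact I hS)
          mono_f := (ModuleCat.mono_iff_injective _).2 (map_injective I hS)
          epi_g := (ModuleCat.epi_iff_surjective _).2 fun x =>
            ((transformDeltaSeq I).exact₃ hS 0 x).1
              (Subsingleton.elim (α := (colimExt (powSys I) 1).obj S.X₁) _ _) }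
    exact ((Functor.exact_tfae (LocCoh.idealTransform I)).out 0 3).1 key

end Groth.Agent.Lib.LocalCoh
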