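import Groth.Agent.Lib.LocalCoh.IdealTransform

/-!
# The universal property of ideal transforms
-/

universe u

open CategoryTheory CategoryTheory.Limits Opposite

namespace Groth.Agent.Lib.LocalCoh

set_option linter.unusedSectionVars false

variable {R : Type u} [CommRing R] [IsNoetherianRing R] (I : Ideal R)

/-- The sequence of a submodule. -/
noncomputable abbrev subSeq {M : ModuleCat.{u} R} (N : Submodule R M) :
    ShortComplex (ModuleCat.{u} R) :=
  ShortComplex.mk (X₁ := ModuleCat.of R N) (X₂ := M) (X₃ := ModuleCat.of R (M ⧸ N))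
    (ModuleCat.ofHom N.subtype) (ModuleCat.ofHom N.mkQ)
    (ModuleCat.hom_ext (LinearMap.ext fun x => (Submodule.Quotient.mk_eq_zero _).2 x.2))

lemma subSeq_shortExact {M : ModuleCat.{u} R} (N : Submodule R M) : (subSeq N).ShortExact where
  exact := (ShortComplex.ShortExact.moduleCat_exact_iff_function_exact _).2
    (LinearMap.exact_subtype_mkQ _)
  mono_f := (ModuleCat.mono_iff_injective _).2 Subtype.val_injective
  epi_g := (ModuleCat.epi_iff_surjective _).2 (Submodule.mkQ_surjective _)

lemma isPowerTorsion_quotient_of_le {M : Type u} [AddCommGroup M] [Module R M]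
    {N : Submodule R M} (hN : N ≤ DRing.torsionSub I M) : LocCoh.IsPowerTorsion I N := fun x => by
  obtain ⟨n, hn⟩ := hN x.2
  exact ⟨n, fun a ha => Subtype.ext (hn a ha)⟩

/-- A factorisation of a map into a quotient map followed by an injection. -/
lemma factor_eq {M M' : ModuleCat.{u} R} (e : M ⟶ M') :
    ModuleCat.ofHom (X := M) (Y := M ⧸ LinearMap.ker e.hom) (LinearMap.ker e.hom).mkQ ≫
      ((LinearMap.quotKerEquivRange e.hom).toModuleIso.hom ≫
        ModuleCat.ofHom (LinearMap.range e.hom).subtype) = e := by
  ext m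
  rfl

/-- A map with torsion kernel and cokernel induces a bijection on ideal transforms. -/
theorem transform_map_bijective {M M' : ModuleCat.{u} R} (e : M ⟶ M')
    (hker : LinearMap.ker e.hom ≤ DRing.torsionSub I M)
    (hcoker : LocCoh.IsPowerTorsion I (M' ⧸ LinearMap.range e.hom)) :
    Function.Bijective ((LocCoh.idealTransform I).map e).hom := by
  conv => arg 1; rw [← factor_eq e]
  rw [Functor.map_comp, Functor.map_comp, ModuleCat.hom_comp, ModuleCat.hom_comp,
    LinearMap.coe_comp, LinearMap.coe_comp]
  refine Function.Bijective.comp (Function.Bijective.comp ?_ ?_) ?_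
  · have hC := transform_subsingleton I (subSeq (LinearMap.range e.hom)).X₃ hcoker
    refine ⟨map_injective I (subSeq_shortExact _), fun x => ?_⟩
    exact (map_exact I (subSeq_shortExact (LinearMap.range e.hom)) x).1 (Subsingleton.elim _ _)
  · exact (asIso ((LocCoh.idealTransform I).map
      (LinearMap.quotKerEquivRange e.hom).toModuleIso.hom)).toLinearEquiv.bijective
  · have hS := subSeq_shortExact (LinearMap.ker e.hom)
    have h0 := isPowerTorsion_quotient_of_le I hker
    have hD := transform_subsingleton I (subSeq (LinearMap.ker e.hom)).X₁ h0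
    constructor
    · rw [injective_iff_map_eq_zero]
      intro x hx
      obtain ⟨y, rfl⟩ := (map_exact I hS x).1 hx
      rw [Subsingleton.elim y 0]
      exact map_zero _
    · intro z
      have h1 := lc_subsingleton_of_isPowerTorsion I 1 (subSeq (LinearMap.ker e.hom)).X₁ h0
      have h1' : Subsingleton ((colimExt (powSys I) 1).obj (subSeq (LinearMap.ker e.hom)).X₁) :=
        ((connIso I 0).app _ ≪≫ (lcIso I 2).symm.app _).toLinearEquiv.toEquiv.subsingleton
      exact (((transformDeltaSeq I).exact₃ hS 0) z).1
        (Subsingleton.elim (α := (colimExt (powSys I) 1).obj (subSeq (LinearMap.ker e.hom)).X₁) _ _)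

lemma ker_toDT_le (M : ModuleCat.{u} R) :
    LinearMap.ker (LocCoh.toDT I M) ≤ DRing.torsionSub I M := (ker_toDT I M).le

lemma isPowerTorsion_coker_toDT (M : ModuleCat.{u} R) :
    LocCoh.IsPowerTorsion I
      ((LocCoh.idealTransform I).obj M ⧸ LinearMap.range (LocCoh.toDT I M)) :=
  isPowerTorsion_of_injective I (cokerToDTEquiv I M).toLinearMap (LinearEquiv.injective _)
    (isPowerTorsion_lc I 1 M)

/-- `D_I(η_M)` is bijective. -/
theorem transform_map_toDT_bijective (M : ModuleCat.{u} R) :
    Function.Bijective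
      ((LocCoh.idealTransform I).map (ModuleCat.ofHom (LocCoh.toDT I M))).hom :=
  transform_map_bijective I _ (ker_toDT_le I M) (isPowerTorsion_coker_toDT I M)

/-- Maps into a torsion-free module agreeing on a submodule with torsion quotient are equal. -/
lemma ext_of_torsion_coker {M M' : Type u} [AddCommGroup M] [Module R M] [AddCommGroup M']
    [Module R M'] {P : Type u} [AddCommGroup P] [Module R P] (hP : DRing.torsionSub I P = ⊥)
    (e : M →ₗ[R] M') (hcoker : LocCoh.IsPowerTorsion I (M' ⧸ LinearMap.range e))
    {f g : M' →ₗ[R] P} (h : f ∘ₗ e = g ∘ₗ e) : f = g := by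
  ext x
  obtain ⟨n, hn⟩ := hcoker (Submodule.Quotient.mk x)
  rw [← sub_eq_zero]
  have : f x - g x ∈ DRing.torsionSub I P := ⟨n, fun a ha => by
    have h0 : (Submodule.Quotient.mk (a • x) : M' ⧸ LinearMap.range e) = 0 := by
      rw [Submodule.Quotient.mk_smul]; exact hn a ha
    obtain ⟨m, hm⟩ := (Submodule.Quotient.mk_eq_zero _).1 h0
    rw [smul_sub, ← map_smul, ← map_smul, ← hm, sub_eq_zero]
    exact LinearMap.congr_fun h m⟩
  rw [hP] at this
  exact (Submodule.mem_bot R).1 this

/-- `η` of an ideal transform is `D_I(η)`. -/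
lemma toDT_transform_eq (M : ModuleCat.{u} R) :
    LocCoh.toDT I ((LocCoh.idealTransform I).obj M) =
      ((LocCoh.idealTransform I).map (ModuleCat.ofHom (LocCoh.toDT I M))).hom := by
  refine ext_of_torsion_coker I (torsionSub_transform I _) (LocCoh.toDT I M)
    (isPowerTorsion_coker_toDT I M) ?_
  ext m
  exact (toDT_naturality I (ModuleCat.ofHom (LocCoh.toDT I M)) m).symm

lemma toDT_transform_bijective (M : ModuleCat.{u} R) :
    Function.Bijective (LocCoh.toDT I ((LocCoh.idealTransform I).obj M)) :=
  (toDT_transform_eq I M).symm ▸ transform_map_toDT_bijective I M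

/-- The first local cohomology of an ideal transform vanishes. -/
theorem lc_one_transform_subsingleton (M : ModuleCat.{u} R) :
    Subsingleton ((localCohomology I 1).obj ((LocCoh.idealTransform I).obj M)) := by
  refine subsingleton_of_forall_eq 0 fun x => ?_
  obtain ⟨y, rfl⟩ := (cokerToDTEquiv I _).surjective x
  obtain ⟨z, rfl⟩ := Submodule.Quotient.mk_surjective _ y
  rw [(Submodule.Quotient.mk_eq_zero _).2 ((toDT_transform_bijective I M).2 z), map_zero]

/-- The extension of a map along a map with torsion kernel and cokernel. -/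
noncomputable def factorDT {M M' K : ModuleCat.{u} R} (e : M ⟶ M')
    (hker : LinearMap.ker e.hom ≤ DRing.torsionSub I M)
    (hcoker : LocCoh.IsPowerTorsion I (M' ⧸ LinearMap.range e.hom)) (ψ : M ⟶ K) :
    M' →ₗ[R] (LocCoh.idealTransform I).obj K :=
  ((LocCoh.idealTransform I).map ψ).hom ∘ₗ
    (LinearEquiv.ofBijective _ (transform_map_bijective I e hker hcoker)).symm.toLinearMap ∘ₗ
      LocCoh.toDT I M'

lemma factorDT_comp {M M' K : ModuleCat.{u} R} (e : M ⟶ M')
    (hker : LinearMap.ker e.hom ≤ DRing.torsionSub I M)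
    (hcoker : LocCoh.IsPowerTorsion I (M' ⧸ LinearMap.range e.hom)) (ψ : M ⟶ K) :
    factorDT I e hker hcoker ψ ∘ₗ e.hom = LocCoh.toDT I K ∘ₗ ψ.hom := by
  ext m
  simp only [factorDT, LinearMap.comp_apply, LinearEquiv.coe_coe]
  have : (LinearEquiv.ofBijective _ (transform_map_bijective I e hker hcoker)).symm
      (LocCoh.toDT I M' (e.hom m)) = LocCoh.toDT I M m := by
    rw [LinearEquiv.symm_apply_eq]
    exact (toDT_naturality I e m).symm
  exact (congrArg _ this).trans (toDT_naturality I ψ m)

lemma factorDT_bijective {M M' K : ModuleCat.{u} R} (e : M ⟶ M')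
    (hker : LinearMap.ker e.hom ≤ DRing.torsionSub I M)
    (hcoker : LocCoh.IsPowerTorsion I (M' ⧸ LinearMap.range e.hom)) (ψ : M ⟶ K)
    (hψ : Function.Bijective ((LocCoh.idealTransform I).map ψ).hom)
    (hη : Function.Bijective (LocCoh.toDT I M')) :
    Function.Bijective (factorDT I e hker hcoker ψ) := by
  simp only [factorDT, LinearMap.coe_comp, LinearEquiv.coe_coe]
  exact (hψ.comp (LinearEquiv.bijective _)).comp hη

/-- A map with torsion kernel and cokernel induces bijections on higher local cohomology. -/
theorem lc_map_bijective {M M' : ModuleCat.{u} R} (e : M ⟶ M')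
    (hker : LinearMap.ker e.hom ≤ DRing.torsionSub I M)
    (hcoker : LocCoh.IsPowerTorsion I (M' ⧸ LinearMap.range e.hom)) (i : ℕ) :
    Function.Bijective ((localCohomology I (i + 2)).map e).hom := by
  conv => arg 1; rw [← factor_eq e]
  rw [Functor.map_comp, Functor.map_comp, ModuleCat.hom_comp, ModuleCat.hom_comp,
    LinearMap.coe_comp, LinearMap.coe_comp]
  let h := lcDeltaSeq I
  refine Function.Bijective.comp (Function.Bijective.comp ?_ ?_) ?_
  · have hS := subSeq_shortExact (LinearMap.range e.hom)
    have h1 := lc_subsingleton_of_isPowerTorsion I i (subSeq (LinearMap.range e.hom)).X₃ hcoker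
    have h2 := lc_subsingleton_of_isPowerTorsion I (i + 1) (subSeq (LinearMap.range e.hom)).X₃ hcoker
    constructor
    · rw [injective_iff_map_eq_zero]
      intro x hx
      obtain ⟨y, rfl⟩ := (h.exact₁ hS (i + 1) x).1 hx
      rw [Subsingleton.elim y 0]
      exact map_zero _
    · exact fun x => (h.exact₂ hS (i + 2) x).1 (Subsingleton.elim _ _)
  · exact (asIso ((localCohomology I (i + 2)).map
      (LinearMap.quotKerEquivRange e.hom).toModuleIso.hom)).toLinearEquiv.bijective
  · have hS := subSeq_shortExact (LinearMap.ker e.hom)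
    have h0 := isPowerTorsion_quotient_of_le I hker
    have h1 := lc_subsingleton_of_isPowerTorsion I (i + 1) (subSeq (LinearMap.ker e.hom)).X₁ h0
    have h2 := lc_subsingleton_of_isPowerTorsion I (i + 2) (subSeq (LinearMap.ker e.hom)).X₁ h0
    constructor
    · rw [injective_iff_map_eq_zero]
      intro x hx
      obtain ⟨y, rfl⟩ := (h.exact₂ hS (i + 2) x).1 hx
      rw [Subsingleton.elim y 0]
      exact map_zero _
    · exact fun x => (h.exact₃ hS (i + 2) x).1 (Subsingleton.elim _ _)

end Groth.Agent.Lib.LocalCoh
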