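import Groth.Agent.Lib.LocalCoh.Hmap
import Groth.Agent.Lib.LocalCoh.Torsion
import Groth.Agent.Lib.LocalCoh.Resolution
import Groth.Agent.Lib.InjHull.Basic

/-!
When is the comparison map `H_I → H_{I'}` an isomorphism in a range of degrees
-/

universe u

open CategoryTheory CategoryTheory.Limits

namespace Groth.Agent.Lib.LocalCoh.Compare

variable {R : Type u} [CommRing R] [IsNoetherianRing R] {I' I : Ideal R} (hI : I' ≤ I)

lemma isPowerTorsion_equiv {M N : Type u} [AddCommGroup M] [Module R M] [AddCommGroup N]
    [Module R N] (e : M ≃ₗ[R] N) (h : LocCoh.IsPowerTorsion I M) : LocCoh.IsPowerTorsion I N :=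
  fun n => by
    obtain ⟨k, hk⟩ := h (e.symm n)
    exact ⟨k, fun a ha => e.symm.injective (by rw [map_smul, map_zero]; exact hk a ha)⟩

include hI in
lemma isPowerTorsion_of_le {M : Type u} [AddCommGroup M] [Module R M]
    (h : LocCoh.IsPowerTorsion I M) : LocCoh.IsPowerTorsion I' M := fun m => by
  obtain ⟨k, hk⟩ := h m
  exact ⟨k, fun a ha => hk a (Ideal.pow_right_mono hI k ha)⟩

/-- Degree zero. -/
theorem bijective_zero (M : ModuleCat.{u} R)
    (h : ∀ x : M, x ∈ DRing.torsionSub I' M → x ∈ DRing.torsionSub I M) :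
    Function.Bijective ((Dual2.HmapOfLE hI 0).app M).hom := by
  have hg : Function.Bijective ((gammaIncl hI).app M).hom :=
    ⟨fun x y hxy => Subtype.ext (congrArg Subtype.val hxy :), fun y => ⟨⟨y.1, h y.1 y.2⟩, rfl⟩⟩
  have he := congrArg (fun t => (t.app M).hom) (HmapOfLE_zero_comp hI)
  simp only [NatTrans.comp_app, ModuleCat.hom_comp] at he
  let e₁ := ((lcZeroIso I').app M).toLinearEquiv
  let e₂ := ((lcZeroIso I).app M).toLinearEquiv
  have h2 : ∀ x, e₁ (((Dual2.HmapOfLE hI 0).app M).hom x) = ((gammaIncl hI).app M).hom (e₂ x) :=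
    fun x => LinearMap.congr_fun he x
  exact (Function.Bijective.of_comp_iff' e₁.bijective _).1
    ((funext h2 : e₁ ∘ ((Dual2.HmapOfLE hI 0).app M).hom = ((gammaIncl hI).app M).hom ∘ e₂) ▸
      hg.comp e₂.bijective)

/-- Torsion in the sub does not contribute in positive degrees. -/
theorem map_g_bijective {S : ShortComplex (ModuleCat.{u} R)} (hS : S.ShortExact) (J : Ideal R)
    (h : LocCoh.IsPowerTorsion J S.X₁) (n : ℕ) :
    Function.Bijective ((localCohomology J (n + 1)).map S.g).hom := by
  constructor
  · refine (injective_iff_map_eq_zero _).2 fun x hx => ?_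
    obtain ⟨y, rfl⟩ := ((lcDeltaSeq J).exact₂ hS (n + 1) x).1 hx
    have := lc_subsingleton_of_isPowerTorsion J n S.X₁ h
    rw [Subsingleton.elim y 0, map_zero]
  · intro x
    have := lc_subsingleton_of_isPowerTorsion J (n + 1) S.X₁ h
    exact ((lcDeltaSeq J).exact₃ hS (n + 1) x).1 (Subsingleton.elim _ _)

/-- The connecting map is bijective when the middle term has no cohomology. -/
theorem δ_bijective {S : ShortComplex (ModuleCat.{u} R)} (hS : S.ShortExact) (J : Ideal R) (n : ℕ)
    (h : Subsingleton ((localCohomology J n).obj S.X₂))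
    (h' : Subsingleton ((localCohomology J (n + 1)).obj S.X₂)) :
    Function.Bijective ((lcDeltaSeq J).δ hS n).hom := by
  constructor
  · refine (injective_iff_map_eq_zero _).2 fun x hx => ?_
    obtain ⟨y, rfl⟩ := ((lcDeltaSeq J).exact₃ hS n x).1 hx
    rw [Subsingleton.elim y 0, map_zero]
  · intro x
    exact ((lcDeltaSeq J).exact₁ hS n x).1 (Subsingleton.elim _ _)

/-- `H_I → H_{I'}` is bijective up to `n` when `H_{I'}` is `I`-power torsion up to `n`. -/
theorem bijective_of_isPowerTorsion : ∀ (n : ℕ) (M : ModuleCat.{u} R),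
    (∀ i ≤ n, LocCoh.IsPowerTorsion I ((localCohomology I' i).obj M)) →
    Function.Bijective ((Dual2.HmapOfLE hI n).app M).hom := by
  intro n
  induction n with
  | zero =>
    intro M h
    refine bijective_zero hI M fun x hx => ?_
    obtain ⟨k, hk⟩ := isPowerTorsion_equiv ((lcZeroIso I').app M).toLinearEquiv (h 0 le_rfl)
      (⟨x, hx⟩ : DRing.torsionSub I' M)
    exact ⟨k, fun a ha => congrArg Subtype.val (hk a ha)⟩
  | succ n ih =>
    intro M h
    let N : Submodule R M := DRing.torsionSub I' M
    have hN : LocCoh.IsPowerTorsion I N := fun x => by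
      obtain ⟨k, hk⟩ := isPowerTorsion_equiv ((lcZeroIso I').app M).toLinearEquiv (h 0 (Nat.zero_le _))
        (x : DRing.torsionSub I' M)
      exact ⟨k, hk⟩
    let S := ShortComplex.mk (ModuleCat.ofHom N.subtype) (ModuleCat.ofHom N.mkQ)
      (ModuleCat.hom_ext (LinearMap.ext fun x => (Submodule.Quotient.mk_eq_zero N).2 x.2))
    have hS : S.ShortExact :=
      { exact := (ShortComplex.ShortExact.moduleCat_exact_iff_function_exact S).2
          (LinearMap.exact_subtype_mkQ N)
        mono_f := (ModuleCat.mono_iff_injective _).2 N.injective_subtype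
        epi_g := (ModuleCat.epi_iff_surjective _).2 N.mkQ_surjective }
    have hb := fun J (hJ : LocCoh.IsPowerTorsion J N) m => map_g_bijective hS J hJ m
    have hb' : ∀ m, Function.Bijective ((localCohomology I' (m + 1)).map S.g).hom :=
      hb I' (isPowerTorsion_of_le hI hN)
    -- the quotient has no torsion
    have hQ0 : DRing.torsionSub I' (M ⧸ N) = ⊥ := by
      refine (Submodule.eq_bot_iff _).2 fun y hy => ?_
      obtain ⟨x, rfl⟩ := Submodule.Quotient.mk_surjective _ y
      obtain ⟨k, hk⟩ := hy
      obtain ⟨s, hs⟩ := IsNoetherian.noetherian (I' ^ k)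
      have hx : ∀ a ∈ s, ∃ m, ∀ b ∈ I' ^ m, b • (a • x) = 0 := fun a ha => by
        have ha' : a ∈ I' ^ k := hs ▸ Submodule.subset_span ha
        have := hk a ha'
        rw [← Submodule.Quotient.mk_smul, Submodule.Quotient.mk_eq_zero] at this
        exact this
      choose! m hm using hx
      rw [Submodule.Quotient.mk_eq_zero]
      refine ⟨s.sup m + k, fun b hb => ?_⟩
      rw [pow_add] at hb
      refine Submodule.mul_induction_on hb (fun p hp a ha => ?_) fun p q hp hq => by
        rw [add_smul, hp, hq, add_zero]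
      rw [← hs] at ha
      rw [mul_smul]
      induction ha using Submodule.span_induction with
      | mem c hc => exact hm c hc p (Ideal.pow_le_pow_right (Finset.le_sup hc) hp)
      | zero => rw [zero_smul, smul_zero]
      | add c d _ _ hc hd => rw [add_smul, smul_add, hc, hd, add_zero]
      | smul r c _ hc => rw [smul_eq_mul, mul_smul, smul_comm p r, hc, smul_zero]
    obtain ⟨E, _, _, f, hf⟩ : ∃ (E : Type u) (_ : AddCommGroup E) (_ : Module R E)
        (f : (M ⧸ N) →ₗ[R] E), InjHull.IsInjectiveHull f := InjHull.Basic.exists_hull _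
    have hE0 : DRing.torsionSub I' E = ⊥ := by
      by_contra hne
      apply hf.essential _ hne
      refine (Submodule.eq_bot_iff _).2 ?_
      rintro _ ⟨⟨k, hk⟩, y, rfl⟩
      have : y ∈ DRing.torsionSub I' (M ⧸ N) :=
        ⟨k, fun a ha => hf.injective (by rw [map_smul, map_zero]; exact hk a ha)⟩
      rw [hQ0, Submodule.mem_bot] at this
      rw [this, map_zero]
    let S' := ShortComplex.mk (ModuleCat.ofHom f) (ModuleCat.ofHom (LinearMap.range f).mkQ)
      (ModuleCat.hom_ext (LinearMap.ext fun x => (Submodule.Quotient.mk_eq_zero _).2 ⟨x, rfl⟩))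
    have hS' : S'.ShortExact :=
      { exact := (ShortComplex.ShortExact.moduleCat_exact_iff_function_exact S').2
          (LinearMap.exact_map_mkQ_range f)
        mono_f := (ModuleCat.mono_iff_injective _).2 hf.injective
        epi_g := (ModuleCat.epi_iff_surjective _).2 (Submodule.mkQ_surjective _) }
    have hEinj : CategoryTheory.Injective S'.X₂ :=
      Module.injective_object_of_injective_module R E (inj := hf.isInjective)
    have hE : ∀ J : Ideal R, I' ≤ J → ∀ m, Subsingleton ((localCohomology J m).obj S'.X₂) := by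
      intro J hJ m
      cases m with
      | zero =>
        refine (((lcZeroIso J).app S'.X₂).toLinearEquiv.toEquiv).subsingleton_congr.2 ?_
        refine ⟨fun x y => Subtype.ext ?_⟩
        have hz : ∀ z : E, z ∈ DRing.torsionSub J E → z = 0 := fun z ⟨k, hk⟩ =>
          (Submodule.mem_bot R).1 (hE0 ▸ (⟨k, fun a ha => hk a (Ideal.pow_right_mono hJ k ha)⟩ :
            z ∈ DRing.torsionSub I' E))
        exact (hz _ x.2).trans (hz _ y.2).symm
      | succ m => exact lc_subsingleton_of_injective J _ m
    have hd := fun J hJ m => δ_bijective hS' J m (hE J hJ m) (hE J hJ (m + 1))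
    have hC : ∀ i ≤ n, LocCoh.IsPowerTorsion I ((localCohomology I' i).obj S'.X₃) := fun i hi => by
      refine isPowerTorsion_equiv (LinearEquiv.ofBijective _ (hd I' le_rfl i)).symm ?_
      exact isPowerTorsion_equiv (LinearEquiv.ofBijective _ (hb' i)) (h (i + 1) (by omega))
    have h1 := ih S'.X₃ hC
    have hcomm := congrArg ModuleCat.Hom.hom ((HmapHom hI).comm hS' n)
    simp only [ModuleCat.hom_comp] at hcomm
    have h2 : Function.Bijective ((Dual2.HmapOfLE hI (n + 1)).app S'.X₁).hom :=
      (Function.Bijective.of_comp_iff _ (hd I hI n)).1 (by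
        have := congrArg DFunLike.coe hcomm
        rw [LinearMap.coe_comp, LinearMap.coe_comp] at this
        exact this ▸ (hd I' le_rfl n).comp h1)
    have hnat := congrArg ModuleCat.Hom.hom ((Dual2.HmapOfLE hI (n + 1)).naturality S.g)
    simp only [ModuleCat.hom_comp] at hnat
    refine (Function.Bijective.of_comp_iff' (hb' n) _).1 ?_
    have := congrArg DFunLike.coe hnat
    rw [LinearMap.coe_comp, LinearMap.coe_comp] at this
    exact this ▸ h2.comp (hb I hN n)

end Groth.Agent.Lib.LocalCoh.Compare
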