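import Groth.Agent.Lib.LocalCoh.DeltaSeq
import Mathlib.Algebra.Category.ModuleCat.Projective
import Mathlib.Algebra.Category.ModuleCat.Ext.HasExt
import Mathlib.CategoryTheory.Abelian.Ext
import Mathlib.CategoryTheory.Abelian.Projective.Ext
import Mathlib.Algebra.Homology.DerivedCategory.Ext.Linear
import Mathlib.CategoryTheory.Linear.Yoneda

/-!
# Comparison of the two definitions of `Ext` for modules

`CategoryTheory.Ext` (left derived functors of `Hom(-, Y)`) and `CategoryTheory.Abelian.Ext`.
-/

universe u

open CategoryTheory CategoryTheory.Limits Opposite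

namespace Groth.Agent.Lib.LocalCoh

variable (R : Type u) [CommRing R]

/-- `Abelian.Ext` as a bifunctor into modules. -/
noncomputable def extE (n : ℕ) : (ModuleCat.{u} R)ᵒᵖ ⥤ ModuleCat.{u} R ⥤ ModuleCat.{u} R where
  obj X :=
    { obj := fun Y => ModuleCat.of R (Abelian.Ext.{u} X.unop Y n)
      map := fun g => ModuleCat.ofHom
        { toFun := fun α => α.comp (Abelian.Ext.mk₀ g) (add_zero n)
          map_add' := fun α β => by simp
          map_smul' := fun r α => Abelian.Ext.smul_comp _ _ _ _ }
      map_id := fun Y => by ext α; simp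
      map_comp := fun g g' => by ext α; simp }
  map {X X'} f :=
    { app := fun Y => ModuleCat.ofHom
        { toFun := fun α => (Abelian.Ext.mk₀ f.unop).comp α (zero_add n)
          map_add' := fun α β => by simp
          map_smul' := fun r α => Abelian.Ext.comp_smul _ _ _ _ }
      naturality := fun Y Y' g => by ext α; simp }
  map_id X := by ext Y α; simp
  map_comp f g := by ext Y α; simp

variable {R}

variable {X : ModuleCat.{u} R} (P : ProjectiveResolution X) (Y : ModuleCat.{u} R) (n : ℕ)

/-- The three-term piece of `Hom(P, Y)`, in the opposite category. -/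
noncomputable abbrev homSC : ShortComplex (ModuleCat.{u} R)ᵒᵖ :=
  ((((linearYoneda R (ModuleCat.{u} R)).obj Y).rightOp.mapHomologicalComplex _).obj P.complex).sc'
    (n + 1) n (n - 1)

/-- Cocycles of `Hom(P, Y)`. -/
noncomputable abbrev homCocycles : ModuleCat.{u} R :=
  ModuleCat.of R (LinearMap.ker (homSC P Y n).f.unop.hom)

/-- A cocycle gives a class. -/
noncomputable def cocycleToExt : homCocycles P Y n ⟶ ((extE R n).obj (op X)).obj Y :=
  ModuleCat.ofHom
    { toFun := fun f => P.extMk f.1 (n + 1) rfl (LinearMap.mem_ker.1 f.2)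
      map_add' := fun f g => (P.add_extMk f.1 g.1 (n + 1) rfl _ _).symm
      map_smul' := fun r f => by
        dsimp
        refine Eq.trans ?_ (Abelian.Ext.smul_eq_comp_mk₀ _ r).symm
        refine Eq.trans ?_ (P.extMk_comp_mk₀ _ _ _ _ _).symm
        congr 1 }

lemma cocycleToExt_surjective : Function.Surjective (cocycleToExt P Y n).hom := fun α => by
  obtain ⟨f, hf, rfl⟩ := P.extMk_surjective α (n + 1) rfl
  exact ⟨⟨f, LinearMap.mem_ker.2 hf⟩, rfl⟩

omit Y n in
lemma extMk_zero_degree_injective {Y : ModuleCat.{u} R} (f : P.complex.X 0 ⟶ Y)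
    (hf : P.complex.d 1 0 ≫ f = 0) (h : P.extMk f 1 rfl hf = 0) : f = 0 := by
  rw [← P.extEquivCohomologyClass.apply_eq_iff_eq, P.extEquivCohomologyClass_extMk,
    P.extEquivCohomologyClass_zero, CochainComplex.HomComplex.CohomologyClass.mk_eq_zero_iff,
    CochainComplex.HomComplex.Cocycle.toSingleMk_mem_coboundaries_iff _ _ _ _ _ 1 (by simp)] at h
  obtain ⟨g, hg⟩ := h
  have : g = 0 := (P.cochainComplex.isZero_of_isStrictlyLE 0 1).eq_of_src _ _
  rw [this, comp_zero] at hg
  exact (cancel_epi (P.cochainComplexXIso (-(0:ℕ)) 0 rfl).hom).1 (hg.symm.trans comp_zero.symm)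

set_option backward.isDefEq.respectTransparency false in
lemma cocycleToExt_eq_zero_iff (f : homCocycles P Y n) :
    (cocycleToExt P Y n).hom f = 0 ↔ ∃ g, (homSC P Y n).g.unop.hom g = f.1 := by
  cases n with
  | zero =>
    have hd : P.complex.d 0 0 = 0 := P.complex.shape _ _ (by simp)
    constructor
    · intro h
      refine ⟨0, (map_zero _).trans ?_⟩
      exact (extMk_zero_degree_injective P f.1 (LinearMap.mem_ker.1 f.2) h).symm
    · rintro ⟨g, hg⟩
      have h0 : f.1 = 0 := by
        rw [← hg]
        exact (congrArg (· ≫ g) hd).trans zero_comp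
      have : f = 0 := Subtype.ext h0
      rw [this, map_zero]
  | succ m =>
    exact P.extMk_eq_zero_iff f.1 (m + 2) rfl (LinearMap.mem_ker.1 f.2) m rfl

set_option backward.isDefEq.respectTransparency false in
/-- The cocycle description, as left homology data. -/
noncomputable def homLeftHomologyData : (homSC P Y n).unop.LeftHomologyData :=
  DeltaSeq.leftHomologyDataOfExact _ (ModuleCat.ofHom (Submodule.subtype (LinearMap.ker (homSC P Y n).f.unop.hom))) (cocycleToExt P Y n)
    Subtype.val_injective
    (fun x => ⟨fun hx => ⟨⟨x, LinearMap.mem_ker.2 hx⟩, rfl⟩,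
      by rintro ⟨y, rfl⟩; exact LinearMap.mem_ker.1 y.2⟩)
    (cocycleToExt_surjective P Y n) (fun f => cocycleToExt_eq_zero_iff P Y n f)

/-- The cocycle description, as right homology data in the opposite category. -/
noncomputable def homRightHomologyData : (homSC P Y n).RightHomologyData :=
  (homLeftHomologyData P Y n).op

/-- The left derived functor of `Hom(-, Y)` is `Abelian.Ext`. -/
noncomputable def leftDerivedObjIso :
    (((linearYoneda R (ModuleCat.{u} R)).obj Y).rightOp.leftDerived n).obj X ≅
      op (((extE R n).obj (op X)).obj Y) :=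
  P.isoLeftDerivedObj _ n ≪≫
    (((((linearYoneda R (ModuleCat.{u} R)).obj Y).rightOp.mapHomologicalComplex _).obj
      P.complex).homologyIsoSc' (n + 1) n (n - 1) (by simp) (by cases n <;> simp)) ≪≫
    (homRightHomologyData P Y n).homologyIso

section Naturality

variable {Y}

lemma homologyMap_sc'_comm {D : Type*} [Category D] [HasZeroMorphisms D] [CategoryWithHomology D]
    {K L : ChainComplex D ℕ} (Φ : K ⟶ L) (i j k : ℕ) (hi : (ComplexShape.down ℕ).prev j = i)
    (hk : (ComplexShape.down ℕ).next j = k) :
    HomologicalComplex.homologyMap Φ j ≫ (L.homologyIsoSc' i j k hi hk).hom =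
      (K.homologyIsoSc' i j k hi hk).hom ≫ ShortComplex.homologyMap
        ((HomologicalComplex.shortComplexFunctor' D _ i j k).map Φ) := by
  have e : (HomologicalComplex.shortComplexFunctor D (ComplexShape.down ℕ) j).map Φ ≫
      (L.isoSc' i j k hi hk).hom = (K.isoSc' i j k hi hk).hom ≫
        (HomologicalComplex.shortComplexFunctor' D _ i j k).map Φ :=
    (HomologicalComplex.natIsoSc' D (ComplexShape.down ℕ) i j k hi hk).hom.naturality Φ
  refine ((ShortComplex.homologyMap_comp _ _).symm.trans ?_).trans
    (ShortComplex.homologyMap_comp _ _)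
  rw [e]

set_option backward.isDefEq.respectTransparency false in
lemma leftDerivedObjIso_natural_right {Y' : ModuleCat.{u} R} (g : Y ⟶ Y') :
    (NatTrans.leftDerived (NatTrans.rightOp ((linearYoneda R (ModuleCat.{u} R)).map g)) n).app X ≫
      (leftDerivedObjIso P Y n).hom =
      (leftDerivedObjIso P Y' n).hom ≫ (((extE R n).obj (op X)).map g).op := by
  let α := NatTrans.rightOp ((linearYoneda R (ModuleCat.{u} R)).map g)
  let Φ := (NatTrans.mapHomologicalComplex α (ComplexShape.down ℕ)).app P.complex
  let χ := (HomologicalComplex.shortComplexFunctor' (ModuleCat.{u} R)ᵒᵖ (ComplexShape.down ℕ)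
    (n + 1) n (n - 1)).map Φ
  let q : homCocycles P Y n ⟶ homCocycles P Y' n := ModuleCat.ofHom
    (LinearMap.restrict (χ.τ₂.unop.hom) (fun f hf => by
      rw [LinearMap.mem_ker] at hf ⊢
      have e := ConcreteCategory.congr_hom (congrArg Quiver.Hom.unop χ.comm₁₂) f
      exact (e.symm.trans ((congrArg χ.τ₁.unop.hom hf).trans (map_zero _)))))
  let γ : ShortComplex.RightHomologyMapData χ (homRightHomologyData P Y' n)
      (homRightHomologyData P Y n) :=
    { φQ := q.op
      φH := (((extE R n).obj (op X)).map g).op
      commp := rfl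
      commg' := by
        rw [← cancel_epi (homRightHomologyData P Y' n).p,
          ShortComplex.RightHomologyData.p_g'_assoc]
        rw [← Category.assoc,
          show (homRightHomologyData P Y' n).p ≫ q.op = χ.τ₂ ≫ (homRightHomologyData P Y n).p
          from rfl, Category.assoc, ShortComplex.RightHomologyData.p_g']
        exact χ.comm₂₃
      commι := by
        apply Quiver.Hom.unop_inj
        ext f
        exact P.extMk_comp_mk₀ f.1 (n + 1) rfl (LinearMap.mem_ker.1 f.2) g }
  simp only [leftDerivedObjIso, Iso.trans_hom, Category.assoc]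
  rw [P.leftDerived_app_eq]
  simp only [Category.assoc, Iso.inv_hom_id_assoc]
  congr 1
  rw [← Category.assoc]
  erw [homologyMap_sc'_comm Φ (n + 1) n (n - 1)]
  rw [Category.assoc]
  erw [γ.homologyMap_comm]

set_option backward.isDefEq.respectTransparency false in
lemma leftDerivedObjIso_natural_left {X' : ModuleCat.{u} R} (P' : ProjectiveResolution X')
    (f : X ⟶ X') (φ : ProjectiveResolution.Hom P P' f) :
    (((linearYoneda R (ModuleCat.{u} R)).obj Y).rightOp.leftDerived n).map f ≫
      (leftDerivedObjIso P' Y n).hom =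
      (leftDerivedObjIso P Y n).hom ≫ (((extE R n).map f.op).app Y).op := by
  let F := ((linearYoneda R (ModuleCat.{u} R)).obj Y).rightOp
  let Φ := (F.mapHomologicalComplex (ComplexShape.down ℕ)).map φ.hom
  let χ := (HomologicalComplex.shortComplexFunctor' (ModuleCat.{u} R)ᵒᵖ (ComplexShape.down ℕ)
    (n + 1) n (n - 1)).map Φ
  let q : homCocycles P' Y n ⟶ homCocycles P Y n := ModuleCat.ofHom
    (LinearMap.restrict (χ.τ₂.unop.hom) (fun f hf => by
      rw [LinearMap.mem_ker] at hf ⊢
      have e := ConcreteCategory.congr_hom (congrArg Quiver.Hom.unop χ.comm₁₂) f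
      exact (e.symm.trans ((congrArg χ.τ₁.unop.hom hf).trans (map_zero _)))))
  let γ : ShortComplex.RightHomologyMapData χ (homRightHomologyData P Y n)
      (homRightHomologyData P' Y n) :=
    { φQ := q.op
      φH := (((extE R n).map f.op).app Y).op
      commp := rfl
      commg' := by
        rw [← cancel_epi (homRightHomologyData P Y n).p,
          ShortComplex.RightHomologyData.p_g'_assoc]
        rw [← Category.assoc,
          show (homRightHomologyData P Y n).p ≫ q.op = χ.τ₂ ≫ (homRightHomologyData P' Y n).p
          from rfl, Category.assoc, ShortComplex.RightHomologyData.p_g']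
        exact χ.comm₂₃
      commι := by
        apply Quiver.Hom.unop_inj
        ext c
        exact ProjectiveResolution.mk₀_comp_extMk c.1 (n + 1) rfl (LinearMap.mem_ker.1 c.2) φ }
  simp only [leftDerivedObjIso, Iso.trans_hom, Category.assoc]
  rw [ProjectiveResolution.isoLeftDerivedObj_hom_naturality_assoc f P P' φ.hom
    φ.hom_f_zero_comp_π_f_zero]
  congr 1
  rw [← Category.assoc]
  erw [homologyMap_sc'_comm Φ (n + 1) n (n - 1)]
  rw [Category.assoc]
  erw [γ.homologyMap_comm]

end Naturality

lemma unop_comm {D : Type*} [Category D] {A A' : Dᵒᵖ} {B B' : D} (I : A ≅ op B)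
    (I' : A' ≅ op B') (a : A' ⟶ A) (b : B ⟶ B') (h : a ≫ I.hom = I'.hom ≫ b.op) :
    a.unop ≫ I'.inv.unop = I.inv.unop ≫ b := by
  apply Quiver.Hom.op_inj
  change I'.inv ≫ a = b.op ≫ I.inv
  rw [Iso.inv_comp_eq, ← Category.assoc, ← h, Category.assoc, Iso.hom_inv_id, Category.comp_id]

variable (R)

/-- The two definitions of `Ext` agree, naturally in both variables. -/
noncomputable def extIso (n : ℕ) : Ext R (ModuleCat.{u} R) n ≅ extE R n :=
  NatIso.ofComponents
    (fun X => NatIso.ofComponents
      (fun Y => (leftDerivedObjIso (projectiveResolution X.unop) Y n).unop.symm)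
      (fun {Y Y'} g =>
        unop_comm _ _ _ _ (leftDerivedObjIso_natural_right (projectiveResolution X.unop) n g)))
    (fun {X X'} f => by
      ext Y : 2
      exact unop_comm _ _ _ _ (leftDerivedObjIso_natural_left (Y := Y)
        (projectiveResolution X'.unop) n (projectiveResolution X.unop) f.unop
        ⟨ProjectiveResolution.lift f.unop _ _, by
          simpa using ProjectiveResolution.lift_commutes_zero f.unop _ _⟩))

end Groth.Agent.Lib.LocalCoh
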