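import Groth.Agent.Lib.LocalCoh.Hmap
import Groth.Agent.Lib.LocalCoh.Resolution
import Mathlib.Algebra.Homology.HomologicalComplexAbelian
import Mathlib.Algebra.Homology.HomologySequence
import Mathlib.RingTheory.Filtration

/-!
# The Mayer–Vietoris sequence of local cohomology
-/

universe u

open CategoryTheory CategoryTheory.Limits

namespace Groth.Agent.Lib.LocalCoh

variable {R : Type u} [CommRing R]

section Complexes

variable {Xu Xa Xb Xi : CochainComplex (ModuleCat.{u} R) ℕ}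
  (f₁ : Xu ⟶ Xa) (f₂ : Xu ⟶ Xb) (g₁ : Xa ⟶ Xi) (g₂ : Xb ⟶ Xi) (w : f₁ ≫ g₁ = f₂ ≫ g₂)

/-- The short complex of a square of complexes. -/
noncomputable abbrev squareSeq : ShortComplex (CochainComplex (ModuleCat.{u} R) ℕ) :=
  ShortComplex.mk (biprod.lift f₁ f₂) (biprod.desc g₁ (-g₂))
    (by rw [biprod.lift_desc, Preadditive.comp_neg, w, add_neg_cancel])

lemma biprod_eval (n : ℕ) (y : (Xa ⊞ Xb).X n) :
    (biprod.inl : Xa ⟶ Xa ⊞ Xb).f n ((biprod.fst : Xa ⊞ Xb ⟶ Xa).f n y) +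
      (biprod.inr : Xb ⟶ Xa ⊞ Xb).f n ((biprod.snd : Xa ⊞ Xb ⟶ Xb).f n y) = y :=
  ConcreteCategory.congr_hom (congrArg (fun t : (Xa ⊞ Xb) ⟶ (Xa ⊞ Xb) => t.f n) biprod.total) y

include w in
lemma squareSeq_shortExact
    (hinj : ∀ n (x : Xu.X n), f₁.f n x = 0 → f₂.f n x = 0 → x = 0)
    (hex : ∀ n (y : Xa.X n) (z : Xb.X n), g₁.f n y = g₂.f n z →
      ∃ x, f₁.f n x = y ∧ f₂.f n x = z)
    (hsurj : ∀ n (t : Xi.X n), ∃ y z, g₁.f n y - g₂.f n z = t) :
    (squareSeq f₁ f₂ g₁ g₂ w).ShortExact := by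
  refine HomologicalComplex.shortExact_of_degreewise_shortExact _ fun n => ?_
  set q := (biprod.desc g₁ (-g₂) : Xa ⊞ Xb ⟶ Xi)
  set p := (biprod.lift f₁ f₂ : Xu ⟶ Xa ⊞ Xb)
  have hp1 : ∀ x, (biprod.fst : Xa ⊞ Xb ⟶ Xa).f n (p.f n x) = f₁.f n x := fun x =>
    ConcreteCategory.congr_hom (congrArg (fun t : Xu ⟶ Xa => t.f n) (biprod.lift_fst f₁ f₂)) x
  have hp2 : ∀ x, (biprod.snd : Xa ⊞ Xb ⟶ Xb).f n (p.f n x) = f₂.f n x := fun x =>
    ConcreteCategory.congr_hom (congrArg (fun t : Xu ⟶ Xb => t.f n) (biprod.lift_snd f₁ f₂)) x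
  have hq1 : ∀ y, q.f n ((biprod.inl : Xa ⟶ Xa ⊞ Xb).f n y) = g₁.f n y := fun y =>
    ConcreteCategory.congr_hom (congrArg (fun t : Xa ⟶ Xi => t.f n) (biprod.inl_desc g₁ (-g₂))) y
  have hq2 : ∀ z, q.f n ((biprod.inr : Xb ⟶ Xa ⊞ Xb).f n z) = - g₂.f n z := fun z =>
    ConcreteCategory.congr_hom (congrArg (fun t : Xb ⟶ Xi => t.f n) (biprod.inr_desc g₁ (-g₂))) z
  have hq : ∀ y, q.f n y = g₁.f n ((biprod.fst : Xa ⊞ Xb ⟶ Xa).f n y) -
      g₂.f n ((biprod.snd : Xa ⊞ Xb ⟶ Xb).f n y) := fun y => by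
    conv_lhs => rw [← biprod_eval n y]
    rw [map_add, hq1, hq2, sub_eq_add_neg]
  have hm : Mono ((squareSeq f₁ f₂ g₁ g₂ w).map (HomologicalComplex.eval _ _ n)).f := by
    refine (ModuleCat.mono_iff_injective _).2
      ((injective_iff_map_eq_zero (p.f n).hom).2 fun x hx => ?_)
    refine hinj n x ?_ ?_
    · exact (hp1 x).symm.trans ((congrArg _ hx).trans (map_zero _))
    · exact (hp2 x).symm.trans ((congrArg _ hx).trans (map_zero _))
  have he : Epi ((squareSeq f₁ f₂ g₁ g₂ w).map (HomologicalComplex.eval _ _ n)).g := by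
    refine (ModuleCat.epi_iff_surjective _).2 fun t => ?_
    obtain ⟨y, z, rfl⟩ := hsurj n t
    refine ⟨(biprod.inl : Xa ⟶ Xa ⊞ Xb).f n y + (biprod.inr : Xb ⟶ Xa ⊞ Xb).f n z, ?_⟩
    exact (map_add (q.f n).hom _ _).trans ((congrArg₂ (· + ·) (hq1 y) (hq2 z)).trans
      (sub_eq_add_neg _ _).symm)
  refine { exact := (ShortComplex.ShortExact.moduleCat_exact_iff_function_exact _).2 fun y => ?_ }
  revert y
  show ∀ y : (Xa ⊞ Xb).X n, q.f n y = 0 ↔ ∃ x : Xu.X n, p.f n x = y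
  intro y
  refine ⟨fun hy => ?_, ?_⟩
  · rw [hq, sub_eq_zero] at hy
    obtain ⟨x, h1, h2⟩ := hex n _ _ hy
    refine ⟨x, ?_⟩
    rw [← biprod_eval n (p.f n x), hp1, hp2, h1, h2, biprod_eval]
  · rintro ⟨x, rfl⟩
    exact ConcreteCategory.congr_hom
      (congrArg (fun t : Xu ⟶ Xi => t.f n) (squareSeq f₁ f₂ g₁ g₂ w).zero) x

lemma homologyMap_comp_apply {K L M : CochainComplex (ModuleCat.{u} R) ℕ} {f : K ⟶ L}
    {g : L ⟶ M} {h : K ⟶ M} (e : f ≫ g = h) (n : ℕ) (x : K.homology n) :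
    (HomologicalComplex.homologyMap g n).hom ((HomologicalComplex.homologyMap f n).hom x) =
      (HomologicalComplex.homologyMap h n).hom x :=
  ConcreteCategory.congr_hom ((HomologicalComplex.homologyMap_comp f g n).symm.trans
    (congrArg (fun t => HomologicalComplex.homologyMap t n) e)) x

/-- The homology of a biproduct of complexes. -/
noncomputable def homologyBiprodEquiv (n : ℕ) :
    (Xa ⊞ Xb).homology n ≃ₗ[R] Xa.homology n × Xb.homology n :=
  LinearEquiv.ofLinearMap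
    (LinearMap.prod (HomologicalComplex.homologyMap (biprod.fst : Xa ⊞ Xb ⟶ Xa) n).hom
      (HomologicalComplex.homologyMap (biprod.snd : Xa ⊞ Xb ⟶ Xb) n).hom)
    (LinearMap.coprod (HomologicalComplex.homologyMap (biprod.inl : Xa ⟶ Xa ⊞ Xb) n).hom
      (HomologicalComplex.homologyMap (biprod.inr : Xb ⟶ Xa ⊞ Xb) n).hom)
    (by
      apply LinearMap.prod_ext <;> refine LinearMap.ext fun x => Prod.ext ?_ ?_
      · show (HomologicalComplex.homologyMap (biprod.fst : Xa ⊞ Xb ⟶ Xa) n).hom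
          ((HomologicalComplex.homologyMap (biprod.inl : Xa ⟶ Xa ⊞ Xb) n).hom x +
            (HomologicalComplex.homologyMap (biprod.inr : Xb ⟶ Xa ⊞ Xb) n).hom 0) = x
        rw [map_zero, add_zero]
        exact homologyMap_comp_apply biprod.inl_fst n x |>.trans
          (ConcreteCategory.congr_hom (HomologicalComplex.homologyMap_id Xa n) x)
      · show (HomologicalComplex.homologyMap (biprod.snd : Xa ⊞ Xb ⟶ Xb) n).hom
          ((HomologicalComplex.homologyMap (biprod.inl : Xa ⟶ Xa ⊞ Xb) n).hom x +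
            (HomologicalComplex.homologyMap (biprod.inr : Xb ⟶ Xa ⊞ Xb) n).hom 0) = 0
        rw [map_zero, add_zero]
        exact homologyMap_comp_apply biprod.inl_snd n x |>.trans
          (ConcreteCategory.congr_hom (HomologicalComplex.homologyMap_zero Xa Xb n) x)
      · show (HomologicalComplex.homologyMap (biprod.fst : Xa ⊞ Xb ⟶ Xa) n).hom
          ((HomologicalComplex.homologyMap (biprod.inl : Xa ⟶ Xa ⊞ Xb) n).hom 0 +
            (HomologicalComplex.homologyMap (biprod.inr : Xb ⟶ Xa ⊞ Xb) n).hom x) = 0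
        rw [map_zero, zero_add]
        exact homologyMap_comp_apply biprod.inr_fst n x |>.trans
          (ConcreteCategory.congr_hom (HomologicalComplex.homologyMap_zero Xb Xa n) x)
      · show (HomologicalComplex.homologyMap (biprod.snd : Xa ⊞ Xb ⟶ Xb) n).hom
          ((HomologicalComplex.homologyMap (biprod.inl : Xa ⟶ Xa ⊞ Xb) n).hom 0 +
            (HomologicalComplex.homologyMap (biprod.inr : Xb ⟶ Xa ⊞ Xb) n).hom x) = x
        rw [map_zero, zero_add]
        exact homologyMap_comp_apply biprod.inr_snd n x |>.trans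
          (ConcreteCategory.congr_hom (HomologicalComplex.homologyMap_id Xb n) x))
    (by
      ext x
      have h : HomologicalComplex.homologyMap ((biprod.fst : Xa ⊞ Xb ⟶ Xa) ≫ biprod.inl +
          (biprod.snd : Xa ⊞ Xb ⟶ Xb) ≫ biprod.inr) n = 𝟙 _ := by
        rw [biprod.total, HomologicalComplex.homologyMap_id]
      rw [HomologicalComplex.homologyMap_add, HomologicalComplex.homologyMap_comp,
        HomologicalComplex.homologyMap_comp] at h
      exact ConcreteCategory.congr_hom h x)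

lemma homologyBiprodEquiv_lift (n : ℕ) (x : Xu.homology n) :
    homologyBiprodEquiv n (HomologicalComplex.homologyMap (biprod.lift f₁ f₂) n x) =
      (HomologicalComplex.homologyMap f₁ n x, HomologicalComplex.homologyMap f₂ n x) := by
  refine Prod.ext ?_ ?_
  · have h := (HomologicalComplex.homologyMap_comp (biprod.lift f₁ f₂) biprod.fst n).symm
    rw [biprod.lift_fst] at h
    exact ConcreteCategory.congr_hom h x
  · have h := (HomologicalComplex.homologyMap_comp (biprod.lift f₁ f₂) biprod.snd n).symm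
    rw [biprod.lift_snd] at h
    exact ConcreteCategory.congr_hom h x

lemma homologyMap_desc_apply (n : ℕ) (y : (Xa ⊞ Xb).homology n) :
    HomologicalComplex.homologyMap (biprod.desc g₁ (-g₂)) n y =
      HomologicalComplex.homologyMap g₁ n (homologyBiprodEquiv n y).1 -
        HomologicalComplex.homologyMap g₂ n (homologyBiprodEquiv n y).2 := by
  have h : HomologicalComplex.homologyMap (biprod.desc g₁ (-g₂)) n =
      HomologicalComplex.homologyMap ((biprod.fst : Xa ⊞ Xb ⟶ Xa) ≫ g₁ -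
        (biprod.snd : Xa ⊞ Xb ⟶ Xb) ≫ g₂) n := by
    rw [biprod.desc_eq, Preadditive.comp_neg, sub_eq_add_neg]
  rw [HomologicalComplex.homologyMap_sub, HomologicalComplex.homologyMap_comp,
    HomologicalComplex.homologyMap_comp] at h
  exact ConcreteCategory.congr_hom h y

include w in
/-- The long exact sequence of a short exact square, transported along equivalences. -/
theorem exists_mayerVietoris
    (hinj : ∀ n (x : Xu.X n), f₁.f n x = 0 → f₂.f n x = 0 → x = 0)
    (hex : ∀ n (y : Xa.X n) (z : Xb.X n), g₁.f n y = g₂.f n z →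
      ∃ x, f₁.f n x = y ∧ f₂.f n x = z)
    (hsurj : ∀ n (t : Xi.X n), ∃ y z, g₁.f n y - g₂.f n z = t)
    {Hu Ha Hb Hi : ℕ → Type u}
    [∀ i, AddCommGroup (Hu i)] [∀ i, Module R (Hu i)] [∀ i, AddCommGroup (Ha i)]
    [∀ i, Module R (Ha i)] [∀ i, AddCommGroup (Hb i)] [∀ i, Module R (Hb i)]
    [∀ i, AddCommGroup (Hi i)] [∀ i, Module R (Hi i)]
    (eu : ∀ i, Xu.homology i ≃ₗ[R] Hu i) (ea : ∀ i, Xa.homology i ≃ₗ[R] Ha i)
    (eb : ∀ i, Xb.homology i ≃ₗ[R] Hb i) (ei : ∀ i, Xi.homology i ≃ₗ[R] Hi i)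
    (p₁ : ∀ i, Hu i →ₗ[R] Ha i) (p₂ : ∀ i, Hu i →ₗ[R] Hb i)
    (q₁ : ∀ i, Ha i →ₗ[R] Hi i) (q₂ : ∀ i, Hb i →ₗ[R] Hi i)
    (hp₁ : ∀ i x, p₁ i (eu i x) = ea i (HomologicalComplex.homologyMap f₁ i x))
    (hp₂ : ∀ i x, p₂ i (eu i x) = eb i (HomologicalComplex.homologyMap f₂ i x))
    (hq₁ : ∀ i x, q₁ i (ea i x) = ei i (HomologicalComplex.homologyMap g₁ i x))
    (hq₂ : ∀ i x, q₂ i (eb i x) = ei i (HomologicalComplex.homologyMap g₂ i x)) :
    ∃ δ : ∀ i, Hi i →ₗ[R] Hu (i + 1),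
      Function.Injective (LinearMap.prod (p₁ 0) (p₂ 0)) ∧
      (∀ i, LinearMap.ker (LinearMap.prod (p₁ (i + 1)) (p₂ (i + 1))) = LinearMap.range (δ i)) ∧
      (∀ i, LinearMap.ker (q₁ i ∘ₗ LinearMap.fst R _ _ - q₂ i ∘ₗ LinearMap.snd R _ _) =
        LinearMap.range (LinearMap.prod (p₁ i) (p₂ i))) ∧
      (∀ i, LinearMap.ker (δ i) =
        LinearMap.range (q₁ i ∘ₗ LinearMap.fst R _ _ - q₂ i ∘ₗ LinearMap.snd R _ _)) := by
  have hS := squareSeq_shortExact f₁ f₂ g₁ g₂ w hinj hex hsurj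
  let e₂ : ∀ i, (Xa ⊞ Xb).homology i ≃ₗ[R] Ha i × Hb i := fun i =>
    (homologyBiprodEquiv i).trans ((ea i).prodCongr (eb i))
  let δ : ∀ i, Hi i →ₗ[R] Hu (i + 1) := fun i =>
    (eu (i + 1)).toLinearMap ∘ₗ (hS.δ i (i + 1) rfl).hom ∘ₗ (ei i).symm.toLinearMap
  have hf : ∀ i, LinearMap.prod (p₁ i) (p₂ i) ∘ₗ (eu i).toLinearMap = (e₂ i).toLinearMap ∘ₗ
      (HomologicalComplex.homologyMap (biprod.lift f₁ f₂) i).hom := fun i => by
    refine LinearMap.ext fun x => ?_
    show (p₁ i (eu i x), p₂ i (eu i x)) = ((ea i).prodCongr (eb i))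
      (homologyBiprodEquiv i (HomologicalComplex.homologyMap (biprod.lift f₁ f₂) i x))
    rw [homologyBiprodEquiv_lift, hp₁, hp₂]
    rfl
  have hg : ∀ i, (q₁ i ∘ₗ LinearMap.fst R _ _ - q₂ i ∘ₗ LinearMap.snd R _ _) ∘ₗ
      (e₂ i).toLinearMap =
      (ei i).toLinearMap ∘ₗ (HomologicalComplex.homologyMap (biprod.desc g₁ (-g₂)) i).hom :=
    fun i => by
    refine LinearMap.ext fun y => ?_
    show q₁ i (ea i (homologyBiprodEquiv i y).1) - q₂ i (eb i (homologyBiprodEquiv i y).2) =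
      ei i (HomologicalComplex.homologyMap (biprod.desc g₁ (-g₂)) i y)
    rw [homologyMap_desc_apply, hq₁, hq₂, map_sub]
  have hd : ∀ i, δ i ∘ₗ (ei i).toLinearMap =
      (eu (i + 1)).toLinearMap ∘ₗ (hS.δ i (i + 1) rfl).hom := fun i => by
    refine LinearMap.ext fun x => ?_
    simp [δ]
  refine ⟨δ, ?_, fun i => ?_, fun i => ?_, fun i => ?_⟩
  · have hmono : Function.Injective
        (HomologicalComplex.homologyMap (biprod.lift f₁ f₂ : Xu ⟶ Xa ⊞ Xb) 0).hom := by
      have := hS.mono_f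
      have : Mono ((biprod.lift f₁ f₂ : Xu ⟶ Xa ⊞ Xb).f 0) :=
        inferInstanceAs (Mono ((squareSeq f₁ f₂ g₁ g₂ w).f.f 0))
      have : Mono (HomologicalComplex.homologyMap (biprod.lift f₁ f₂ : Xu ⟶ Xa ⊞ Xb) 0) := by
        have := Xu.isIso_homologyπ 0 0 (by simp) (by simp)
        have := (Xa ⊞ Xb).isIso_homologyπ 0 0 (by simp) (by simp)
        rw [← (IsIso.inv_comp_eq _).2
          (HomologicalComplex.homologyπ_naturality (biprod.lift f₁ f₂) 0).symm]
        infer_instance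
      exact (ModuleCat.mono_iff_injective _).1 this
    intro x y h
    obtain ⟨x, rfl⟩ := (eu 0).surjective x
    obtain ⟨y, rfl⟩ := (eu 0).surjective y
    exact congrArg _ (hmono ((e₂ 0).injective
      (((LinearMap.congr_fun (hf 0) x).symm.trans h).trans (LinearMap.congr_fun (hf 0) y))))
  · exact LinearMap.exact_iff.1 ((Function.Exact.iff_of_ladder_linearEquiv (hd i) (hf (i + 1))).2
      ((ShortComplex.ShortExact.moduleCat_exact_iff_function_exact _).1
        (hS.homology_exact₁ i (i + 1) rfl)))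
  · exact LinearMap.exact_iff.1 ((Function.Exact.iff_of_ladder_linearEquiv (hf i) (hg i)).2
      ((ShortComplex.ShortExact.moduleCat_exact_iff_function_exact _).1 (hS.homology_exact₂ i)))
  · exact LinearMap.exact_iff.1 ((Function.Exact.iff_of_ladder_linearEquiv (hg i) (hd i)).2
      ((ShortComplex.ShortExact.moduleCat_exact_iff_function_exact _).1
        (hS.homology_exact₃ i (i + 1) rfl)))

end Complexes

section Torsion

lemma exists_pow_inf_pow_le [IsNoetherianRing R] (a b : Ideal R) (n : ℕ) :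
    ∃ m, a ^ m ⊓ b ^ n ≤ (a * b) ^ n := by
  obtain ⟨k, hk⟩ := Ideal.exists_pow_inf_eq_pow_smul a (b ^ n : Submodule R R)
  refine ⟨k + n, ?_⟩
  have h := hk (k + n) (Nat.le_add_right k n)
  rw [Nat.add_sub_cancel_left] at h
  calc a ^ (k + n) ⊓ b ^ n = a ^ (k + n) • (⊤ : Submodule R R) ⊓ b ^ n := by
        rw [Ideal.smul_eq_mul, Ideal.mul_top]
    _ = a ^ n • (a ^ k • (⊤ : Submodule R R) ⊓ b ^ n) := h
    _ ≤ a ^ n • b ^ n := Submodule.smul_mono le_rfl inf_le_right
    _ = (a * b) ^ n := by rw [Ideal.smul_eq_mul, mul_pow]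

lemma torsion_sup_of_both {a b : Ideal R} {E : Type u} [AddCommGroup E] [Module R E] {x : E}
    (ha : x ∈ DRing.torsionSub a E) (hb : x ∈ DRing.torsionSub b E) :
    x ∈ DRing.torsionSub (a ⊔ b) E := by
  obtain ⟨n, hn⟩ := ha
  obtain ⟨m, hm⟩ := hb
  refine ⟨n + m, fun r hr => ?_⟩
  obtain ⟨c, hc, d, hd, rfl⟩ := Submodule.mem_sup.1 (Ideal.sup_pow_add_le_pow_sup_pow hr)
  rw [add_smul, hn c hc, hm d hd, add_zero]

/-- On an injective module, torsion for `a ⊓ b` is a sum of torsions for `a` and `b`. -/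
lemma exists_torsion_add_of_inf [IsNoetherianRing R] {a b : Ideal R} {E : Type u} [AddCommGroup E]
    [Module R E] (hE : Module.Injective R E) {x : E} (hx : x ∈ DRing.torsionSub (a ⊓ b) E) :
    ∃ y ∈ DRing.torsionSub a E, ∃ z ∈ DRing.torsionSub b E, y - z = x := by
  obtain ⟨n, hn⟩ := hx
  obtain ⟨m, hm⟩ := exists_pow_inf_pow_le a b n
  let A : Ideal R := a ^ m
  let B : Ideal R := b ^ n
  have hAB : ∀ r ∈ A ⊓ B, r • x = 0 := fun r hr =>
    hn r (Ideal.pow_right_mono Ideal.mul_le_inf n (hm hr))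
  let f : (R ⧸ (A ⊓ B)) →ₗ[R] (R ⧸ A) × (R ⧸ B) :=
    LinearMap.prod (Submodule.mapQ _ _ LinearMap.id inf_le_left)
      (Submodule.mapQ _ _ LinearMap.id inf_le_right)
  have hf : Function.Injective f := by
    refine (injective_iff_map_eq_zero f).2 fun q hq => ?_
    obtain ⟨r, rfl⟩ := Submodule.Quotient.mk_surjective _ q
    exact (Submodule.Quotient.mk_eq_zero _).2
      ⟨(Submodule.Quotient.mk_eq_zero A).1 (congrArg Prod.fst hq),
        (Submodule.Quotient.mk_eq_zero B).1 (congrArg Prod.snd hq)⟩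
  let g : (R ⧸ (A ⊓ B)) →ₗ[R] E := Submodule.liftQ (A ⊓ B) (LinearMap.toSpanSingleton R E x)
    fun r hr => hAB r hr
  obtain ⟨φ, hφ⟩ := hE.out f hf g
  refine ⟨φ (Submodule.Quotient.mk 1, 0), ⟨m, fun r hr => ?_⟩,
    - φ (0, Submodule.Quotient.mk 1), neg_mem ⟨n, fun r hr => ?_⟩, ?_⟩
  · rw [← map_smul, Prod.smul_mk, smul_zero, ← Submodule.Quotient.mk_smul, smul_eq_mul, mul_one,
      (Submodule.Quotient.mk_eq_zero _).2 hr, Prod.mk_zero_zero, map_zero]
  · rw [← map_smul, Prod.smul_mk, smul_zero, ← Submodule.Quotient.mk_smul, smul_eq_mul, mul_one,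
      (Submodule.Quotient.mk_eq_zero _).2 hr, Prod.mk_zero_zero, map_zero]
  · rw [sub_neg_eq_add, ← map_add, Prod.mk_add_mk, add_zero, zero_add]
    exact ((hφ (Submodule.Quotient.mk 1)).trans (one_smul R x) :)

end Torsion

section Transport

variable {M : ModuleCat.{u} R} (J : InjectiveResolution M) (K : Ideal R)

/-- The torsion complex of an injective resolution. -/
noncomputable abbrev gammaCx : CochainComplex (ModuleCat.{u} R) ℕ :=
  ((DRing.gammaI K).mapHomologicalComplex _).obj J.cocomplex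

/-- Homology of the torsion complex is local cohomology. -/
noncomputable def gammaCxIso (n : ℕ) :
    (gammaCx J K).homology n ≅ (localCohomology K n).obj M :=
  (HomologicalComplex.homologyFunctor _ _ n).mapIso
      (((NatIso.mapHomologicalComplex (lcZeroIso K) (ComplexShape.up ℕ)).app J.cocomplex).symm) ≪≫
    (lcAcRes K J).homologyIso (lcDeltaSeq K) n

/-- The map of torsion complexes. -/
noncomputable abbrev gammaCxMap {K K' : Ideal R} (h : K ≤ K') : gammaCx J K' ⟶ gammaCx J K :=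
  (NatTrans.mapHomologicalComplex (gammaIncl h) (ComplexShape.up ℕ)).app J.cocomplex

lemma gammaCxIso_natural {K K' : Ideal R} (h : K ≤ K') (n : ℕ) :
    HomologicalComplex.homologyMap (gammaCxMap J h) n ≫ (gammaCxIso J K n).hom =
      (gammaCxIso J K' n).hom ≫ (Dual2.HmapOfLE h n).app M := by
  have e1 : HomologicalComplex.homologyMap
      ((NatTrans.mapHomologicalComplex (Dual2.HmapOfLE h 0) (ComplexShape.up ℕ)).app J.cocomplex) n ≫
        ((lcAcRes K J).homologyIso (lcDeltaSeq K) n).hom =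
      ((lcAcRes K' J).homologyIso (lcDeltaSeq K') n).hom ≫ (Dual2.HmapOfLE h n).app M :=
    (lcAcRes K' J).homologyIso_retarget (lcAcRes K J).acyclic (HmapHom h) n
  have e2 : gammaCxMap J h ≫
      ((NatTrans.mapHomologicalComplex (lcZeroIso K).inv (ComplexShape.up ℕ)).app J.cocomplex) =
      ((NatTrans.mapHomologicalComplex (lcZeroIso K').inv (ComplexShape.up ℕ)).app J.cocomplex) ≫
        (NatTrans.mapHomologicalComplex (Dual2.HmapOfLE h 0) (ComplexShape.up ℕ)).app J.cocomplex := by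
    have e : gammaIncl h ≫ (lcZeroIso K).inv = (lcZeroIso K').inv ≫ Dual2.HmapOfLE h 0 := by
      rw [Iso.eq_inv_comp, ← Category.assoc, ← HmapOfLE_zero_comp h, Category.assoc,
        Iso.hom_inv_id, Category.comp_id]
    ext i : 1
    exact congrArg (fun t => NatTrans.app t (J.cocomplex.X i)) e
  show HomologicalComplex.homologyMap (gammaCxMap J h) n ≫
      HomologicalComplex.homologyMap _ n ≫ ((lcAcRes K J).homologyIso (lcDeltaSeq K) n).hom =
    (HomologicalComplex.homologyMap _ n ≫ ((lcAcRes K' J).homologyIso (lcDeltaSeq K') n).hom) ≫ _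
  refine (Category.assoc _ _ _).symm.trans (Eq.trans ?_
    ((congrArg (HomologicalComplex.homologyMap _ n ≫ ·) e1).trans (Category.assoc _ _ _).symm))
  refine Eq.trans ?_ (Category.assoc _ _ _)
  refine congrArg (· ≫ ((lcAcRes K J).homologyIso (lcDeltaSeq K) n).hom) ?_
  exact (HomologicalComplex.homologyMap_comp _ _ n).symm.trans
    ((congrArg (fun t => HomologicalComplex.homologyMap t n) e2).trans
      (HomologicalComplex.homologyMap_comp _ _ n))

end Transport

/-- The Mayer–Vietoris sequence of local cohomology. -/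
theorem exists_lc_mayerVietoris [IsNoetherianRing R] (a b : Ideal R) (M : ModuleCat.{u} R) :
    ∃ δ : ∀ i, (localCohomology (a ⊓ b) i).obj M →ₗ[R] (localCohomology (a ⊔ b) (i + 1)).obj M,
      Function.Injective (LinearMap.prod ((Dual2.HmapOfLE (le_sup_left : a ≤ a ⊔ b) 0).app M).hom
        ((Dual2.HmapOfLE (le_sup_right : b ≤ a ⊔ b) 0).app M).hom) ∧
      (∀ i, LinearMap.ker (LinearMap.prod
          ((Dual2.HmapOfLE (le_sup_left : a ≤ a ⊔ b) (i + 1)).app M).hom
          ((Dual2.HmapOfLE (le_sup_right : b ≤ a ⊔ b) (i + 1)).app M).hom) =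
        LinearMap.range (δ i)) ∧
      (∀ i, LinearMap.ker (((Dual2.HmapOfLE (inf_le_left : a ⊓ b ≤ a) i).app M).hom ∘ₗ
            LinearMap.fst R _ _ -
          ((Dual2.HmapOfLE (inf_le_right : a ⊓ b ≤ b) i).app M).hom ∘ₗ LinearMap.snd R _ _) =
        LinearMap.range (LinearMap.prod
          ((Dual2.HmapOfLE (le_sup_left : a ≤ a ⊔ b) i).app M).hom
          ((Dual2.HmapOfLE (le_sup_right : b ≤ a ⊔ b) i).app M).hom)) ∧
      (∀ i, LinearMap.ker (δ i) =
        LinearMap.range (((Dual2.HmapOfLE (inf_le_left : a ⊓ b ≤ a) i).app M).hom ∘ₗ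
            LinearMap.fst R _ _ -
          ((Dual2.HmapOfLE (inf_le_right : a ⊓ b ≤ b) i).app M).hom ∘ₗ LinearMap.snd R _ _)) := by
  let J : InjectiveResolution M := injectiveResolution M
  refine exists_mayerVietoris (gammaCxMap J le_sup_left) (gammaCxMap J le_sup_right)
    (gammaCxMap J inf_le_left) (gammaCxMap J inf_le_right) ?_ ?_ ?_ ?_
    (fun i => (gammaCxIso J (a ⊔ b) i).toLinearEquiv) (fun i => (gammaCxIso J a i).toLinearEquiv)
    (fun i => (gammaCxIso J b i).toLinearEquiv) (fun i => (gammaCxIso J (a ⊓ b) i).toLinearEquiv)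
    (fun i => ((Dual2.HmapOfLE (le_sup_left : a ≤ a ⊔ b) i).app M).hom)
    (fun i => ((Dual2.HmapOfLE (le_sup_right : b ≤ a ⊔ b) i).app M).hom)
    (fun i => ((Dual2.HmapOfLE (inf_le_left : a ⊓ b ≤ a) i).app M).hom)
    (fun i => ((Dual2.HmapOfLE (inf_le_right : a ⊓ b ≤ b) i).app M).hom) ?_ ?_ ?_ ?_
  · ext n x
    rfl
  · intro n x hx _
    exact Subtype.ext (congrArg (fun t => t.1) hx :)
  · rintro n ⟨y, hy⟩ ⟨z, hz⟩ h
    have h' : y = z := congrArg (fun t => t.1) h
    subst h'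
    exact ⟨⟨y, torsion_sup_of_both hy hz⟩, rfl, rfl⟩
  · rintro n ⟨t, ht⟩
    have := J.injective n
    obtain ⟨y, hy, z, hz, h⟩ :=
      exists_torsion_add_of_inf ((Module.injective_iff_injective_object R _).2 this) ht
    exact ⟨⟨y, hy⟩, ⟨z, hz⟩, Subtype.ext h⟩
  all_goals
    intro i x
    exact (ConcreteCategory.congr_hom (gammaCxIso_natural J _ i) x).symm

end Groth.Agent.Lib.LocalCoh
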