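import Groth.Agent.Lib.LocalCoh.ExtCompare
import Mathlib.Algebra.Category.ModuleCat.FilteredColimits
import Mathlib.Algebra.Category.ModuleCat.EnoughInjectives
import Mathlib.CategoryTheory.Abelian.Injective.Resolution
import Mathlib.Algebra.Category.Grp.EnoughInjectives
import Mathlib.Algebra.Category.ModuleCat.Colimits
import Mathlib.CategoryTheory.Limits.ConcreteCategory.Basic
import Mathlib.CategoryTheory.Limits.FunctorCategory.Basic
import Mathlib.Algebra.Homology.DerivedCategory.Ext.EnoughInjectives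
import Mathlib.Algebra.Homology.DerivedCategory.Ext.EnoughProjectives

/-!
# Filtered colimits of `Ext(G k, -)`: connected sequence, vanishing on injectives
-/

universe u v w

open CategoryTheory CategoryTheory.Limits Opposite

namespace Groth.Agent.Lib.LocalCoh

variable {R : Type u} [CommRing R] {K : Type w} [Category.{v} K]
  [HasColimitsOfShape K (ModuleCat.{u} R)]
  (G : K ⥤ (ModuleCat.{u} R)ᵒᵖ)

/-- `M ↦ colim_k Extⁿ(G k, M)`. -/
noncomputable def colimExt (n : ℕ) : ModuleCat.{u} R ⥤ ModuleCat.{u} R :=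
  colimit (G ⋙ extE R n)

namespace colimExt

/-- The structure maps. -/
noncomputable def ι (n : ℕ) (k : K) (M : ModuleCat.{u} R) :
    ((extE R n).obj (G.obj k)).obj M ⟶ (colimExt G n).obj M :=
  (colimit.ι (G ⋙ extE R n) k).app M

/-- The diagram at a module. -/
noncomputable abbrev diag (n : ℕ) (M : ModuleCat.{u} R) : K ⥤ ModuleCat.{u} R :=
  (G ⋙ extE R n) ⋙ (evaluation _ _).obj M

/-- The cocone at a module. -/
noncomputable def coconeAt (n : ℕ) (M : ModuleCat.{u} R) : Cocone (diag G n M) :=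
  ((evaluation _ _).obj M).mapCocone (colimit.cocone (G ⋙ extE R n))

noncomputable def isColimitAt (n : ℕ) (M : ModuleCat.{u} R) : IsColimit (coconeAt G n M) :=
  isColimitOfPreserves _ (colimit.isColimit _)

lemma map_ι (n : ℕ) (k : K) {M M' : ModuleCat.{u} R} (f : M ⟶ M') :
    ι G n k M ≫ (colimExt G n).map f = ((extE R n).obj (G.obj k)).map f ≫ ι G n k M' :=
  ((colimit.ι (G ⋙ extE R n) k).naturality f).symm

lemma map_ι_apply (n : ℕ) (k : K) {M M' : ModuleCat.{u} R} (f : M ⟶ M')
    (α : Abelian.Ext.{u} (G.obj k).unop M n) :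
    ((colimExt G n).map f).hom ((ι G n k M).hom α) =
      (ι G n k M').hom (α.comp (Abelian.Ext.mk₀ f) (add_zero n)) :=
  ConcreteCategory.congr_hom (map_ι G n k f) α

lemma w (n : ℕ) {k k' : K} (g : k ⟶ k') (M : ModuleCat.{u} R) :
    ((extE R n).map (G.map g)).app M ≫ ι G n k' M = ι G n k M :=
  (coconeAt G n M).w g

lemma w_apply (n : ℕ) {k k' : K} (g : k ⟶ k') (M : ModuleCat.{u} R)
    (α : Abelian.Ext.{u} (G.obj k).unop M n) :
    (ι G n k' M).hom ((Abelian.Ext.mk₀ (G.map g).unop).comp α (zero_add n)) =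
      (ι G n k M).hom α := by
  have h := congrArg ModuleCat.Hom.hom (w G n g M)
  rw [ModuleCat.hom_comp] at h
  exact LinearMap.congr_fun h α

lemma hom_ext {n : ℕ} {M : ModuleCat.{u} R} {Y : ModuleCat.{u} R}
    {f g : (colimExt G n).obj M ⟶ Y} (h : ∀ k, ι G n k M ≫ f = ι G n k M ≫ g) : f = g :=
  (isColimitAt G n M).hom_ext h

set_option linter.unusedSectionVars false

variable [IsFiltered K] [PreservesColimitsOfShape K (forget (ModuleCat.{u} R))]

lemma exists_rep (n : ℕ) (M : ModuleCat.{u} R) (x : (colimExt G n).obj M) :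
    ∃ (k : K) (α : Abelian.Ext.{u} (G.obj k).unop M n), (ι G n k M).hom α = x :=
  Concrete.isColimit_exists_rep (diag G n M) (isColimitAt G n M) x

lemma ι_eq_zero_iff (n : ℕ) (M : ModuleCat.{u} R) (k : K)
    (α : Abelian.Ext.{u} (G.obj k).unop M n) :
    (ι G n k M).hom α = 0 ↔ ∃ (k' : K) (g : k ⟶ k'),
      (Abelian.Ext.mk₀ (G.map g).unop).comp α (zero_add n) = 0 := by
  constructor
  · intro h
    obtain ⟨k', f, g, e⟩ := Concrete.isColimit_exists_of_rep_eq (diag G n M) (isColimitAt G n M)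
      (i := k) (j := k) α 0 (h.trans (map_zero (ι G n k M).hom).symm)
    exact ⟨k', f, e.trans (map_zero ((diag G n M).map g).hom)⟩
  · rintro ⟨k', g, e⟩
    rw [← w_apply G n g M α, e]
    exact map_zero _

instance additive (n : ℕ) : (colimExt G n).Additive where
  map_add {M M' f g} := by
    refine hom_ext G fun k => ?_
    rw [Preadditive.comp_add, map_ι, map_ι, map_ι, ← Preadditive.add_comp]
    congr 1
    ext α
    exact (congrArg (fun e => Abelian.Ext.comp (α : Abelian.Ext.{u} (G.obj k).unop M n) e (add_zero n))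
      (Abelian.Ext.mk₀_add f g)).trans (Abelian.Ext.comp_add _ _ _ _)

section Delta

variable {S : ShortComplex (ModuleCat.{u} R)} (hS : S.ShortExact) (n : ℕ)

/-- Composition with the extension class. -/
noncomputable def postExtClass (X : (ModuleCat.{u} R)ᵒᵖ) :
    ((extE R n).obj X).obj S.X₃ ⟶ ((extE R (n + 1)).obj X).obj S.X₁ :=
  ModuleCat.ofHom
    { toFun := fun α => α.comp hS.extClass rfl
      map_add' := fun α β => by simp
      map_smul' := fun r α => Abelian.Ext.smul_comp _ _ _ _ }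

/-- The connecting map. -/
noncomputable def δ : (colimExt G n).obj S.X₃ ⟶ (colimExt G (n + 1)).obj S.X₁ :=
  (isColimitAt G n S.X₃).desc
    { pt := (colimExt G (n + 1)).obj S.X₁
      ι :=
        { app := fun k => postExtClass hS n (G.obj k) ≫ ι G (n + 1) k S.X₁
          naturality := fun k k' g => by
            ext α
            show (ι G (n + 1) k' S.X₁).hom (Abelian.Ext.comp
              ((Abelian.Ext.mk₀ (G.map g).unop).comp α (zero_add n)) hS.extClass rfl) = _
            refine (congrArg (ι G (n + 1) k' S.X₁).hom (Abelian.Ext.comp_assoc _ _ _ (zero_add n)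
              (rfl : n + 1 = n + 1) (by omega))).trans ?_
            exact w_apply G (n + 1) g S.X₁ (Abelian.Ext.comp α hS.extClass rfl) } }

lemma ι_δ (k : K) : ι G n k S.X₃ ≫ δ G hS n = postExtClass hS n (G.obj k) ≫ ι G (n + 1) k S.X₁ :=
  (isColimitAt G n S.X₃).fac _ k

lemma δ_ι_apply (k : K) (α : Abelian.Ext.{u} (G.obj k).unop S.X₃ n) :
    (δ G hS n).hom ((ι G n k S.X₃).hom α) = (ι G (n + 1) k S.X₁).hom (α.comp hS.extClass rfl) :=
  ConcreteCategory.congr_hom (ι_δ G hS n k) α

end Delta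

omit [HasColimitsOfShape K (ModuleCat.{u} R)] [IsFiltered K]
  [PreservesColimitsOfShape K (forget (ModuleCat.{u} R))] in
lemma postExtClass_naturality_apply {S S' : ShortComplex (ModuleCat.{u} R)} (hS : S.ShortExact)
    (hS' : S'.ShortExact) (φ : S ⟶ S') (n : ℕ) (X : (ModuleCat.{u} R)ᵒᵖ)
    (α : Abelian.Ext.{u} X.unop S.X₃ n) :
    (α.comp (Abelian.Ext.mk₀ φ.τ₃) (add_zero n)).comp hS'.extClass (rfl : n + 1 = n + 1) =
      (α.comp hS.extClass rfl).comp (Abelian.Ext.mk₀ φ.τ₁) (add_zero (n + 1)) := by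
  rw [Abelian.Ext.comp_assoc _ _ _ (add_zero n) (zero_add 1) (by omega),
    ← hS.extClass_naturality hS' φ, Abelian.Ext.comp_assoc_of_third_deg_zero]

/-- `colimExt` is an exact connected sequence of functors. -/
noncomputable def deltaSeq : DeltaSeq (colimExt G) where
  δ hS n := δ G hS n
  mono₀ {S} hS := by
    rw [injective_iff_map_eq_zero]
    intro x hx
    obtain ⟨k, α, rfl⟩ := exists_rep G 0 _ x
    rw [map_ι_apply, ι_eq_zero_iff] at hx
    obtain ⟨k', g, e⟩ := hx
    rw [ι_eq_zero_iff]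
    refine ⟨k', g, ?_⟩
    have := hS.mono_f
    apply Abelian.Ext.postcomp_mk₀_injective_of_mono _ S.f
    rw [map_zero]
    simpa [Abelian.Ext.postcomp, Abelian.Ext.comp_assoc_of_third_deg_zero] using e
  exact₂ {S} hS n := fun x => by
    constructor
    · intro hx
      obtain ⟨k, α, rfl⟩ := exists_rep G n _ x
      rw [map_ι_apply, ι_eq_zero_iff] at hx
      obtain ⟨k', g, e⟩ := hx
      rw [← Abelian.Ext.comp_assoc_of_third_deg_zero] at e
      obtain ⟨β, hβ⟩ := Abelian.Ext.covariant_sequence_exact₂ _ hS _ e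
      exact ⟨(ι G n k' S.X₁).hom β, by rw [map_ι_apply, hβ, w_apply]⟩
    · rintro ⟨y, rfl⟩
      rw [← ModuleCat.comp_apply, ← Functor.map_comp, S.zero, Functor.map_zero]
      rfl
  exact₃ {S} hS n := fun x => by
    constructor
    · intro hx
      obtain ⟨k, α, rfl⟩ := exists_rep G n _ x
      rw [δ_ι_apply, ι_eq_zero_iff] at hx
      obtain ⟨k', g, e⟩ := hx
      rw [← Abelian.Ext.comp_assoc _ _ _ (zero_add n) (rfl : n + 1 = n + 1) (by omega)] at e
      obtain ⟨β, hβ⟩ := Abelian.Ext.covariant_sequence_exact₃ _ hS _ rfl e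
      exact ⟨(ι G n k' S.X₂).hom β, by rw [map_ι_apply, hβ, w_apply]⟩
    · rintro ⟨y, rfl⟩
      obtain ⟨k, β, rfl⟩ := exists_rep G n _ y
      rw [map_ι_apply, δ_ι_apply,
        Abelian.Ext.comp_assoc _ _ _ (add_zero n) (zero_add 1) (by omega), hS.comp_extClass,
        Abelian.Ext.comp_zero]
      exact map_zero _
  exact₁ {S} hS n := fun x => by
    constructor
    · intro hx
      obtain ⟨k, α, rfl⟩ := exists_rep G (n + 1) _ x
      rw [map_ι_apply, ι_eq_zero_iff] at hx
      obtain ⟨k', g, e⟩ := hx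
      rw [← Abelian.Ext.comp_assoc_of_third_deg_zero] at e
      obtain ⟨β, hβ⟩ := Abelian.Ext.covariant_sequence_exact₁ _ hS _ e rfl
      exact ⟨(ι G n k' S.X₃).hom β, by rw [δ_ι_apply, hβ, w_apply]⟩
    · rintro ⟨y, rfl⟩
      obtain ⟨k, β, rfl⟩ := exists_rep G n _ y
      rw [δ_ι_apply, map_ι_apply, Abelian.Ext.comp_assoc_of_third_deg_zero, hS.extClass_comp,
        Abelian.Ext.comp_zero]
      exact map_zero _
  naturality {S S'} hS hS' φ n := by
    refine hom_ext G fun k => ?_
    rw [← Category.assoc, map_ι, Category.assoc, ι_δ, ← Category.assoc _ _ ((colimExt G (n + 1)).map _),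
      ι_δ, Category.assoc, map_ι, ← Category.assoc, ← Category.assoc]
    congr 1
    ext α
    exact postExtClass_naturality_apply hS hS' φ n (G.obj k) α

lemma subsingleton_of_injective (E : ModuleCat.{u} R) [Injective E] (n : ℕ) :
    Subsingleton ((colimExt G (n + 1)).obj E) := by
  refine ⟨fun x y => ?_⟩
  obtain ⟨k, α, rfl⟩ := exists_rep G (n + 1) _ x
  obtain ⟨k', β, rfl⟩ := exists_rep G (n + 1) _ y
  rw [Abelian.Ext.eq_zero_of_injective α, Abelian.Ext.eq_zero_of_injective β]
  exact (map_zero _).trans (map_zero _).symm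

/-- The higher `colimExt` are the right derived functors of the zeroth. -/
noncomputable def rightDerivedIso (n : ℕ) :
    (colimExt G 0).rightDerived n ≅ colimExt G n :=
  (deltaSeq G).rightDerivedIso (fun E _ m => subsingleton_of_injective G E m) n

end colimExt

end Groth.Agent.Lib.LocalCoh
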