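import Groth.Agent.Lib.LocalCoh.Basic
import Mathlib.RingTheory.Ideal.Operations

/-!
# The connecting map from `colim Extⁱ(I ^ n, -)` to local cohomology
-/

universe u

open CategoryTheory CategoryTheory.Limits Opposite

namespace Groth.Agent.Lib.LocalCoh

variable {R : Type u} [CommRing R] (I : Ideal R)

/-- `0 → I ^ n → R → R ⧸ I ^ n → 0`. -/
noncomputable abbrev idealSeq (k : ℕᵒᵖᵒᵖ) : ShortComplex (ModuleCat.{u} R) :=
  ShortComplex.mk (X₁ := ((powSys I).obj k).unop) (X₂ := ModuleCat.of R R)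
    (X₃ := ((quotSys I).obj k).unop)
    (ModuleCat.ofHom (Submodule.subtype (I ^ k.unop.unop)))
    (ModuleCat.ofHom (Submodule.mkQ (I ^ k.unop.unop)))
    (ModuleCat.hom_ext (LinearMap.ext fun x => (Submodule.Quotient.mk_eq_zero _).2 x.2))

lemma idealSeq_shortExact (k : ℕᵒᵖᵒᵖ) : (idealSeq I k).ShortExact where
  exact := (ShortComplex.ShortExact.moduleCat_exact_iff_function_exact _).2
    (LinearMap.exact_subtype_mkQ _)
  mono_f := (ModuleCat.mono_iff_injective _).2 Subtype.val_injective
  epi_g := (ModuleCat.epi_iff_surjective _).2 (Submodule.mkQ_surjective _)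

/-- The transition maps between the short exact sequences. -/
noncomputable def idealSeqMap {k k' : ℕᵒᵖᵒᵖ} (g : k ⟶ k') : idealSeq I k' ⟶ idealSeq I k where
  τ₁ := ((powSys I).map g).unop
  τ₂ := 𝟙 _
  τ₃ := ((quotSys I).map g).unop
  comm₁₂ := rfl
  comm₂₃ := rfl

/-- Precomposition with the extension class. -/
noncomputable def preExtClass (i : ℕ) (k : ℕᵒᵖᵒᵖ) :
    (extE R i).obj ((powSys I).obj k) ⟶ (extE R (i + 1)).obj ((quotSys I).obj k) where
  app M := ModuleCat.ofHom
    { toFun := fun α => (idealSeq_shortExact I k).extClass.comp α (Nat.add_comm 1 i)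
      map_add' := fun α β => by simp
      map_smul' := fun r α => Abelian.Ext.comp_smul _ _ _ _ }
  naturality M M' f := by
    ext α
    exact (Abelian.Ext.comp_assoc _ _ _ (Nat.add_comm 1 i) (add_zero i) (by omega)).symm

lemma preExtClass_naturality_apply (i : ℕ) {k k' : ℕᵒᵖᵒᵖ} (g : k ⟶ k') (M : ModuleCat.{u} R)
    (α : Abelian.Ext.{u} ((powSys I).obj k).unop M i) :
    (idealSeq_shortExact I k').extClass.comp
        ((Abelian.Ext.mk₀ ((powSys I).map g).unop).comp α (zero_add i)) (Nat.add_comm 1 i) =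
      (Abelian.Ext.mk₀ ((quotSys I).map g).unop).comp
        ((idealSeq_shortExact I k).extClass.comp α (Nat.add_comm 1 i)) (zero_add (i + 1)) := by
  rw [← Abelian.Ext.comp_assoc _ _ _ (add_zero 1) (zero_add i) (by omega : 1 + 0 + i = i + 1),
    ← Abelian.Ext.comp_assoc _ _ _ (zero_add 1) (Nat.add_comm 1 i) (by omega : 0 + 1 + i = i + 1)]
  congr 1
  exact (idealSeq_shortExact I k').extClass_naturality (idealSeq_shortExact I k) (idealSeqMap I g)

/-- The connecting transformation `colim Extⁱ(I ^ n, -) ⟶ colim Extⁱ⁺¹(R ⧸ I ^ n, -)`. -/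
noncomputable def conn (i : ℕ) : colimExt (powSys I) i ⟶ colimExt (quotSys I) (i + 1) :=
  colimMap
    { app := preExtClass I i
      naturality := fun k k' g => by
        ext M α
        exact preExtClass_naturality_apply I i g M α }

lemma conn_ι_apply (i : ℕ) (k : ℕᵒᵖᵒᵖ) (M : ModuleCat.{u} R)
    (α : Abelian.Ext.{u} ((powSys I).obj k).unop M i) :
    ((conn I i).app M).hom ((colimExt.ι (powSys I) i k M).hom α) =
      (colimExt.ι (quotSys I) (i + 1) k M).hom
        ((idealSeq_shortExact I k).extClass.comp α (Nat.add_comm 1 i)) := by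
  have h : colimit.ι (powSys I ⋙ extE R i) k ≫ conn I i = _ := ι_colimMap _ k
  exact ConcreteCategory.congr_hom (congrArg (fun t => NatTrans.app t M) h) α

instance projective_self : Projective (ModuleCat.of R R) :=
  (IsProjective.iff_projective (ModuleCat.of R R)).1 inferInstance

lemma conn_surjective (i : ℕ) (M : ModuleCat.{u} R) :
    Function.Surjective ((conn I i).app M).hom := by
  intro x
  obtain ⟨k, β, rfl⟩ := colimExt.exists_rep _ _ _ x
  obtain ⟨α, hα⟩ := Abelian.Ext.contravariant_sequence_exact₃ (idealSeq_shortExact I k) M β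
    (Abelian.Ext.eq_zero_of_projective _) (Nat.add_comm 1 i)
  exact ⟨(colimExt.ι (powSys I) i k M).hom α, by rw [conn_ι_apply, hα]⟩

lemma exists_of_conn_eq_zero (i : ℕ) (M : ModuleCat.{u} R) (x : (colimExt (powSys I) i).obj M)
    (hx : ((conn I i).app M).hom x = 0) :
    ∃ (k : ℕᵒᵖᵒᵖ) (β : Abelian.Ext.{u} (ModuleCat.of R R) M i),
      (colimExt.ι (powSys I) i k M).hom
        ((Abelian.Ext.mk₀ (idealSeq I k).f).comp β (zero_add i)) = x := by
  obtain ⟨k, α, rfl⟩ := colimExt.exists_rep _ _ _ x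
  rw [conn_ι_apply, colimExt.ι_eq_zero_iff] at hx
  obtain ⟨k', g, e⟩ := hx
  obtain ⟨β, hβ⟩ := Abelian.Ext.contravariant_sequence_exact₁ (idealSeq_shortExact I k') M
    ((Abelian.Ext.mk₀ ((powSys I).map g).unop).comp α (zero_add i)) (Nat.add_comm 1 i)
    ((preExtClass_naturality_apply I i g M α).trans e)
  exact ⟨k', β, by rw [hβ, colimExt.w_apply]⟩

lemma conn_succ_injective (i : ℕ) (M : ModuleCat.{u} R) :
    Function.Injective ((conn I (i + 1)).app M).hom := by
  rw [injective_iff_map_eq_zero]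
  intro x hx
  obtain ⟨k, β, rfl⟩ := exists_of_conn_eq_zero I (i + 1) M x hx
  rw [Abelian.Ext.eq_zero_of_projective β, Abelian.Ext.comp_zero]
  exact map_zero _

/-- `colim Extⁱ(I ^ n, -)` is `colim Extⁱ⁺¹(R ⧸ I ^ n, -)` for positive `i`. -/
noncomputable def connIso (i : ℕ) :
    colimExt (powSys I) (i + 1) ≅ colimExt (quotSys I) (i + 2) :=
  have : ∀ M, IsIso ((conn I (i + 1)).app M) := fun M =>
    (ConcreteCategory.isIso_iff_bijective _).2
      ⟨conn_succ_injective I i M, conn_surjective I (i + 1) M⟩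
  have := NatIso.isIso_of_isIso_app (conn I (i + 1))
  asIso (conn I (i + 1))

end Groth.Agent.Lib.LocalCoh
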