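import Mathlib.CategoryTheory.Abelian.RightDerived
import Mathlib.Algebra.Category.ModuleCat.Abelian
import Mathlib.Algebra.Homology.ShortComplex.ModuleCat
import Mathlib.Algebra.Homology.ShortComplex.Exact

/-!
# Connected sequences of functors into modules, computed by acyclic resolutions
-/

universe v u w w'

open CategoryTheory CategoryTheory.Limits

namespace Groth.Agent.Lib.LocalCoh

variable {C : Type u} [Category.{v} C] [Abelian C] {R : Type w} [Ring R]

/-- An exact connected sequence of functors with values in modules. -/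
structure DeltaSeq (T : ℕ → (C ⥤ ModuleCat.{w'} R)) where
  δ : ∀ {S : ShortComplex C} (_ : S.ShortExact) (n : ℕ), (T n).obj S.X₃ ⟶ (T (n + 1)).obj S.X₁
  mono₀ : ∀ {S : ShortComplex C} (_ : S.ShortExact), Function.Injective ((T 0).map S.f).hom
  exact₂ : ∀ {S : ShortComplex C} (_ : S.ShortExact) (n : ℕ),
    Function.Exact ((T n).map S.f).hom ((T n).map S.g).hom
  exact₃ : ∀ {S : ShortComplex C} (hS : S.ShortExact) (n : ℕ),
    Function.Exact ((T n).map S.g).hom (δ hS n).hom
  exact₁ : ∀ {S : ShortComplex C} (hS : S.ShortExact) (n : ℕ),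
    Function.Exact (δ hS n).hom ((T (n + 1)).map S.f).hom
  naturality : ∀ {S S' : ShortComplex C} (hS : S.ShortExact) (hS' : S'.ShortExact) (φ : S ⟶ S')
    (n : ℕ), (T n).map φ.τ₃ ≫ δ hS' n = δ hS n ≫ (T (n + 1)).map φ.τ₁

namespace DeltaSeq

/-- A resolution by objects on which the higher terms of `T` vanish. -/
structure AcRes (T : ℕ → (C ⥤ ModuleCat.{w'} R)) (M : C) where
  J : CochainComplex C ℕ
  ι : M ⟶ J.X 0
  w : ι ≫ J.d 0 1 = 0
  mono_ι : Mono ι
  exact_zero : (ShortComplex.mk ι (J.d 0 1) w).Exact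
  exact_succ : ∀ n, (ShortComplex.mk _ _ (J.d_comp_d n (n + 1) (n + 2))).Exact
  acyclic : ∀ n k, Subsingleton ((T (k + 1)).obj (J.X n))

set_option linter.unusedSectionVars false

variable {T : ℕ → (C ⥤ ModuleCat.{w'} R)} [∀ n, (T n).Additive]

/-- Left homology data of a short complex of modules from an exact pair and a quotient map. -/
noncomputable def leftHomologyDataOfExact (S : ShortComplex (ModuleCat.{w'} R))
    {K H : ModuleCat.{w'} R} (i : K ⟶ S.X₂) (π : K ⟶ H) (hi : Function.Injective i.hom)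
    (hk : Function.Exact i.hom S.g.hom) (hπ : Function.Surjective π.hom)
    (hker : ∀ z, π.hom z = 0 ↔ ∃ x, S.f.hom x = i.hom z) : S.LeftHomologyData :=
  have wi : i ≫ S.g = 0 := ModuleCat.hom_ext (LinearMap.ext fun z => (hk _).2 ⟨z, rfl⟩)
  have : Mono i := (ModuleCat.mono_iff_injective i).2 hi
  have : Epi π := (ModuleCat.epi_iff_surjective π).2 hπ
  let hi' : IsLimit (KernelFork.ofι i wi) :=
    ShortComplex.Exact.fIsKernel (S := ShortComplex.mk i S.g wi)
      ((ShortComplex.ShortExact.moduleCat_exact_iff_function_exact _).2 hk)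
  let f' : S.X₁ ⟶ K := hi'.lift (KernelFork.ofι S.f S.zero)
  have hf' : f' ≫ i = S.f := hi'.fac _ WalkingParallelPair.zero
  have wπ : f' ≫ π = 0 := ModuleCat.hom_ext (LinearMap.ext fun x =>
    (hker _).2 ⟨x, by conv_lhs => rw [← hf']
                      rfl⟩)
  { K := K, H := H, i := i, π := π, wi := wi, hi := hi', wπ := wπ
    hπ := ShortComplex.Exact.gIsCokernel (S := ShortComplex.mk f' π wπ)
      ((ShortComplex.ShortExact.moduleCat_exact_iff_function_exact _).2 (fun z => by
        refine (hker z).trans (exists_congr fun x => ?_)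
        conv_lhs => rw [← hf']
        exact hi.eq_iff)) }

namespace AcRes

variable {M : C} (A : AcRes T M)

/-- Cycles of the resolution. -/
noncomputable def Z (n : ℕ) : C := kernel (A.J.d n (n + 1))

noncomputable def i (n : ℕ) : A.Z n ⟶ A.J.X n := kernel.ι _

noncomputable def p (n : ℕ) : A.J.X n ⟶ A.Z (n + 1) :=
  kernel.lift _ (A.J.d n (n + 1)) (A.J.d_comp_d _ _ _)

lemma p_i (n : ℕ) : A.p n ≫ A.i (n + 1) = A.J.d n (n + 1) := kernel.lift_ι _ _ _

lemma i_d (n : ℕ) : A.i n ≫ A.J.d n (n + 1) = 0 := kernel.condition _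

instance mono_i (n : ℕ) : Mono (A.i n) :=
  inferInstanceAs (Mono (kernel.ι (A.J.d n (n + 1))))

lemma i_p (n : ℕ) : A.i n ≫ A.p n = 0 := by
  rw [← cancel_mono (A.i (n + 1)), Category.assoc, p_i, i_d, zero_comp]

noncomputable abbrev S (n : ℕ) : ShortComplex C := ShortComplex.mk (A.i n) (A.p n) (A.i_p n)

lemma shortExact_S (n : ℕ) : (A.S n).ShortExact := by
  have : Mono (A.S n).f := A.mono_i n
  have : Epi (A.S n).g := by
    have h := A.exact_succ n
    rw [ShortComplex.exact_iff_epi_kernel_lift] at h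
    exact h
  refine { exact := ?_ }
  let φ : A.S n ⟶ ShortComplex.mk (A.i n) (A.J.d n (n + 1)) (A.i_d n) :=
    { τ₁ := 𝟙 _, τ₂ := 𝟙 _, τ₃ := A.i (n + 1)
      comm₁₂ := by simp [S]
      comm₂₃ := by simp [S, p_i] }
  have : Epi φ.τ₁ := inferInstanceAs (Epi (𝟙 (A.Z n)))
  have : IsIso φ.τ₂ := inferInstanceAs (IsIso (𝟙 (A.J.X n)))
  have : Mono φ.τ₃ := A.mono_i (n + 1)
  exact (ShortComplex.exact_iff_of_epi_of_isIso_of_mono φ).2 (ShortComplex.exact_kernel _)

noncomputable def e : M ⟶ A.Z 0 := kernel.lift _ A.ι A.w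

lemma e_i : A.e ≫ A.i 0 = A.ι := kernel.lift_ι _ _ _

instance isIso_e : IsIso A.e := by
  have := A.mono_ι
  have : Mono A.e := mono_of_mono_fac A.e_i
  have : Epi A.e := by
    have h := A.exact_zero
    rw [ShortComplex.exact_iff_epi_kernel_lift] at h
    exact h
  exact isIso_of_mono_of_epi _

section

variable (h : DeltaSeq T)

/-- Iterated connecting maps down to degree zero cycles. -/
noncomputable def D : ∀ (n k m : ℕ), k + n = m → ((T k).obj (A.Z n) ⟶ (T m).obj (A.Z 0))
  | 0, k, m, hm => eqToHom (by subst hm; rfl)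
  | n + 1, k, m, hm => h.δ (A.shortExact_S n) k ≫ D n (k + 1) m (by omega)

lemma δ_surjective (n k : ℕ) : Function.Surjective (h.δ (A.shortExact_S n) k).hom := by
  intro x
  have := A.acyclic n k
  exact ((h.exact₁ (A.shortExact_S n) k) x).1 (Subsingleton.elim (α := (T (k + 1)).obj (A.J.X n)) _ _)

lemma δ_injective (n k : ℕ) (hk : 1 ≤ k) :
    Function.Injective (h.δ (A.shortExact_S n) k).hom := by
  rw [injective_iff_map_eq_zero]
  intro x hx
  obtain ⟨y, rfl⟩ := ((h.exact₃ (A.shortExact_S n) k) x).1 hx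
  obtain ⟨j, rfl⟩ := Nat.exists_eq_add_of_le' hk
  have := A.acyclic n j
  have hy : y = 0 := Subsingleton.elim (α := (T (j + 1)).obj (A.J.X n)) y 0
  exact hy ▸ map_zero _

lemma D_surjective : ∀ (n k m : ℕ) (hm : k + n = m), Function.Surjective (A.D h n k m hm).hom
  | 0, k, m, hm => by
    subst hm
    simpa [D] using Function.surjective_id
  | n + 1, k, m, hm => by
    simp only [D, ModuleCat.hom_comp, LinearMap.coe_comp]
    exact (D_surjective n (k + 1) m _).comp (A.δ_surjective h n k)

lemma D_injective : ∀ (n k m : ℕ) (hm : k + n = m), 1 ≤ k →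
    Function.Injective (A.D h n k m hm).hom
  | 0, k, m, hm, _ => by
    subst hm
    simpa [D] using Function.injective_id
  | n + 1, k, m, hm, hk => by
    simp only [D, ModuleCat.hom_comp, LinearMap.coe_comp]
    exact (D_injective n (k + 1) m _ (by omega)).comp (A.δ_injective h n k hk)

/-- The map from `T⁰` of the `n`-th cycles to `Tⁿ M`. -/
noncomputable def π (n : ℕ) : (T 0).obj (A.Z n) ⟶ (T n).obj M :=
  A.D h n 0 n (by omega) ≫ (T n).map (inv A.e)

lemma map_inv_e_bijective (n : ℕ) : Function.Bijective ((T n).map (inv A.e)).hom :=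
  (asIso ((T n).map (inv A.e))).toLinearEquiv.bijective

lemma π_surjective (n : ℕ) : Function.Surjective (A.π h n).hom := by
  simp only [π, ModuleCat.hom_comp, LinearMap.coe_comp]
  exact (A.map_inv_e_bijective n).2.comp (A.D_surjective h n 0 n _)

lemma π_zero_injective : Function.Injective (A.π h 0).hom := by
  have : A.π h 0 = (T 0).map (inv A.e) := by simp [π, D]
  rw [this]
  exact (A.map_inv_e_bijective 0).1

lemma π_succ_eq_zero_iff (n : ℕ) (z : (T 0).obj (A.Z (n + 1))) :
    (A.π h (n + 1)).hom z = 0 ↔ ∃ y, ((T 0).map (A.p n)).hom y = z := by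
  simp only [π, D, ModuleCat.hom_comp, LinearMap.coe_comp, Function.comp_apply]
  rw [← map_zero ((T (n + 1)).map (inv A.e)).hom, (A.map_inv_e_bijective (n + 1)).1.eq_iff,
    ← map_zero (A.D h n 1 (n + 1) (by omega)).hom,
    (A.D_injective h n 1 (n + 1) (by omega) le_rfl).eq_iff]
  exact h.exact₃ (A.shortExact_S n) 0 z

lemma map_i_injective (h : DeltaSeq T) (n : ℕ) :
    Function.Injective ((T 0).map (A.i n)).hom :=
  h.mono₀ (A.shortExact_S n)

lemma map_d_eq_zero_iff (h : DeltaSeq T) (n : ℕ) (x : (T 0).obj (A.J.X n)) :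
    ((T 0).map (A.J.d n (n + 1))).hom x = 0 ↔ ∃ z, ((T 0).map (A.i n)).hom z = x := by
  rw [← p_i, Functor.map_comp, ModuleCat.hom_comp, LinearMap.comp_apply,
    ← map_zero ((T 0).map (A.i (n + 1))).hom, (A.map_i_injective h (n + 1)).eq_iff]
  exact h.exact₂ (A.shortExact_S n) 0 x

/-- `T⁰` applied to the resolution. -/
noncomputable abbrev cx : CochainComplex (ModuleCat.{w'} R) ℕ :=
  ((T 0).mapHomologicalComplex _).obj A.J

lemma π_eq_zero_iff (n : ℕ) (z : (T 0).obj (A.Z n)) :
    (A.π h n).hom z = 0 ↔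
      ∃ x, (A.cx.d (n - 1) n).hom x = ((T 0).map (A.i n)).hom z := by
  cases n with
  | zero =>
    have hd : A.cx.d 0 0 = 0 := A.cx.shape _ _ (by simp)
    constructor
    · intro hz
      have : z = 0 := A.π_zero_injective h (hz.trans (map_zero _).symm)
      subst this
      exact ⟨0, (map_zero _).trans (map_zero _).symm⟩
    · rintro ⟨x, hx⟩
      have hd' : (A.cx.d 0 0).hom x = 0 := by rw [hd]; rfl
      have : z = 0 := A.map_i_injective h 0 ((hx.symm.trans hd').trans (map_zero _).symm)
      subst this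
      exact map_zero _
  | succ m =>
    rw [A.π_succ_eq_zero_iff h m z]
    refine exists_congr fun x => ?_
    change _ ↔ ((T 0).map (A.J.d m (m + 1))).hom x = _
    rw [← p_i, Functor.map_comp, ModuleCat.hom_comp, LinearMap.comp_apply,
      (A.map_i_injective h (m + 1)).eq_iff]

/-- Left homology data computing the homology of `T⁰ J` as `Tⁿ M`. -/
noncomputable def leftHomologyData (n : ℕ) : (A.cx.sc' (n - 1) n (n + 1)).LeftHomologyData :=
  leftHomologyDataOfExact _ ((T 0).map (A.i n)) (A.π h n) (A.map_i_injective h n)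
    (fun x => A.map_d_eq_zero_iff h n x) (A.π_surjective h n) (fun z => A.π_eq_zero_iff h n z)

/-- `Tⁿ M` is the homology of `T⁰` of the resolution. -/
noncomputable def homologyIso (n : ℕ) : A.cx.homology n ≅ (T n).obj M :=
  A.cx.homologyIsoSc' (n - 1) n (n + 1) (by cases n <;> simp) (by simp) ≪≫
    (A.leftHomologyData h n).homologyIso

end

/-! ### Functoriality -/

section Map

variable {M' : C} (B : AcRes T M') {f : M ⟶ M'} (φ : A.J ⟶ B.J)

/-- The induced map on cycles. -/
noncomputable def ψ (n : ℕ) : A.Z n ⟶ B.Z n :=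
  kernel.map _ _ (φ.f n) (φ.f (n + 1)) (φ.comm n (n + 1)).symm

lemma ψ_i (n : ℕ) : A.ψ B φ n ≫ B.i n = A.i n ≫ φ.f n :=
  kernel.lift_ι _ _ _

lemma p_ψ (n : ℕ) : A.p n ≫ A.ψ B φ (n + 1) = φ.f n ≫ B.p n := by
  rw [← cancel_mono (B.i (n + 1)), Category.assoc, ψ_i, ← Category.assoc, p_i, Category.assoc,
    p_i, φ.comm]

/-- The induced map of short complexes. -/
noncomputable def Sψ (n : ℕ) : A.S n ⟶ B.S n where
  τ₁ := A.ψ B φ n
  τ₂ := φ.f n
  τ₃ := A.ψ B φ (n + 1)
  comm₁₂ := A.ψ_i B φ n
  comm₂₃ := (A.p_ψ B φ n).symm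

lemma D_natural (h : DeltaSeq T) : ∀ (n k m : ℕ) (hm : k + n = m),
    (T k).map (A.ψ B φ n) ≫ B.D h n k m hm = A.D h n k m hm ≫ (T m).map (A.ψ B φ 0)
  | 0, k, m, hm => by subst hm; simp [D]
  | n + 1, k, m, hm => by
    simp only [D, Category.assoc]
    rw [← D_natural h n (k + 1) m (by omega), ← Category.assoc, ← Category.assoc]
    congr 1
    exact h.naturality (A.shortExact_S n) (B.shortExact_S n) (A.Sψ B φ n) k

lemma inv_e_comp (comm : A.ι ≫ φ.f 0 = f ≫ B.ι) : inv A.e ≫ f = A.ψ B φ 0 ≫ inv B.e := by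
  rw [IsIso.eq_comp_inv, Category.assoc, IsIso.inv_comp_eq, ← cancel_mono (B.i 0),
    Category.assoc, Category.assoc, ψ_i, e_i, ← Category.assoc, e_i, comm]

lemma π_natural (h : DeltaSeq T) (comm : A.ι ≫ φ.f 0 = f ≫ B.ι) (n : ℕ) :
    A.π h n ≫ (T n).map f = (T 0).map (A.ψ B φ n) ≫ B.π h n := by
  rw [π, π, Category.assoc, ← Functor.map_comp, A.inv_e_comp B φ comm, Functor.map_comp,
    ← Category.assoc, ← A.D_natural B φ h n 0 n (by omega), Category.assoc]

set_option backward.isDefEq.respectTransparency false in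
lemma homologyIso_natural (h : DeltaSeq T) (comm : A.ι ≫ φ.f 0 = f ≫ B.ι) (n : ℕ) :
    HomologicalComplex.homologyMap (((T 0).mapHomologicalComplex _).map φ) n ≫
        (B.homologyIso h n).hom = (A.homologyIso h n).hom ≫ (T n).map f := by
  set Φ := ((T 0).mapHomologicalComplex _).map φ
  let χ := (HomologicalComplex.shortComplexFunctor' (ModuleCat.{w'} R) _ (n - 1) n (n + 1)).map Φ
  let γ : ShortComplex.LeftHomologyMapData χ (A.leftHomologyData h n) (B.leftHomologyData h n) :=
    { φK := (T 0).map (A.ψ B φ n)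
      φH := (T n).map f
      commi := by
        change (T 0).map (A.ψ B φ n) ≫ (T 0).map (B.i n) = (T 0).map (A.i n) ≫ (T 0).map (φ.f n)
        rw [← Functor.map_comp, ← Functor.map_comp, ψ_i]
      commf' := by
        rw [← cancel_mono (B.leftHomologyData h n).i, Category.assoc, Category.assoc,
          (B.leftHomologyData h n).f'_i]
        change (A.leftHomologyData h n).f' ≫ ((T 0).map (A.ψ B φ n) ≫ (T 0).map (B.i n)) = _
        rw [← Functor.map_comp, ψ_i, Functor.map_comp]
        change (A.leftHomologyData h n).f' ≫ (A.leftHomologyData h n).i ≫ χ.τ₂ = _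
        rw [ShortComplex.LeftHomologyData.f'_i_assoc]
        exact χ.comm₁₂.symm
      commπ := A.π_natural B φ h comm n }
  have h1 := γ.homologyMap_comm
  have h2 : HomologicalComplex.homologyMap Φ n ≫
      (B.cx.homologyIsoSc' (n - 1) n (n + 1) (by cases n <;> simp) (by simp)).hom =
      (A.cx.homologyIsoSc' (n - 1) n (n + 1) (by cases n <;> simp) (by simp)).hom ≫
        ShortComplex.homologyMap χ := by
    have e : (HomologicalComplex.shortComplexFunctor (ModuleCat.{w'} R) (ComplexShape.up ℕ) n).map Φ ≫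
        (B.cx.isoSc' (n - 1) n (n + 1) (by cases n <;> simp) (by simp)).hom =
        (A.cx.isoSc' (n - 1) n (n + 1) (by cases n <;> simp) (by simp)).hom ≫ χ :=
      (HomologicalComplex.natIsoSc' (ModuleCat.{w'} R) (ComplexShape.up ℕ) (n - 1) n (n + 1)
        (by cases n <;> simp) (by simp)).hom.naturality Φ
    refine ((ShortComplex.homologyMap_comp _ _).symm.trans ?_).trans
      (ShortComplex.homologyMap_comp _ _)
    rw [e]
  simp only [homologyIso, Iso.trans_hom, Category.assoc]
  rw [← Category.assoc, h2, Category.assoc, h1]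

end Map

end AcRes

/-- The augmentation data of an injective resolution, as an acyclic resolution. -/
noncomputable def acResOfInjective
    (hT : ∀ (E : C) [Injective E] (n : ℕ), Subsingleton ((T (n + 1)).obj E))
    {M : C} (I : InjectiveResolution M) : AcRes T M where
  J := I.cocomplex
  ι := I.ι.f 0
  w := I.ι_f_zero_comp_complex_d
  mono_ι := (inferInstance : Mono (I.ι.f 0))
  exact_zero := ShortComplex.exact_of_f_is_kernel _ I.isLimitKernelFork
  exact_succ := I.exact_succ
  acyclic _ _ := hT _ _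

/-- An effaceable exact connected sequence is the sequence of right derived functors. -/
noncomputable def rightDerivedIso [HasInjectiveResolutions C] (h : DeltaSeq T)
    (hT : ∀ (E : C) [Injective E] (n : ℕ), Subsingleton ((T (n + 1)).obj E)) (n : ℕ) :
    (T 0).rightDerived n ≅ T n :=
  NatIso.ofComponents
    (fun M => (injectiveResolution M).isoRightDerivedObj (T 0) n ≪≫
      (acResOfInjective hT (injectiveResolution M)).homologyIso h n)
    (fun {M M'} f => by
      change _ ≫ (_ ≫ _) = (_ ≫ _) ≫ _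
      rw [← Category.assoc,
        InjectiveResolution.isoRightDerivedObj_hom_naturality f _ _
          (InjectiveResolution.desc f _ _) (InjectiveResolution.desc_commutes_zero f _ _),
        Category.assoc, Category.assoc]
      congr 1
      exact AcRes.homologyIso_natural (acResOfInjective hT (injectiveResolution M))
        (acResOfInjective hT (injectiveResolution M')) _ h
        (InjectiveResolution.desc_commutes_zero f _ _) n)

end DeltaSeq

end Groth.Agent.Lib.LocalCoh
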