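import Groth.Agent.Lib.LocalCoh.Faltings
import Groth.Agent.Lib.LCFin.Kill
import Groth.Agent.Lib.Regular.Serre
import Groth.Agent.Lib.JacCrit.FlatRegular
import Groth.Agent.H18.AB
import Groth.Agent.S14424

/-!
# Faltings's annihilator theorem over quotients of regular rings
-/

universe u

open IsLocalRing CategoryTheory
open Groth.Agent.Lib Groth.Agent.Lib.LocalCoh.Killed

namespace Groth.Agent.Lib.LocalCoh.FaltingsRegular

open Groth.Agent.Lib.LocalCoh HeightChain

section Height

variable {R : Type u} [CommRing R]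

/-- `ht q + ht (p/q) ≤ ht p`. -/
lemma height_add_height_map_le (q p : Ideal R) [q.IsPrime] [p.IsPrime] (h : q ≤ p) :
    q.height + (p.map (Ideal.Quotient.mk q)).height ≤ p.height := by
  let f : PrimeSpectrum (R ⧸ q) → PrimeSpectrum R := PrimeSpectrum.comap (Ideal.Quotient.mk q)
  have hinj : Function.Injective f :=
    PrimeSpectrum.comap_injective_of_surjective _ Ideal.Quotient.mk_surjective
  have hmono : StrictMono f := fun a b hab =>
    lt_of_le_of_ne (Ideal.comap_mono hab.le : (f a).asIdeal ≤ (f b).asIdeal) fun h => hab.ne (hinj h)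
  let c : PrimeSpectrum (R ⧸ q) := ⟨⊥, Ideal.isPrime_bot⟩
  have hc : f c = ⟨q, inferInstance⟩ := PrimeSpectrum.ext Ideal.mk_ker
  have hle := height_add_le f hmono c
    (fun x => (Ideal.comap_mono (bot_le : c.asIdeal ≤ x.asIdeal) : (f c).asIdeal ≤ (f x).asIdeal))
    ⟨_, map_mk_isPrime h⟩
  have hx : f ⟨_, map_mk_isPrime h⟩ = ⟨p, inferInstance⟩ := PrimeSpectrum.ext (comap_map_mk h)
  rw [hc, hx, ← PrimeSpectrum.height_eq_orderHeight, ← PrimeSpectrum.height_eq_orderHeight,
    ← PrimeSpectrum.height_eq_orderHeight] at hle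
  exact hle

end Height

section PD

variable {R : Type u} [CommRing R] [IsRegularRing R] (M : Type u) [AddCommGroup M] [Module R M]
  [Module.Finite R M]

lemma cm_localization (q : Ideal R) [q.IsPrime] :
    LocCoh.IsCohenMacaulayLocalRing (Localization.AtPrime q) :=
  JacCrit.FlatRegular.isCohenMacaulayLocalRing _

lemma isCohenMacaulayRing : LocCoh.IsCohenMacaulayRing R :=
  { isCohenMacaulayLocalRing_localization := fun q _ => cm_localization q }

lemma depth_self (q : Ideal R) [q.IsPrime] :
    LocCoh.depth (Localization.AtPrime q) (Localization.AtPrime q) = q.height := by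
  have := cm_localization q
  have h := Depth.CM.ringKrullDim_eq_depth (R := Localization.AtPrime q)
  rw [IsLocalization.AtPrime.ringKrullDim_eq_height q] at h
  exact (WithBot.coe_inj.mp h).symm

/-- The projective dimension at `q` complements the depth to the height. -/
lemma exists_pd (q : Ideal R) [q.IsPrime] (hq : Nontrivial (LocalizedModule q.primeCompl M)) :
    ∃ e : ℕ, HasProjectiveDimensionLE
        (ModuleCat.of (Localization.AtPrime q) (LocalizedModule q.primeCompl M)) e ∧
      (e : ℕ∞) + LocCoh.depth (Localization.AtPrime q) (LocalizedModule q.primeCompl M) =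
        q.height := by
  let S := Localization.AtPrime q
  let N := LocalizedModule q.primeCompl M
  have := Module.Finite.of_isLocalizedModule q.primeCompl (Rₚ := S)
    (LocalizedModule.mkLinearMap q.primeCompl M)
  have hD : HasProjectiveDimensionLE (ModuleCat.of S N) (maximalIdeal S).spanFinrank :=
    Regular.Serre.pdle_all (R := S) N
  have h1 : projectiveDimension (ModuleCat.of S N) ≤ ((maximalIdeal S).spanFinrank : ℕ) :=
    (projectiveDimension_le_iff _ _).2 hD
  have h2 : projectiveDimension (ModuleCat.of S N) ≠ ⊥ := fun h => by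
    rw [projectiveDimension_eq_bot_iff] at h
    exact not_subsingleton N (ModuleCat.isZero_iff_subsingleton.1 h)
  obtain ⟨e', he'⟩ := WithBot.ne_bot_iff_exists.1 h2
  obtain ⟨e, rfl⟩ := ENat.ne_top_iff_exists.1 (fun h => by
    rw [← he', h] at h1
    exact absurd (WithBot.coe_le_coe.1 h1) (not_le.2 (ENat.natCast_lt_top _)) : e' ≠ ⊤)
  refine ⟨e, (projectiveDimension_le_iff _ _).1 (le_of_eq he'.symm), ?_⟩
  rw [← depth_self q]
  exact (Groth.Agent.H18.AB.depth_eq S N e he'.symm).symm

lemma hasPD_of_subsingleton (q : Ideal R) [q.IsPrime]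
    [Subsingleton (LocalizedModule q.primeCompl M)] (t : ℕ) :
    HasProjectiveDimensionLE
      (ModuleCat.of (Localization.AtPrime q) (LocalizedModule q.primeCompl M)) t := by
  have := (ModuleCat.isZero_iff_subsingleton
    (M := ModuleCat.of (Localization.AtPrime q) (LocalizedModule q.primeCompl M))).2 ‹_›
  have := this.hasProjectiveDimensionLT_zero
  exact hasProjectiveDimensionLT_of_ge _ 0 (t + 1) (Nat.zero_le _)

/-- Near `p`, a power of `x` kills local cohomology supported at `p`. -/
theorem exists_killing (p : Ideal R) [p.IsPrime] (x : R) (i : ℕ)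
    (hyp : ∀ (q : Ideal R) [q.IsPrime], q ≤ p → x ∉ q → (i : ℕ∞) <
      LocCoh.depth (Localization.AtPrime q) (LocalizedModule q.primeCompl M) +
        (p.map (Ideal.Quotient.mk q)).height) :
    ∃ s ∉ p, ∃ n : ℕ, ∀ w : LocCoh.H p i M, s • x ^ n • w = 0 := by
  obtain ⟨h, hh⟩ : ∃ h : ℕ, p.height = h :=
    ⟨_, (ENat.natCast_toNat (Ideal.height_ne_top Ideal.IsPrime.ne_top')).symm⟩
  obtain ⟨J, hJmem, hJkill⟩ : ∃ J : Ideal R,
      (∀ (q : Ideal R) [q.IsPrime], q ≤ p → J ≤ q → x ∈ q) ∧
      ∀ a ∈ J, ∀ w : LocCoh.H p i M, a • w = 0 := by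
    by_cases hi : i < h
    · obtain ⟨J, hJ, hkill⟩ := LCFin.Kill.exists_killing_ideal (R := R) M (h - (i + 1))
      refine ⟨J, fun q _ hqp hJq => ?_, fun a ha w => hkill p i ?_ a ha w⟩
      · by_contra hxq
        refine hJ q ?_ hJq
        by_cases hnt : Nontrivial (LocalizedModule q.primeCompl M)
        swap
        · have := not_nontrivial_iff_subsingleton.mp hnt
          exact hasPD_of_subsingleton M q _
        obtain ⟨e, he, heq⟩ := exists_pd M q hnt
        have h1 := hyp q hqp hxq
        have h2 := height_add_height_map_le q p hqp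
        rw [← heq, hh, add_assoc] at h2
        have h3 : (e : ℕ∞) + (i + 1 : ℕ) ≤ h := by
          refine le_trans (add_le_add le_rfl ?_) h2
          rw [Nat.cast_add, Nat.cast_one]
          exact Order.add_one_le_of_lt h1
        have h4 : e + (i + 1) ≤ h := by exact_mod_cast h3
        exact hasProjectiveDimensionLT_of_ge _ (e + 1) _ (by omega)
      · rw [(Groth.Agent.S14424.result R).1 isCohenMacaulayRing p Ideal.IsPrime.ne_top', hh]
        exact_mod_cast (by omega : i + (h - (i + 1)) < h)
    · refine ⟨Module.annihilator R M, fun q _ hqp hJq => ?_, fun a ha w => ?_⟩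
      · by_contra hxq
        have hnt : Nontrivial (LocalizedModule q.primeCompl M) :=
          (Module.mem_support_iff (p := ⟨q, inferInstance⟩)).1
            (by rw [Module.support_eq_zeroLocus]; exact hJq)
        obtain ⟨e, -, heq⟩ := exists_pd M q hnt
        have h1 := (hyp q hqp hxq).trans_le ((add_le_add le_add_self le_rfl).trans
          (heq ▸ height_add_height_map_le q p hqp))
        rw [hh, Nat.cast_lt] at h1
        exact hi h1
      · rw [← LCFin.Seq.Hmap_lsmul, show LinearMap.lsmul R M a = 0 from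
          LinearMap.ext fun m => Module.mem_annihilator.1 ha m]
        show ((localCohomology p i).map (0 : ModuleCat.of R M ⟶ ModuleCat.of R M)).hom w = 0
        rw [Functor.map_zero]
        rfl
  have hrad : algebraMap R (Localization.AtPrime p) x ∈
      (J.map (algebraMap R (Localization.AtPrime p))).radical := by
    rw [Ideal.radical_eq_sInf, Submodule.mem_sInf]
    intro (P : Ideal (Localization.AtPrime p)) hP
    simp only [Set.mem_ofPred_eq] at hP
    obtain ⟨hJP, hPp⟩ := hP
    have hc : (P.comap (algebraMap R (Localization.AtPrime p))).IsPrime := hPp.comap _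
    have h1 : P.comap (algebraMap R (Localization.AtPrime p)) ≤ p :=
      (Ideal.comap_mono (le_maximalIdeal hPp.ne_top)).trans
        (IsLocalization.AtPrime.under_maximalIdeal _ p).le
    have h2 : J ≤ P.comap (algebraMap R (Localization.AtPrime p)) := Ideal.map_le_iff_le_comap.1 hJP
    have h3 := @hJmem _ hc h1 h2
    exact h3
  obtain ⟨n, hn⟩ := hrad
  rw [← map_pow, IsLocalization.algebraMap_mem_map_algebraMap_iff p.primeCompl] at hn
  obtain ⟨s, hs, hsx⟩ := hn
  exact ⟨s, hs, n, fun w => by rw [smul_smul]; exact hJkill _ hsx w⟩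

end PD

section Globalise

variable {R : Type u} [CommRing R] [IsNoetherianRing R]

/-- Lifting along added generators, off a multiplier. -/
lemma exists_pow_mem_range (M : Type u) [AddCommGroup M] [Module R M] (i : ℕ) (c : Ideal R) (g : R) :
    ∀ (t : Finset R) (J : Ideal R) (hJ : c ≤ J), J = c ⊔ Ideal.span t →
      (∀ r ∈ t, g * r ∈ c.radical) → ∀ z : LocCoh.H c i M,
        ∃ (N : ℕ) (w : LocCoh.H J i M),
          ((Dual2.HmapOfLE hJ i).app (ModuleCat.of R M)).hom w = g ^ N • z := by
  classical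
  intro t
  induction t using Finset.induction with
  | empty =>
    intro J hJ hJe _ z
    have : J = c := by simp [hJe]
    subst this
    refine ⟨0, z, ?_⟩
    rw [HmapOfLE_refl, pow_zero, one_smul]
    rfl
  | @insert b t _ ih =>
    intro J hJ hJe ht z
    have hK : c ≤ c ⊔ Ideal.span (t : Set R) := le_sup_left
    have hJK : J = (c ⊔ Ideal.span (t : Set R)) ⊔ Ideal.span {b} := by
      rw [hJe, Finset.coe_insert, Ideal.span_insert, sup_assoc, sup_comm (Ideal.span {b})]
    subst hJK
    obtain ⟨N, w, hw⟩ := ih _ hK rfl (fun r hr => ht r (Finset.mem_insert_of_mem hr)) z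
    obtain ⟨k, hk⟩ := ht b (Finset.mem_insert_self b t)
    obtain ⟨m, hm⟩ := isPowerTorsion_lc (c ⊔ Ideal.span (t : Set R)) i (ModuleCat.of R M) w
    have h0 : b ^ (k * m) • (g ^ (k * m) • w) = 0 := by
      rw [smul_smul, ← mul_pow, mul_comm b g, pow_mul]
      exact hm _ (Ideal.pow_mem_pow (hK hk) m)
    obtain ⟨w', hw'⟩ := (exists_HmapOfLE_eq_iff (b := b) (a := c ⊔ Ideal.span (t : Set R))
      (ModuleCat.of R M) i (g ^ (k * m) • w)).2 ⟨_, h0⟩
    refine ⟨k * m + N, w', ?_⟩
    rw [← HmapOfLE_comp hK le_sup_left i, NatTrans.comp_app, ModuleCat.hom_comp, LinearMap.comp_apply,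
      hw', map_smul, hw, smul_smul, ← pow_add]

/-- Killing at the generic points of every closed subset of `V(a)` gives killing. -/
theorem killed_of_generic (M : Type u) [AddCommGroup M] [Module R M] (a : Ideal R) (x : R) (i : ℕ)
    (h : ∀ p : Ideal R, p.IsPrime → a ≤ p →
      ∃ s ∉ p, ∃ n : ℕ, ∀ w : LocCoh.H p i M, s • x ^ n • w = 0)
    (c : Ideal R) (hc : a ≤ c) : ∃ n : ℕ, ∀ z : LocCoh.H c i M, x ^ n • z = 0 := by
  induction c using WellFoundedGT.induction with
  | _ c ih => ?_
  by_cases htop : c = ⊤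
  · refine ⟨0, fun z => ?_⟩
    obtain ⟨m, hm⟩ := isPowerTorsion_lc c i (ModuleCat.of R M) z
    rw [pow_zero]
    refine hm 1 ?_
    rw [htop, Ideal.top_pow]
    trivial
  obtain ⟨p, hp⟩ := Ideal.nonempty_minimalPrimes htop
  have hpp := hp.1.1
  obtain ⟨s, hs, n, hkill⟩ := h p hpp (hc.trans hp.1.2)
  have hfin := Ideal.finite_minimalPrimes_of_isNoetherianRing R c
  obtain ⟨g, hgp, hg⟩ : ∃ g ∉ p, ∀ r ∈ p, g * r ∈ c.radical := by
    classical
    choose f hf hfp using fun P : ({P | P ∈ c.minimalPrimes ∧ P ≠ p} : Set (Ideal R)) =>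
      Set.not_subset.1 fun hle : (P.1 : Set R) ⊆ p => P.2.2 (le_antisymm hle (hp.2 P.2.1.1 hle))
    have : Fintype ({P | P ∈ c.minimalPrimes ∧ P ≠ p} : Set (Ideal R)) :=
      (hfin.subset fun P hP => hP.1).fintype
    refine ⟨∏ P, f P, fun hmem => ?_, fun r hr => ?_⟩
    · obtain ⟨P, -, hP⟩ := (Ideal.IsPrime.prod_mem_iff (p := p)).1 hmem
      exact hfp P hP
    · rw [← Ideal.sInf_minimalPrimes, Submodule.mem_sInf]
      intro P hP
      by_cases hPp : P = p
      · rw [hPp]; exact Ideal.mul_mem_left _ _ hr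
      · exact Ideal.mul_mem_right _ _ (Ideal.mem_of_dvd P
          (Finset.dvd_prod_of_mem f (Finset.mem_univ ⟨P, hP, hPp⟩)) (hf ⟨P, hP, hPp⟩))
  have hlt : c < c ⊔ Ideal.span {s * g} := lt_of_le_not_ge le_sup_left fun hle =>
    (hpp.mul_mem_iff_mem_or_mem.not.2 (not_or.2 ⟨hs, hgp⟩))
      (hp.1.2 (hle (Ideal.mem_sup_right (Ideal.mem_span_singleton_self _))))
  obtain ⟨n', hn'⟩ := ih _ hlt (hc.trans le_sup_left)
  obtain ⟨t, ht⟩ := IsNoetherian.noetherian p
  have hJ : p = c ⊔ Ideal.span (t : Set R) := by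
    change p = c ⊔ Submodule.span R (t : Set R)
    rw [ht, sup_eq_right.2 hp.1.2]
  refine ⟨n' + n, fun z => ?_⟩
  obtain ⟨N, w, hw⟩ := exists_pow_mem_range M i c g t p hp.1.2 hJ
    (fun r hr => hg r (ht ▸ Submodule.subset_span hr)) z
  have h1 : s • x ^ n • g ^ N • z = 0 := by
    rw [← hw, ← map_smul, ← map_smul, hkill, map_zero]
  have h2 : (s * g) ^ (N + 1) • x ^ n • z = 0 := by
    rw [show (s * g) ^ (N + 1) • x ^ n • z = (s ^ N * g) • s • x ^ n • g ^ N • z by
      simp only [smul_smul]; congr 1; ring, h1, smul_zero]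
  obtain ⟨y, hy⟩ := (exists_HmapOfLE_eq_iff (b := s * g) (a := c) (ModuleCat.of R M) i
    (x ^ n • z)).2 ⟨_, h2⟩
  rw [pow_add, mul_smul, ← hy, ← map_smul, hn', map_zero]

end Globalise

/-- Faltings's theorem over a regular ring. -/
theorem minAdjDepth_le_finDimRel {R : Type u} [CommRing R] [IsRegularRing R] (a b : Ideal R)
    (M : Type u) [AddCommGroup M] [Module R M] [Module.Finite R M] :
    LocCoh.minAdjDepth a b M ≤ LocCoh.finDimRel a b M := by
  refine le_iInf₂ fun i hi => not_lt.1 fun hlt => hi fun x hx => ?_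
  obtain ⟨n, hn⟩ := killed_of_generic M a x i (fun p hp hap => exists_killing M p x i fun q _ hqp hxq => by
    refine lt_of_lt_of_le (hlt.trans_le (iInf₂_le (⟨q, inferInstance⟩ : PrimeSpectrum R)
      fun hbq => hxq (hbq hx))) ?_
    exact add_le_add le_rfl (Ideal.height_mono (Ideal.map_mono (sup_le hap hqp)))) a le_rfl
  exact ⟨n, Module.mem_annihilator.2 hn⟩

/-- Bound on the projective dimension away from `b`. -/
theorem le_vanishingIdeal_projdim (R : Type u) [CommRing R] [IsRegularLocalRing R] (d : ℕ)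
    (hd : ringKrullDim R = d) (M : Type u) [AddCommGroup M] [Module R M] [Module.Finite R M]
    (b : Ideal R) (t : ℕ) (ht : (d : ℕ∞) ≤ (t : ℕ∞) + LocCoh.minAdjDepth (maximalIdeal R) b M) :
    b ≤ PrimeSpectrum.vanishingIdeal {p : PrimeSpectrum R | ¬ HasProjectiveDimensionLE
      (ModuleCat.of (Localization.AtPrime p.asIdeal) (LocalizedModule p.asIdeal.primeCompl M)) t} := by
  have : IsRegularRing R :=
    { isRegularLocalRing_localization := fun p _ => Regular.Serre.isRegularLocalRing_localization p }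
  intro x hx
  rw [PrimeSpectrum.mem_vanishingIdeal]
  intro q hq
  by_contra hxq
  refine hq ?_
  by_cases hnt : Nontrivial (LocalizedModule q.asIdeal.primeCompl M)
  swap
  · have := not_nontrivial_iff_subsingleton.mp hnt
    exact hasPD_of_subsingleton M q.asIdeal t
  obtain ⟨e, he, heq⟩ := exists_pd M q.asIdeal hnt
  have h1 := ht.trans (add_le_add le_rfl (iInf₂_le q fun hbq => hxq (hbq hx)))
  rw [LocCoh.adjDepth, sup_eq_left.2 (le_maximalIdeal q.2.ne_top), ← add_assoc] at h1
  have h2 := height_add_height_map_le q.asIdeal (maximalIdeal R) (le_maximalIdeal q.2.ne_top)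
  have hmh : (maximalIdeal R).height = (d : ℕ∞) := by
    have := IsLocalRing.maximalIdeal_height_eq_ringKrullDim (R := R)
    rw [hd] at this
    exact WithBot.coe_inj.1 this
  rw [← heq, hmh] at h2
  obtain ⟨u, hu⟩ := ENat.ne_top_iff_exists.1 (fun h => by
    rw [h, add_top, top_add, top_le_iff] at h2
    exact ENat.natCast_ne_top _ h2 :
      LocCoh.depth (Localization.AtPrime q.asIdeal) (LocalizedModule q.asIdeal.primeCompl M) ≠ ⊤)
  obtain ⟨v, hv⟩ := ENat.ne_top_iff_exists.1 (fun h => by
    rw [h, add_top, top_le_iff] at h2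
    exact ENat.natCast_ne_top _ h2 :
      ((maximalIdeal R).map (Ideal.Quotient.mk q.asIdeal)).height ≠ ⊤)
  rw [← hu, ← hv] at h1 h2
  norm_cast at h1 h2
  exact hasProjectiveDimensionLT_of_ge _ (e + 1) _ (by omega)

end Groth.Agent.Lib.LocalCoh.FaltingsRegular
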