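import Groth.Agent.Lib.LocalCoh.Basic
import Mathlib.RingTheory.Finiteness.Cardinality
import Mathlib.Algebra.Category.ModuleCat.Projective
import Mathlib.LinearAlgebra.Pi

/-!
# `Ext` of finite modules over Noetherian rings commutes with filtered colimits
-/

universe u

open CategoryTheory CategoryTheory.Limits Opposite

namespace Groth.Agent.Lib.LocalCoh

variable {R : Type u} [CommRing R] {J : Type u} [SmallCategory J] [IsFiltered J]
  {F : J ⥤ ModuleCat.{u} R} {c : Cocone F}

lemma exists_forall_zero (hc : IsColimit c) {ι : Type*} [Finite ι] {j : J} (x : ι → F.obj j)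
    (hx : ∀ i, (c.ι.app j).hom (x i) = 0) :
    ∃ (j' : J) (g : j ⟶ j'), ∀ i, (F.map g).hom (x i) = 0 := by
  classical
  have key : ∀ i, ∃ (j' : J) (g : j ⟶ j'), (F.map g).hom (x i) = 0 := fun i => by
    obtain ⟨k, f, g, e⟩ := Concrete.isColimit_exists_of_rep_eq F hc (i := j) (j := j) (x i) 0
      ((hx i).trans (map_zero (c.ι.app j).hom).symm)
    exact ⟨k, f, e.trans (map_zero (F.map g).hom)⟩
  choose t g hg using key
  have := Fintype.ofFinite ι
  obtain ⟨S, hS⟩ := IsFiltered.sup_objs_exists (insert j (Finset.univ.image t))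
  obtain ⟨s⟩ := hS (Finset.mem_insert_self j _)
  have a : ∀ i, Nonempty (t i ⟶ S) := fun i =>
    hS (Finset.mem_insert_of_mem (Finset.mem_image_of_mem t (Finset.mem_univ i)))
  let h : ι → (j ⟶ S) := fun i => g i ≫ (a i).some
  obtain ⟨S', w, hw⟩ : ∃ (S' : J) (w : S ⟶ S'), ∀ i, h i ≫ w = s ≫ w := by
    suffices H : ∀ (u : Finset ι), ∃ (S' : J) (w : S ⟶ S'), ∀ i ∈ u, h i ≫ w = s ≫ w by
      obtain ⟨S', w, hw⟩ := H Finset.univ
      exact ⟨S', w, fun i => hw i (Finset.mem_univ i)⟩
    intro u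
    induction u using Finset.induction with
    | empty => exact ⟨S, 𝟙 S, fun i hi => absurd hi (Finset.notMem_empty i)⟩
    | insert i u _ ih =>
      obtain ⟨S', w, hw⟩ := ih
      refine ⟨IsFiltered.coeq (h i ≫ w) (s ≫ w), w ≫ IsFiltered.coeqHom _ _, fun l hl => ?_⟩
      rcases Finset.mem_insert.1 hl with rfl | hl
      · rw [← Category.assoc, ← Category.assoc]; exact IsFiltered.coeq_condition _ _
      · rw [← Category.assoc, ← Category.assoc, hw l hl]
  refine ⟨S', s ≫ w, fun i => ?_⟩
  rw [← hw i]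
  simp only [h, Functor.map_comp, ModuleCat.hom_comp, LinearMap.comp_apply, hg i, map_zero]

lemma exists_stage (hc : IsColimit c) {ι : Type*} [Finite ι] (x : ι → c.pt) :
    ∃ (j : J) (y : ι → F.obj j), ∀ i, (c.ι.app j).hom (y i) = x i := by
  classical
  choose t y hy using fun i => Concrete.isColimit_exists_rep F hc (x i)
  have := Fintype.ofFinite ι
  obtain ⟨S, hS⟩ := IsFiltered.sup_objs_exists (Finset.univ.image t)
  have a : ∀ i, Nonempty (t i ⟶ S) := fun i => hS (Finset.mem_image_of_mem t (Finset.mem_univ i))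
  refine ⟨S, fun i => (F.map (a i).some).hom (y i), fun i => ?_⟩
  rw [← hy i]
  exact ConcreteCategory.congr_hom (c.w (a i).some) (y i)

variable [IsNoetherianRing R]

lemma exists_hom_stage (hc : IsColimit c) (P : ModuleCat.{u} R) [Module.Finite R P]
    (f : P ⟶ c.pt) : ∃ (j : J) (φ : P ⟶ F.obj j), φ ≫ c.ι.app j = f := by
  classical
  obtain ⟨n, p, hp⟩ := Module.Finite.exists_fin' R P
  obtain ⟨m, s, hs⟩ := Submodule.fg_iff_exists_fin_generating_family.1
    (IsNoetherian.noetherian (LinearMap.ker p))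
  obtain ⟨j, y, hy⟩ := exists_stage hc fun i => f.hom (p (Pi.single i 1))
  let L : (Fin n → R) →ₗ[R] F.obj j := Fintype.linearCombination R y
  have hL : (c.ι.app j).hom ∘ₗ L = f.hom ∘ₗ p := by
    apply LinearMap.pi_ext'
    intro i
    apply LinearMap.ext_ring
    simp [L, hy, Fintype.linearCombination_apply_single]
  obtain ⟨j', g, hg⟩ := exists_forall_zero hc (fun l => L (s l)) fun l => by
    have h0 : s l ∈ LinearMap.ker p := hs ▸ Submodule.subset_span ⟨l, rfl⟩
    exact (LinearMap.congr_fun hL (s l)).trans ((congrArg f.hom h0).trans (map_zero _))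
  let L' : (Fin n → R) →ₗ[R] F.obj j' := (F.map g).hom ∘ₗ L
  have hker : LinearMap.ker p ≤ LinearMap.ker L' := by
    rw [← hs, Submodule.span_le]
    rintro _ ⟨l, rfl⟩
    exact hg l
  let φ : P →ₗ[R] F.obj j' := (LinearMap.ker p).liftQ L' hker ∘ₗ
    (LinearMap.quotKerEquivOfSurjective p hp).symm.toLinearMap
  refine ⟨j', ModuleCat.ofHom φ, ?_⟩
  ext v
  obtain ⟨u, rfl⟩ := hp v
  have : φ (p u) = L' u := by
    simp only [φ, LinearMap.comp_apply, LinearEquiv.coe_coe]
    rw [show (LinearMap.quotKerEquivOfSurjective p hp).symm (p u) = Submodule.Quotient.mk u from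
      (LinearEquiv.symm_apply_eq _).2 rfl, Submodule.liftQ_apply]
  show (c.ι.app j').hom (φ (p u)) = f.hom (p u)
  rw [this]
  exact (ConcreteCategory.congr_hom (c.w g) (L u)).trans (LinearMap.congr_fun hL u)

omit [IsNoetherianRing R] in
lemma exists_hom_zero (hc : IsColimit c) (P : ModuleCat.{u} R) [Module.Finite R P] {j : J}
    (φ : P ⟶ F.obj j) (h : φ ≫ c.ι.app j = 0) :
    ∃ (j' : J) (g : j ⟶ j'), φ ≫ F.map g = 0 := by
  obtain ⟨n, p, hp⟩ := Module.Finite.exists_fin' R P
  obtain ⟨j', g, hg⟩ := exists_forall_zero hc (fun i => φ.hom (p (Pi.single i 1))) fun i =>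
    congrArg (fun t => t.hom (p (Pi.single i 1))) h
  refine ⟨j', g, ?_⟩
  ext v
  obtain ⟨u, rfl⟩ := hp v
  have : (F.map g).hom ∘ₗ φ.hom ∘ₗ p = 0 := by
    apply LinearMap.pi_ext'
    intro i
    apply LinearMap.ext_ring
    simpa using hg i
  exact LinearMap.congr_fun this u

open Abelian in
/-- `Extⁿ` out of a finite module commutes with filtered colimits, in element form. -/
theorem ext_filtered (hc : IsColimit c) : ∀ (n : ℕ) (P : ModuleCat.{u} R), Module.Finite R P →
    (∀ α : Ext.{u} P c.pt n, ∃ (j : J) (β : Ext.{u} P (F.obj j) n),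
      β.comp (Ext.mk₀ (c.ι.app j)) (add_zero n) = α) ∧
    (∀ (j : J) (β : Ext.{u} P (F.obj j) n), β.comp (Ext.mk₀ (c.ι.app j)) (add_zero n) = 0 →
      ∃ (j' : J) (g : j ⟶ j'), β.comp (Ext.mk₀ (F.map g)) (add_zero n) = 0) := by
  intro n
  induction n with
  | zero =>
    intro P _
    constructor
    · intro α
      obtain ⟨f, rfl⟩ := exists_mk₀ α
      obtain ⟨j, φ, hφ⟩ := exists_hom_stage hc P f
      exact ⟨j, Ext.mk₀ φ, by rw [Ext.mk₀_comp_mk₀, hφ]⟩
    · intro j β hβ
      obtain ⟨φ, rfl⟩ := exists_mk₀ β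
      rw [Ext.mk₀_comp_mk₀] at hβ
      obtain ⟨j', g, hg⟩ := exists_hom_zero hc P φ ((e₀_mk₀ _).symm.trans
        ((congrArg e₀ hβ).trans (map_zero _)))
      exact ⟨j', g, by rw [Ext.mk₀_comp_mk₀, hg, Ext.mk₀_zero]⟩
  | succ n ih =>
    intro P _
    obtain ⟨m, p, hp⟩ := Module.Finite.exists_fin' R P
    let S : ShortComplex (ModuleCat.{u} R) :=
      ShortComplex.mk (X₁ := ModuleCat.of R (LinearMap.ker p)) (X₂ := ModuleCat.of R (Fin m → R))
        (X₃ := P) (ModuleCat.ofHom (LinearMap.ker p).subtype) (ModuleCat.ofHom p)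
        (ModuleCat.hom_ext (LinearMap.ext fun x => x.2))
    have hS : S.ShortExact :=
      { exact := (ShortComplex.ShortExact.moduleCat_exact_iff_function_exact _).2
          (LinearMap.exact_subtype_ker_map p)
        mono_f := (ModuleCat.mono_iff_injective _).2 Subtype.val_injective
        epi_g := (ModuleCat.epi_iff_surjective _).2 hp }
    have : Projective S.X₂ := (IsProjective.iff_projective S.X₂).1
      (inferInstanceAs (Module.Projective R (Fin m → R)))
    have : Module.Finite R S.X₁ := inferInstanceAs (Module.Finite R (LinearMap.ker p))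
    have : Module.Finite R S.X₂ := inferInstanceAs (Module.Finite R (Fin m → R))
    obtain ⟨ihs, ihz⟩ := ih S.X₁ inferInstance
    obtain ⟨ihs₂, -⟩ := ih S.X₂ inferInstance
    constructor
    · intro α
      obtain ⟨a, rfl⟩ := Ext.contravariant_sequence_exact₃ hS c.pt α
        (Ext.eq_zero_of_projective (P := S.X₂) _) (Nat.add_comm 1 n)
      obtain ⟨j, b, rfl⟩ := ihs a
      exact ⟨j, hS.extClass.comp b (Nat.add_comm 1 n), by
        rw [Ext.comp_assoc _ _ _ (Nat.add_comm 1 n) (add_zero n) (by omega)]⟩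
    · intro j β hβ
      obtain ⟨b, rfl⟩ := Ext.contravariant_sequence_exact₃ hS (F.obj j) β
        (Ext.eq_zero_of_projective (P := S.X₂) _) (Nat.add_comm 1 n)
      rw [Ext.comp_assoc _ _ _ (Nat.add_comm 1 n) (add_zero n) (by omega)] at hβ
      obtain ⟨γ, hγ⟩ := Ext.contravariant_sequence_exact₁ hS c.pt _ (Nat.add_comm 1 n) hβ
      obtain ⟨j₁, γ', rfl⟩ := ihs₂ γ
      let k := IsFiltered.max j j₁
      let u : j ⟶ k := IsFiltered.leftToMax j j₁
      let v : j₁ ⟶ k := IsFiltered.rightToMax j j₁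
      let b' := b.comp (Ext.mk₀ (F.map u)) (add_zero n) -
        (Ext.mk₀ S.f).comp (γ'.comp (Ext.mk₀ (F.map v)) (add_zero n)) (zero_add n)
      have hb' : b'.comp (Ext.mk₀ (c.ι.app k)) (add_zero n) = 0 := by
        simp only [b', sub_eq_add_neg, Ext.add_comp, Ext.neg_comp, Ext.comp_assoc_of_third_deg_zero, Ext.mk₀_comp_mk₀, c.w]
        rw [← Ext.comp_assoc_of_third_deg_zero (Ext.mk₀ S.f)] at hγ
        simp only [Ext.comp_assoc_of_third_deg_zero] at hγ
        rw [hγ, add_neg_cancel]
      obtain ⟨j', g, hg⟩ := ihz k b' hb'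
      refine ⟨j', u ≫ g, ?_⟩
      simp only [b', sub_eq_add_neg, Ext.add_comp, Ext.neg_comp, Ext.comp_assoc_of_third_deg_zero, Ext.mk₀_comp_mk₀,
        ← Functor.map_comp] at hg
      replace hg := eq_of_sub_eq_zero ((sub_eq_add_neg _ _).trans hg)
      rw [Ext.comp_assoc _ _ _ (Nat.add_comm 1 n) (add_zero n) (by omega), hg,
        hS.extClass_comp_assoc]

omit [IsNoetherianRing R] in
/-- A functor commuting with a colimit on elements preserves it. -/
lemma isColimit_of_elementwise {T : ModuleCat.{u} R ⥤ ModuleCat.{u} R}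
    (h₁ : ∀ x : T.obj c.pt, ∃ (j : J) (y : T.obj (F.obj j)), (T.map (c.ι.app j)).hom y = x)
    (h₂ : ∀ (j : J) (y : T.obj (F.obj j)), (T.map (c.ι.app j)).hom y = 0 →
      ∃ (j' : J) (g : j ⟶ j'), (T.map (F.map g)).hom y = 0) :
    Nonempty (IsColimit (T.mapCocone c)) := by
  let t := colimit.cocone (F ⋙ T)
  let d := (colimit.isColimit (F ⋙ T)).desc (T.mapCocone c)
  have hd : Function.Bijective d.hom := by
    have fac : ∀ j (y : T.obj (F.obj j)), d.hom ((t.ι.app j).hom y) = (T.map (c.ι.app j)).hom y :=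
      fun j y => ConcreteCategory.congr_hom ((colimit.isColimit (F ⋙ T)).fac (T.mapCocone c) j) y
    constructor
    · rw [injective_iff_map_eq_zero]
      intro x hx
      obtain ⟨j, y, rfl⟩ := Concrete.isColimit_exists_rep _ (colimit.isColimit (F ⋙ T)) x
      obtain ⟨j', g, hg⟩ := h₂ j y ((fac j y).symm.trans hx)
      exact (ConcreteCategory.congr_hom (t.w g) y).symm.trans
        ((congrArg (t.ι.app j').hom hg).trans (map_zero _))
    · intro x
      obtain ⟨j, y, rfl⟩ := h₁ x
      exact ⟨(t.ι.app j).hom y, fac j y⟩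
  have : IsIso d := (ConcreteCategory.isIso_iff_bijective d).2 hd
  exact ⟨IsColimit.ofIsoColimit (colimit.isColimit (F ⋙ T))
    (Cocone.ext (asIso d) fun j => (colimit.isColimit (F ⋙ T)).fac (T.mapCocone c) j)⟩

/-- `colimExt` of a system of finite modules preserves filtered colimits. -/
theorem colimExt_preservesColimitsOfShape (G : ℕᵒᵖᵒᵖ ⥤ (ModuleCat.{u} R)ᵒᵖ)
    [∀ k, Module.Finite R (G.obj k).unop] (n : ℕ) :
    PreservesColimitsOfShape J (colimExt G n) := by
  refine ⟨fun {F} => ⟨fun {c} hc => isColimit_of_elementwise ?_ ?_⟩⟩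
  · intro x
    obtain ⟨k, α, rfl⟩ := colimExt.exists_rep G n _ x
    obtain ⟨j, β, rfl⟩ := (ext_filtered hc n (G.obj k).unop inferInstance).1 α
    exact ⟨j, (colimExt.ι G n k _).hom β, colimExt.map_ι_apply G n k _ β⟩
  · intro j y hy
    obtain ⟨k, α, rfl⟩ := colimExt.exists_rep G n _ y
    rw [colimExt.map_ι_apply, colimExt.ι_eq_zero_iff] at hy
    obtain ⟨k', g, e⟩ := hy
    rw [← Abelian.Ext.comp_assoc_of_third_deg_zero] at e
    obtain ⟨j', u, hu⟩ := (ext_filtered hc n (G.obj k').unop inferInstance).2 j _ e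
    refine ⟨j', u, ?_⟩
    rw [colimExt.map_ι_apply, colimExt.ι_eq_zero_iff]
    exact ⟨k', g, by rw [← Abelian.Ext.comp_assoc_of_third_deg_zero, hu]⟩

instance finite_quotSys (I : Ideal R) (k : ℕᵒᵖᵒᵖ) : Module.Finite R ((quotSys I).obj k).unop :=
  inferInstanceAs (Module.Finite R (R ⧸ I ^ k.unop.unop))

instance finite_powSys (I : Ideal R) (k : ℕᵒᵖᵒᵖ) : Module.Finite R ((powSys I).obj k).unop :=
  inferInstanceAs (Module.Finite R (I ^ k.unop.unop : Ideal R))

/-- Local cohomology over a Noetherian ring preserves filtered colimits. -/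
theorem lc_preservesColimitsOfShape (I : Ideal R) (i : ℕ) :
    PreservesColimitsOfShape J (localCohomology I i) :=
  have := colimExt_preservesColimitsOfShape (J := J) (quotSys I) i
  preservesColimitsOfShape_of_natIso (lcIso I i).symm

/-- The torsion functor over a Noetherian ring preserves filtered colimits. -/
theorem gammaI_preservesColimitsOfShape (I : Ideal R) :
    PreservesColimitsOfShape J (DRing.gammaI I) :=
  have := colimExt_preservesColimitsOfShape (J := J) (quotSys I) 0
  preservesColimitsOfShape_of_natIso (gammaIso I)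

/-- The ideal transform over a Noetherian ring preserves filtered colimits. -/
theorem transform_preservesColimitsOfShape (I : Ideal R) :
    PreservesColimitsOfShape J (LocCoh.idealTransform I) :=
  have := colimExt_preservesColimitsOfShape (J := J) (powSys I) 0
  preservesColimitsOfShape_of_natIso (transformIso I).symm

end Groth.Agent.Lib.LocalCoh
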