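import Groth.Agent.Lib.LocalCoh.Acyclic
import Mathlib.RingTheory.Flat.Basic
import Mathlib.RingTheory.TensorProduct.Basic
import Mathlib.LinearAlgebra.TensorProduct.RightExactness
import Mathlib.LinearAlgebra.TensorProduct.Tower

/-!
# Base change of injective modules along flat maps is acyclic
-/

universe u

open CategoryTheory CategoryTheory.Limits Opposite TensorProduct

namespace Groth.Agent.Lib.LocalCoh

variable {R : Type u} [CommRing R] (R' : Type u) [CommRing R'] [Algebra R R']

/-- Base change of a module. -/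
noncomputable abbrev bcObj (E : ModuleCat.{u} R) : ModuleCat.{u} R' :=
  ModuleCat.of R' (R' ⊗[R] E)

variable {R'} in
lemma smul_baseChange_eq (E : Type u) [AddCommGroup E] [Module R E] (b : R) (x : R' ⊗[R] E) :
    algebraMap R R' b • x = ((b • LinearMap.id : E →ₗ[R] E).baseChange R') x := by
  induction x with
  | zero => simp
  | add x y hx hy => simp only [smul_add, map_add, hx, hy]
  | tmul r e => simp [algebraMap_smul, TensorProduct.smul_tmul']

variable [IsNoetherianRing R] [IsNoetherianRing R']

/-- Base change along a flat map of an injective module is acyclic for the extended ideal. -/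
theorem lc_subsingleton_baseChange [Module.Flat R R'] (I : Ideal R) (E : ModuleCat.{u} R)
    [CategoryTheory.Injective E] (i : ℕ) :
    Subsingleton ((localCohomology (I.map (algebraMap R R')) (i + 1)).obj (bcObj R' E)) := by
  classical
  obtain ⟨s, rfl⟩ := IsNoetherian.noetherian I
  rw [Ideal.map_span, ← Finset.coe_image]
  refine lc_subsingleton_of_decomposition
    (fun M => ∃ E : ModuleCat.{u} R, CategoryTheory.Injective E ∧ bcObj R' E = M)
    (Set.range (algebraMap R R')) (fun b' hb' M hM => ?_) (s.image (algebraMap R R'))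
    (by simp [Set.image_subset_range]) i _ ⟨E, inferInstance, rfl⟩
  obtain ⟨b, rfl⟩ := hb'
  obtain ⟨E, hE, rfl⟩ := hM
  have := (Module.injective_iff_injective_object R E).2 hE
  let Γ := DRing.torsionSub (Ideal.span {b}) E
  let T : ShortComplex (ModuleCat.{u} R') := ShortComplex.mk
    (ModuleCat.ofHom (Γ.subtype.baseChange R')) (ModuleCat.ofHom (Γ.mkQ.baseChange R'))
    (ModuleCat.hom_ext (by
      show (Γ.mkQ.baseChange R') ∘ₗ (Γ.subtype.baseChange R') = 0
      rw [← LinearMap.baseChange_comp, (LinearMap.exact_subtype_mkQ Γ).linearMap_comp_eq_zero,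
        LinearMap.baseChange_zero]))
  have hT : T.ShortExact :=
    { exact := (ShortComplex.ShortExact.moduleCat_exact_iff_function_exact _).2
        (lTensor_exact R' (LinearMap.exact_subtype_mkQ Γ) (Submodule.mkQ_surjective Γ))
      mono_f := (ModuleCat.mono_iff_injective _).2
        (Module.Flat.lTensor_preserves_injective_linearMap _ Γ.injective_subtype)
      epi_g := (ModuleCat.epi_iff_surjective _).2
        (LinearMap.lTensor_surjective R' (Submodule.mkQ_surjective Γ)) }
  refine ⟨T, hT, rfl, ⟨(DRing.gammaI (Ideal.span {b})).obj E, injective_gammaI_obj _ E, rfl⟩,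
    ?_, ?_⟩
  · intro (x : R' ⊗[R] Γ)
    have hpow : ∀ n (y : R' ⊗[R] Γ), algebraMap R R' b ^ n • y = 0 →
        ∀ a ∈ Ideal.span {algebraMap R R' b} ^ n, a • y = 0 := fun n y hy a ha => by
      rw [Ideal.span_singleton_pow, Ideal.mem_span_singleton'] at ha
      obtain ⟨c, rfl⟩ := ha
      rw [mul_smul, hy, smul_zero]
    suffices h : ∃ n, algebraMap R R' b ^ n • (x : R' ⊗[R] Γ) = 0 by
      obtain ⟨n, hn⟩ := h
      exact ⟨n, hpow n x hn⟩
    induction x with
    | zero => exact ⟨0, smul_zero _⟩
    | add y z hy hz =>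
      obtain ⟨n, hn⟩ := hy
      obtain ⟨m, hm⟩ := hz
      refine ⟨n + m, ?_⟩
      rw [smul_add, pow_add, mul_smul, mul_smul, hm, smul_zero, smul_comm, hn, smul_zero, add_zero]
    | tmul r e =>
      obtain ⟨n, hn⟩ := e.2
      refine ⟨n, ?_⟩
      rw [← map_pow, algebraMap_smul, ← TensorProduct.tmul_smul]
      have : b ^ n • e = 0 :=
        Subtype.ext (hn _ (Ideal.pow_mem_pow (Ideal.mem_span_singleton_self b) n))
      rw [this, TensorProduct.tmul_zero]
  · let q : (E ⧸ Γ) ≃ₗ[R] (E ⧸ Γ) := LinearEquiv.ofBijective (b • LinearMap.id)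
      (smul_bijective_quotient_torsionSub E b)
    convert (LinearEquiv.baseChange R R' _ _ q).bijective using 1
    funext x
    exact smul_baseChange_eq (E ⧸ Γ) b x

end Groth.Agent.Lib.LocalCoh
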