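import Groth.Agent.Lib.LocalCoh.Basic
import Groth.Prelude.Def_DualLC

/-!
# The comparison maps `H_{I'} ⟶ H_I` and their compatibility with resolutions
-/

universe u w

open CategoryTheory CategoryTheory.Limits Opposite

namespace Groth.Agent.Lib.LocalCoh

namespace DeltaSeq

variable {C : Type*} [Category C] [Abelian C] {R : Type w} [Ring R]
  {T T' : ℕ → (C ⥤ ModuleCat.{u} R)}

/-- A morphism of connected sequences. -/
structure Hom (h : DeltaSeq T) (h' : DeltaSeq T') where
  app : ∀ n, T n ⟶ T' n
  comm : ∀ {S : ShortComplex C} (hS : S.ShortExact) (n : ℕ),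
    h.δ hS n ≫ (app (n + 1)).app S.X₁ = (app n).app S.X₃ ≫ h'.δ hS n

variable [∀ n, (T n).Additive] [∀ n, (T' n).Additive]

namespace AcRes

variable {M : C}

/-- The same resolution, for another sequence. -/
abbrev retarget (A : AcRes T M) (hA : ∀ n k, Subsingleton ((T' (k + 1)).obj (A.J.X n))) :
    AcRes T' M :=
  { J := A.J, ι := A.ι, w := A.w, mono_ι := A.mono_ι, exact_zero := A.exact_zero,
    exact_succ := A.exact_succ, acyclic := hA }

variable (A : AcRes T M) (hA : ∀ n k, Subsingleton ((T' (k + 1)).obj (A.J.X n)))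
  {h : DeltaSeq T} {h' : DeltaSeq T'} (η : DeltaSeq.Hom h h')

lemma D_retarget : ∀ (n k m : ℕ) (hm : k + n = m),
    (η.app k).app (A.Z n) ≫ (A.retarget hA).D h' n k m hm =
      A.D h n k m hm ≫ (η.app m).app (A.Z 0)
  | 0, k, m, hm => by
    subst hm
    exact (Category.comp_id _).trans (Category.id_comp _).symm
  | n + 1, k, m, hm => by
    show (η.app k).app (A.Z (n + 1)) ≫ h'.δ (A.shortExact_S n) k ≫ (A.retarget hA).D h' n (k + 1) m _ =
      (h.δ (A.shortExact_S n) k ≫ A.D h n (k + 1) m _) ≫ (η.app m).app (A.Z 0)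
    exact (Category.assoc _ _ _).symm.trans
      (((congrArg (· ≫ (A.retarget hA).D h' n (k + 1) m _) (η.comm (A.shortExact_S n) k)).symm).trans
        ((Category.assoc _ _ _).trans
          ((congrArg (h.δ (A.shortExact_S n) k ≫ ·) (D_retarget n (k + 1) m (by omega))).trans
            (Category.assoc _ _ _).symm)))

lemma π_retarget (n : ℕ) :
    (η.app 0).app (A.Z n) ≫ (A.retarget hA).π h' n = A.π h n ≫ (η.app n).app M := by
  show (η.app 0).app (A.Z n) ≫ (A.retarget hA).D h' n 0 n _ ≫
      (T' n).map (inv (A.retarget hA).e) =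
    (A.D h n 0 n _ ≫ (T n).map (inv A.e)) ≫ (η.app n).app M
  exact (Category.assoc _ _ _).symm.trans
    ((congrArg (· ≫ (T' n).map (inv (A.retarget hA).e)) (A.D_retarget hA η n 0 n (by omega))).trans
      ((Category.assoc _ _ _).trans
        ((congrArg (A.D h n 0 n _ ≫ ·) ((η.app n).naturality (inv A.e)).symm).trans
          (Category.assoc _ _ _).symm)))

set_option backward.isDefEq.respectTransparency false in
lemma homologyIso_retarget (n : ℕ) :
    HomologicalComplex.homologyMap
        ((NatTrans.mapHomologicalComplex (η.app 0) (ComplexShape.up ℕ)).app A.J) n ≫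
        ((A.retarget hA).homologyIso h' n).hom =
      (A.homologyIso h n).hom ≫ (η.app n).app M := by
  set Φ := (NatTrans.mapHomologicalComplex (η.app 0) (ComplexShape.up ℕ)).app A.J
  let χ := (HomologicalComplex.shortComplexFunctor' (ModuleCat.{u} R) _ (n - 1) n (n + 1)).map Φ
  let γ : ShortComplex.LeftHomologyMapData χ (A.leftHomologyData h n)
      ((A.retarget hA).leftHomologyData h' n) :=
    { φK := (η.app 0).app (A.Z n)
      φH := (η.app n).app M
      commi := ((η.app 0).naturality (A.i n)).symm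
      commf' := by
        rw [← cancel_mono ((A.retarget hA).leftHomologyData h' n).i, Category.assoc, Category.assoc,
          ((A.retarget hA).leftHomologyData h' n).f'_i]
        change (A.leftHomologyData h n).f' ≫ ((η.app 0).app (A.Z n) ≫ (T' 0).map (A.i n)) = _
        rw [← (η.app 0).naturality]
        change (A.leftHomologyData h n).f' ≫ (A.leftHomologyData h n).i ≫ χ.τ₂ = _
        rw [ShortComplex.LeftHomologyData.f'_i_assoc]
        exact χ.comm₁₂.symm
      commπ := (A.π_retarget hA η n).symm }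
  have h1 := γ.homologyMap_comm
  have h2 : HomologicalComplex.homologyMap Φ n ≫
      ((A.retarget hA).cx.homologyIsoSc' (n - 1) n (n + 1) (by cases n <;> simp) (by simp)).hom =
      (A.cx.homologyIsoSc' (n - 1) n (n + 1) (by cases n <;> simp) (by simp)).hom ≫
        ShortComplex.homologyMap χ := by
    have e : (HomologicalComplex.shortComplexFunctor (ModuleCat.{u} R) (ComplexShape.up ℕ) n).map Φ ≫
        ((A.retarget hA).cx.isoSc' (n - 1) n (n + 1) (by cases n <;> simp) (by simp)).hom =
        (A.cx.isoSc' (n - 1) n (n + 1) (by cases n <;> simp) (by simp)).hom ≫ χ :=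
      (HomologicalComplex.natIsoSc' (ModuleCat.{u} R) (ComplexShape.up ℕ) (n - 1) n (n + 1)
        (by cases n <;> simp) (by simp)).hom.naturality Φ
    refine ((ShortComplex.homologyMap_comp _ _).symm.trans ?_).trans
      (ShortComplex.homologyMap_comp _ _)
    rw [e]
  simp only [homologyIso, Iso.trans_hom, Category.assoc]
  rw [← Category.assoc, h2, Category.assoc, h1]

end AcRes

end DeltaSeq

variable {R : Type u} [CommRing R] {G G' : ℕᵒᵖᵒᵖ ⥤ (ModuleCat.{u} R)ᵒᵖ}

/-- Functoriality of `colimExt` in the system. -/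
noncomputable def colimExtMap (θ : G ⟶ G') (n : ℕ) : colimExt G n ⟶ colimExt G' n :=
  colimMap (Functor.whiskerRight θ (extE R n))

lemma colimExtMap_ι_apply (θ : G ⟶ G') (n : ℕ) (k : ℕᵒᵖᵒᵖ) (M : ModuleCat.{u} R)
    (α : Abelian.Ext.{u} (G.obj k).unop M n) :
    ((colimExtMap θ n).app M).hom ((colimExt.ι G n k M).hom α) =
      (colimExt.ι G' n k M).hom ((Abelian.Ext.mk₀ (θ.app k).unop).comp α (zero_add n)) := by
  have h : colimit.ι (G ⋙ extE R n) k ≫ colimExtMap θ n = _ := ι_colimMap _ k
  exact ConcreteCategory.congr_hom (congrArg (fun t => NatTrans.app t M) h) α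

/-- Functoriality of `colimExt` is compatible with connecting maps. -/
noncomputable def colimExtHom (θ : G ⟶ G') :
    DeltaSeq.Hom (colimExt.deltaSeq G) (colimExt.deltaSeq G') where
  app n := colimExtMap θ n
  comm {S} hS n := by
    refine colimExt.hom_ext G fun k => ?_
    ext α
    show ((colimExtMap θ (n + 1)).app S.X₁).hom ((colimExt.δ G hS n).hom
        ((colimExt.ι G n k S.X₃).hom α)) =
      (colimExt.δ G' hS n).hom (((colimExtMap θ n).app S.X₃).hom ((colimExt.ι G n k S.X₃).hom α))
    refine ((congrArg ((colimExtMap θ (n + 1)).app S.X₁).hom (colimExt.δ_ι_apply G hS n k α)).trans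
      ((colimExtMap_ι_apply θ (n + 1) k S.X₁ _).trans ?_)).trans
      ((congrArg (colimExt.δ G' hS n).hom (colimExtMap_ι_apply θ n k S.X₃ α)).trans
        (colimExt.δ_ι_apply G' hS n k _)).symm
    exact (congrArg (colimExt.ι G' (n + 1) k S.X₁).hom
      (Abelian.Ext.comp_assoc _ _ _ (zero_add n) rfl (by omega))).symm

variable {I I' : Ideal R} (hI : I ≤ I')

/-- The map of systems inducing `HmapOfLE`. -/
noncomputable abbrev quotSysMap : quotSys I' ⟶ quotSys I :=
  NatTrans.op (Dual2.quotMapOfLE hI)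

lemma colimMap_conj {J : Type*} [Category J] {D : Type*} [Category D] {F F' G G' : J ⥤ D}
    [HasColimit F] [HasColimit F'] [HasColimit G] [HasColimit G'] (a : F ≅ G) (b : F' ≅ G')
    (φ : F ⟶ F') (ψ : G ⟶ G') (h : φ ≫ b.hom = a.hom ≫ ψ) :
    colimMap φ =
      (HasColimit.isoOfNatIso a).hom ≫ colimMap ψ ≫ (HasColimit.isoOfNatIso b).inv := by
  rw [← Category.assoc, Iso.eq_comp_inv]
  apply colimit.hom_ext
  intro k
  rw [ι_colimMap_assoc, HasColimit.isoOfNatIso_ι_hom, HasColimit.isoOfNatIso_ι_hom_assoc,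
    ι_colimMap, ← Category.assoc, ← Category.assoc, ← NatTrans.comp_app, h, NatTrans.comp_app]

lemma HmapOfLE_eq (i : ℕ) :
    Dual2.HmapOfLE hI i = (lcIso I' i).hom ≫ colimExtMap (quotSysMap hI) i ≫ (lcIso I i).inv :=
  colimMap_conj (Functor.isoWhiskerLeft (quotSys I') (extIso R i))
    (Functor.isoWhiskerLeft (quotSys I) (extIso R i))
    (Functor.whiskerRight (quotSysMap hI) (Ext R (ModuleCat.{u} R) i))
    (Functor.whiskerRight (quotSysMap hI) (extE R i))
    (NatTrans.ext (funext fun _ => (extIso R i).hom.naturality _))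

/-- `HmapOfLE` is a morphism of connected sequences. -/
noncomputable def HmapHom : DeltaSeq.Hom (lcDeltaSeq I') (lcDeltaSeq I) where
  app n := Dual2.HmapOfLE hI n
  comm {S} hS n := by
    have h := (colimExtHom (quotSysMap hI)).comm hS n
    show ((lcIso I' n).hom.app _ ≫ (colimExt.deltaSeq (quotSys I')).δ hS n ≫
        (lcIso I' (n + 1)).inv.app _) ≫ (Dual2.HmapOfLE hI (n + 1)).app _ =
      (Dual2.HmapOfLE hI n).app _ ≫ (lcIso I n).hom.app _ ≫
        (colimExt.deltaSeq (quotSys I)).δ hS n ≫ (lcIso I (n + 1)).inv.app _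
    simp only [HmapOfLE_eq, NatTrans.comp_app, Category.assoc, Iso.inv_hom_id_app_assoc]
    exact congrArg ((lcIso I' n).hom.app S.X₃ ≫ ·)
      ((reassoc_of% h) ((lcIso I (n + 1)).inv.app S.X₁))

/-- The inclusion of torsion functors. -/
noncomputable def gammaIncl : DRing.gammaI I' ⟶ DRing.gammaI I where
  app N := ModuleCat.ofHom (Submodule.inclusion fun x hx => by
    obtain ⟨n, hn⟩ := hx
    exact ⟨n, fun a ha => hn a (Ideal.pow_right_mono hI n ha)⟩)
  naturality _ _ _ := rfl

lemma gammaIncl_apply (N : ModuleCat.{u} R) (x : (DRing.gammaI I').obj N) :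
    (((gammaIncl hI).app N).hom x).1 = x.1 := rfl

/-- In degree zero, `HmapOfLE` is the inclusion. -/
lemma HmapOfLE_zero_comp :
    Dual2.HmapOfLE hI 0 ≫ (lcZeroIso I).hom = (lcZeroIso I').hom ≫ gammaIncl hI := by
  have key : colimExtMap (quotSysMap hI) 0 ≫ (gammaIso I).hom =
      (gammaIso I').hom ≫ gammaIncl hI := by
    apply NatTrans.ext
    funext M
    refine colimExt.hom_ext _ fun k => ?_
    ext α
    apply Subtype.ext
    show (((toGamma I).app M).hom (((colimExtMap (quotSysMap hI) 0).app M).hom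
        ((colimExt.ι (quotSys I') 0 k M).hom α))).1 =
      (((gammaIncl hI).app M).hom (((toGamma I').app M).hom
        ((colimExt.ι (quotSys I') 0 k M).hom α))).1
    refine ((congrArg Subtype.val ((congrArg ((toGamma I).app M).hom
      (colimExtMap_ι_apply (quotSysMap hI) 0 k M α)).trans (toGamma_ι_apply I k M _))).trans ?_).trans
      (congrArg (fun z => (((gammaIncl hI).app M).hom z).1) (toGamma_ι_apply I' k M α)).symm
    rw [evalOne_apply]
    exact (congrArg (fun t => t.hom (gen I k))
      (e₀_mk₀_comp ((quotSysMap hI).app k).unop α)).trans rfl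
  simp only [lcZeroIso, Iso.trans_hom, HmapOfLE_eq, Category.assoc, Iso.inv_hom_id_assoc, key]

end Groth.Agent.Lib.LocalCoh
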