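import Groth.Agent.Lib.LocalCoh.Connecting
import Groth.Agent.Lib.LocalCoh.Torsion
import Groth.Agent.Lib.LocalCoh.Resolution
import Groth.Prelude.Def_W4bk5brsh16IT

/-!
# Ideal transforms
-/

universe u

open CategoryTheory CategoryTheory.Limits Opposite

namespace Groth.Agent.Lib.LocalCoh

set_option linter.unusedSectionVars false

variable {R : Type u} [CommRing R] (I : Ideal R)

/-- The structure maps of the ideal transform. -/
noncomputable def tι (k : ℕᵒᵖᵒᵖ) (M : ModuleCat.{u} R) (φ : ((powSys I).obj k).unop ⟶ M) :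
    (LocCoh.idealTransform I).obj M :=
  ((colimit.ι (LocCoh.transformDiagram I) k).app M).hom φ

/-- The comparison with `colimExt` at a module. -/
noncomputable def transformEquiv (M : ModuleCat.{u} R) :
    (LocCoh.idealTransform I).obj M ≃ₗ[R] (colimExt (powSys I) 0).obj M :=
  ((transformIso I).app M).toLinearEquiv

lemma transformEquiv_tι (k : ℕᵒᵖᵒᵖ) (M : ModuleCat.{u} R) (φ : ((powSys I).obj k).unop ⟶ M) :
    transformEquiv I M (tι I k M φ) =
      (colimExt.ι (powSys I) 0 k M).hom (Abelian.Ext.mk₀ φ) := by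
  have h : colimit.ι (LocCoh.transformDiagram I) k ≫ (transformIso I).hom = _ :=
    HasColimit.isoOfNatIso_ι_hom (F := LocCoh.transformDiagram I)
      (Functor.isoWhiskerLeft (powSys I) (extEZeroIso R).symm) k
  exact (ConcreteCategory.congr_hom (congrArg (fun t => NatTrans.app t M) h) φ).trans rfl

lemma exists_tι (M : ModuleCat.{u} R) (x : (LocCoh.idealTransform I).obj M) :
    ∃ k φ, tι I k M φ = x := by
  obtain ⟨k, α, hα⟩ := colimExt.exists_rep _ 0 M (transformEquiv I M x)
  obtain ⟨φ, rfl⟩ := exists_mk₀ α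
  exact ⟨k, φ, (transformEquiv I M).injective ((transformEquiv_tι I k M φ).trans hα)⟩

lemma tι_eq_zero_iff (k : ℕᵒᵖᵒᵖ) (M : ModuleCat.{u} R) (φ : ((powSys I).obj k).unop ⟶ M) :
    tι I k M φ = 0 ↔ ∃ (k' : ℕᵒᵖᵒᵖ) (g : k ⟶ k'), ((powSys I).map g).unop ≫ φ = 0 := by
  rw [← (transformEquiv I M).map_eq_zero_iff, transformEquiv_tι, colimExt.ι_eq_zero_iff]
  refine exists_congr fun k' => exists_congr fun g => ?_
  rw [Abelian.Ext.mk₀_comp_mk₀]
  exact ⟨fun h => (e₀_mk₀ _).symm.trans ((congrArg e₀ h).trans (map_zero _)),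
    fun h => by rw [h, Abelian.Ext.mk₀_zero]⟩

lemma tι_w {k k' : ℕᵒᵖᵒᵖ} (g : k ⟶ k') (M : ModuleCat.{u} R) (φ : ((powSys I).obj k).unop ⟶ M) :
    tι I k' M (((powSys I).map g).unop ≫ φ) = tι I k M φ :=
  ConcreteCategory.congr_hom
    (congrArg (fun t => NatTrans.app t M) (colimit.w (LocCoh.transformDiagram I) g)) φ

lemma map_tι (k : ℕᵒᵖᵒᵖ) {M N : ModuleCat.{u} R} (f : M ⟶ N)
    (φ : ((powSys I).obj k).unop ⟶ M) :
    ((LocCoh.idealTransform I).map f).hom (tι I k M φ) = tι I k N (φ ≫ f) :=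
  (ConcreteCategory.congr_hom ((colimit.ι (LocCoh.transformDiagram I) k).naturality f) φ).symm

/-- The restriction of `r ↦ r • m` to a power of the ideal. -/
noncomputable def smulMap (k : ℕᵒᵖᵒᵖ) (M : ModuleCat.{u} R) (m : M) :
    ((powSys I).obj k).unop ⟶ M :=
  (idealSeq I k).f ≫ ModuleCat.ofHom (LinearMap.toSpanSingleton R M m)

lemma toDT_eq_tι (M : ModuleCat.{u} R) (k : ℕᵒᵖᵒᵖ) (m : M) :
    LocCoh.toDT I M m = tι I k M (smulMap I k M m) := by
  have h0 : LocCoh.toDT I M m = tι I (op (op 0)) M (smulMap I (op (op 0)) M m) := by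
    show tι I (op (op 0)) M _ = _
    congr 1
  rw [h0, ← tι_w I (homOfLE (Nat.zero_le k.unop.unop)).op.op]
  rfl

lemma toDT_naturality {M N : ModuleCat.{u} R} (f : M ⟶ N) (m : M) :
    ((LocCoh.idealTransform I).map f).hom (LocCoh.toDT I M m) = LocCoh.toDT I N (f.hom m) := by
  rw [toDT_eq_tι I M (op (op 0)), toDT_eq_tι I N (op (op 0)), map_tι]
  congr 1
  ext r
  exact map_smul f.hom _ m

/-- The kernel of `M → D_I(M)` is the torsion submodule. -/
theorem ker_toDT (M : ModuleCat.{u} R) :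
    LinearMap.ker (LocCoh.toDT I M) = DRing.torsionSub I M := by
  ext m
  rw [LinearMap.mem_ker, toDT_eq_tι I M (op (op 0)), tι_eq_zero_iff]
  constructor
  · rintro ⟨k', g, h⟩
    exact ⟨k'.unop.unop, fun a ha => congrArg (fun t => t.hom ⟨a, ha⟩) h⟩
  · rintro ⟨n, hn⟩
    refine ⟨op (op n), (homOfLE (Nat.zero_le n)).op.op, ?_⟩
    ext r
    exact hn r.1 r.2

/-- The map `D_I ⟶ H¹_I`. -/
noncomputable def toH1 : LocCoh.idealTransform I ⟶ localCohomology I 1 :=
  (transformIso I).hom ≫ conn I 0 ≫ (lcIso I 1).inv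

lemma toH1_surjective (M : ModuleCat.{u} R) : Function.Surjective ((toH1 I).app M).hom := by
  simp only [toH1, NatTrans.comp_app, ModuleCat.hom_comp, LinearMap.coe_comp]
  exact ((((lcIso I 1).app M).symm.toLinearEquiv.surjective).comp (conn_surjective I 0 M)).comp
    (((transformIso I).app M).toLinearEquiv.surjective)

lemma ker_toH1 (M : ModuleCat.{u} R) :
    LinearMap.ker ((toH1 I).app M).hom = LinearMap.range (LocCoh.toDT I M) := by
  have hinj : Function.Injective ((lcIso I 1).inv.app M).hom :=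
    ((lcIso I 1).app M).symm.toLinearEquiv.injective
  have he : ∀ x, ((toH1 I).app M).hom x = 0 ↔
      ((conn I 0).app M).hom (transformEquiv I M x) = 0 := fun x =>
    map_eq_zero_iff _ hinj
  ext x
  rw [LinearMap.mem_ker, he]
  constructor
  · intro h
    obtain ⟨k, β, hβ⟩ := exists_of_conn_eq_zero I 0 M _ h
    obtain ⟨ψ, rfl⟩ := exists_mk₀ β
    refine ⟨ψ.hom (1 : R), (transformEquiv I M).injective ?_⟩
    rw [← hβ, toDT_eq_tι I M k, transformEquiv_tι, Abelian.Ext.mk₀_comp_mk₀]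
    congr 2
    unfold smulMap
    congr 1
    ext
    exact one_smul R _
  · rintro ⟨m, rfl⟩
    rw [toDT_eq_tι I M (op (op 0)), transformEquiv_tι, conn_ι_apply, smulMap,
      ← Abelian.Ext.mk₀_comp_mk₀, ← Abelian.Ext.comp_assoc _ _ _ (add_zero 1) (zero_add 0)
        (by omega : 1 + 0 + 0 = 0 + 1), (idealSeq_shortExact I _).extClass_comp,
      Abelian.Ext.zero_comp]
    exact map_zero _

/-- `H¹_I(M)` is the cokernel of `M → D_I(M)`. -/
noncomputable def cokerToDTEquiv (M : ModuleCat.{u} R) :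
    ((LocCoh.idealTransform I).obj M ⧸ LinearMap.range (LocCoh.toDT I M)) ≃ₗ[R]
      (localCohomology I 1).obj M :=
  (Submodule.quotEquivOfEq _ _ (ker_toH1 I M).symm).trans
    (LinearMap.quotKerEquivOfSurjective _ (toH1_surjective I M))

/-- The ideal transform is the zeroth term of an exact connected sequence. -/
noncomputable def transformDeltaSeq :
    DeltaSeq (fun n => Nat.casesOn n (LocCoh.idealTransform I)
      (fun m => colimExt (powSys I) (m + 1))) :=
  (colimExt.deltaSeq (powSys I)).ofIso fun n =>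
    Nat.casesOn n (transformIso I).symm (fun _ => Iso.refl _)

lemma map_injective {S : ShortComplex (ModuleCat.{u} R)} (hS : S.ShortExact) :
    Function.Injective ((LocCoh.idealTransform I).map S.f).hom :=
  (transformDeltaSeq I).mono₀ hS

lemma map_exact {S : ShortComplex (ModuleCat.{u} R)} (hS : S.ShortExact) :
    Function.Exact ((LocCoh.idealTransform I).map S.f).hom
      ((LocCoh.idealTransform I).map S.g).hom :=
  (transformDeltaSeq I).exact₂ hS 0

variable [IsNoetherianRing R]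

/-- The ideal transform is torsion-free. -/
theorem torsionSub_transform (M : ModuleCat.{u} R) :
    DRing.torsionSub I ((LocCoh.idealTransform I).obj M) = ⊥ := by
  rw [Submodule.eq_bot_iff]
  rintro x ⟨m, hm⟩
  obtain ⟨k, φ, rfl⟩ := exists_tι I M x
  obtain ⟨s, hs⟩ := IsNoetherian.noetherian (I ^ m)
  have hk : ∀ a : s, ∃ k' : ℕ, ∀ r : ((powSys I).obj k).unop, r.1 ∈ I ^ k' →
      (a : R) • φ.hom r = 0 := by
    intro a
    have h := hm a (hs ▸ Submodule.subset_span a.2)
    have h' : (a : R) • tι I k M φ = tι I k M ((a : R) • φ) :=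
      (map_smul ((colimit.ι (LocCoh.transformDiagram I) k).app M).hom (a : R) φ).symm
    rw [h', tι_eq_zero_iff] at h
    obtain ⟨k', g, e⟩ := h
    exact ⟨k'.unop.unop, fun r hr => congrArg (fun t => t.hom ⟨r.1, hr⟩) e⟩
  choose k' hk' using hk
  let N := Finset.univ.sup k' + k.unop.unop
  rw [tι_eq_zero_iff]
  refine ⟨op (op (m + N)), (homOfLE (show k.unop.unop ≤ m + N by omega)).op.op, ?_⟩
  ext ⟨r, hr⟩
  show φ.hom ⟨r, _⟩ = 0
  have hr' : r ∈ I ^ m * I ^ N := by rw [← pow_add]; exact hr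
  let C : R → Prop := fun z => ∃ hh : z ∈ I ^ k.unop.unop,
    φ.hom (⟨z, hh⟩ : ((powSys I).obj k).unop) = 0
  suffices h : C r from h.2
  refine Submodule.mul_induction_on (C := C) hr' (fun a ha b hb => ?_) (fun y z hy hz => ?_)
  · have hb' : b ∈ I ^ k.unop.unop := Ideal.pow_le_pow_right (Nat.le_add_left _ _) hb
    let bb : ((powSys I).obj k).unop := ⟨b, hb'⟩
    refine ⟨Ideal.mul_mem_left _ _ hb', ?_⟩
    refine (map_smul φ.hom a bb).trans ?_
    rw [← hs] at ha
    induction ha using Submodule.span_induction with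
    | mem z hz =>
      exact hk' ⟨z, hz⟩ bb (Ideal.pow_le_pow_right
        ((Finset.le_sup (Finset.mem_univ _)).trans (Nat.le_add_right _ _)) hb)
    | zero => exact zero_smul _ _
    | add u v _ _ hu hv => rw [add_smul, hu, hv, add_zero]
    | smul c u _ hu => rw [smul_eq_mul, mul_smul, hu, smul_zero]
  · obtain ⟨hy1, hy2⟩ := hy
    obtain ⟨hz1, hz2⟩ := hz
    refine ⟨Ideal.add_mem _ hy1 hz1, ?_⟩
    exact (map_add φ.hom ⟨y, hy1⟩ ⟨z, hz1⟩).trans ((congrArg₂ (· + ·) hy2 hz2).trans (add_zero _))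

/-- The ideal transform of a torsion module vanishes. -/
theorem transform_subsingleton (M : ModuleCat.{u} R) (hM : LocCoh.IsPowerTorsion I M) :
    Subsingleton ((LocCoh.idealTransform I).obj M) := by
  have := lc_subsingleton_of_isPowerTorsion I 0 M hM
  refine subsingleton_of_forall_eq 0 fun x => ?_
  have hx : x ∈ LinearMap.range (LocCoh.toDT I M) := by
    rw [← ker_toH1]; exact Subsingleton.elim _ _
  obtain ⟨m, rfl⟩ := hx
  rw [← LinearMap.mem_ker, ker_toDT]
  exact hM m

end Groth.Agent.Lib.LocalCoh
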