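import Groth.Prelude.Def_DualLC
import Mathlib.RingTheory.Length
import Mathlib.RingTheory.Flat.EquationalCriterion

/-!
# Independent sequences
-/

universe u

open Function

namespace Groth.Agent.Lib.LocalCoh.Independent

variable {A : Type u} [CommRing A] {r : ℕ}

lemma span_update_mul_le (f : Fin r → A) (k : Fin r) (g : A) :
    Ideal.span (Set.range (update f k (f k * g))) ≤ Ideal.span (Set.range f) := by
  rw [Ideal.span_le]
  rintro _ ⟨i, rfl⟩
  rcases eq_or_ne i k with rfl | hi
  · simp only [update_self]
    exact Ideal.mul_mem_right _ _ (Ideal.subset_span ⟨i, rfl⟩)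
  · rw [update_of_ne hi]
    exact Ideal.subset_span ⟨i, rfl⟩

lemma relation_update {f : Fin r → A} {k : Fin r} {g : A} {a : Fin r → A}
    (ha : ∑ i, a i * f i = 0) :
    ∑ i, update (g • a) k (a k) i * update f k (f k * g) i = 0 := by
  have : ∀ i, update (g • a) k (a k) i * update f k (f k * g) i = g * (a i * f i) := by
    intro i
    rcases eq_or_ne i k with rfl | hi
    · simp only [update_self]; ring
    · simp only [update_of_ne hi, Pi.smul_apply, smul_eq_mul]; ring
  rw [Finset.sum_congr rfl fun i _ => this i, ← Finset.mul_sum, ha, mul_zero]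

lemma apply_mem_of_relation {f : Fin r → A} {k : Fin r} {g : A}
    (h : Dual2.Independent (update f k (f k * g))) {a : Fin r → A} (ha : ∑ i, a i * f i = 0) :
    a k ∈ Ideal.span (Set.range (update f k (f k * g))) := by
  simpa using h _ (relation_update (k := k) (g := g) ha) k

theorem independent_of_update_mul (f : Fin r → A) (k : Fin r) (g : A)
    (h : Dual2.Independent (update f k (f k * g))) : Dual2.Independent f := by
  intro a ha i
  have hak := apply_mem_of_relation h ha
  rcases eq_or_ne i k with rfl | hik
  · exact span_update_mul_le f i g hak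
  obtain ⟨c, hc⟩ := Submodule.mem_span_range_iff_exists_fun A |>.1 hak
  simp only [smul_eq_mul] at hc
  let e : Fin r → A := update (fun j => a j + c j * f k) k (c k * f k)
  have he : ∑ j, e j * update f k (f k * g) j = 0 := by
    have : ∀ j, e j * update f k (f k * g) j =
        a j * f j + f k * (c j * update f k (f k * g) j) -
          (if j = k then a k * f k else 0) := by
      intro j
      rcases eq_or_ne j k with rfl | hj
      · simp only [e, update_self, if_true]; ring
      · simp only [e, update_of_ne hj, if_neg hj]; ring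
    rw [Finset.sum_congr rfl fun j _ => this j, Finset.sum_sub_distrib, Finset.sum_add_distrib,
      ← Finset.mul_sum, ha, hc, Finset.sum_ite_eq', if_pos (Finset.mem_univ k)]
    ring
  have h1 := span_update_mul_le f k g (h e he i)
  simp only [e, update_of_ne hik] at h1
  have h2 : c i * f k ∈ Ideal.span (Set.range f) := Ideal.mul_mem_left _ _ (Ideal.subset_span ⟨k, rfl⟩)
  simpa using Ideal.sub_mem _ h1 h2

theorem length_update_mul (f : Fin r → A) (k : Fin r) (g : A)
    (h : Dual2.Independent (update f k (f k * g))) :
    Module.length A (A ⧸ Ideal.span (Set.range (update f k (f k * g)))) =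
      Module.length A (A ⧸ Ideal.span (Set.range f)) +
        Module.length A (A ⧸ Ideal.span (Set.range (update f k g))) := by
  set I := Ideal.span (Set.range f)
  set I' := Ideal.span (Set.range (update f k (f k * g)))
  set Ig := Ideal.span (Set.range (update f k g))
  have hI'g : I' ≤ Ig := by
    rw [Ideal.span_le]
    rintro _ ⟨i, rfl⟩
    rcases eq_or_ne i k with rfl | hi
    · rw [update_self]
      exact Ideal.mul_mem_left _ _ (Ideal.subset_span ⟨i, update_self i g f⟩)
    · rw [update_of_ne hi]
      exact Ideal.subset_span ⟨i, update_of_ne hi g f⟩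
  have hle : ∀ x ∈ Ig, f k * x ∈ I' := by
    intro x hx
    induction hx using Submodule.span_induction with
    | mem y hy =>
      obtain ⟨i, rfl⟩ := hy
      rcases eq_or_ne i k with rfl | hi
      · rw [update_self]; exact Ideal.subset_span ⟨i, update_self i _ f⟩
      · rw [update_of_ne hi]
        exact Ideal.mul_mem_left _ _ (Ideal.subset_span ⟨i, update_of_ne hi _ f⟩)
    | zero => simp
    | add x y _ _ hx hy => rw [mul_add]; exact add_mem hx hy
    | smul s x _ hx => rw [smul_eq_mul, mul_left_comm]; exact Ideal.mul_mem_left _ _ hx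
  let φ : (A ⧸ Ig) →ₗ[A] A ⧸ I' :=
    Submodule.mapQ Ig I' (LinearMap.mulLeft A (f k)) (fun x hx => hle x hx)
  let ψ : (A ⧸ I') →ₗ[A] A ⧸ I := Submodule.factor (span_update_mul_le f k g)
  have hφ : Function.Injective φ := by
    rw [injective_iff_map_eq_zero]
    intro x hx
    obtain ⟨x, rfl⟩ := Submodule.Quotient.mk_surjective _ x
    change Submodule.Quotient.mk (f k * x) = (0 : A ⧸ I') at hx
    rw [Submodule.Quotient.mk_eq_zero] at hx
    rw [Submodule.Quotient.mk_eq_zero]
    obtain ⟨c, hc⟩ := Submodule.mem_span_range_iff_exists_fun A |>.1 hx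
    simp only [smul_eq_mul] at hc
    let a : Fin r → A := update c k (c k * g - x)
    have ha : ∑ j, a j * f j = 0 := by
      have : ∀ j, a j * f j = c j * update f k (f k * g) j - (if j = k then f k * x else 0) := by
        intro j
        rcases eq_or_ne j k with rfl | hj
        · simp only [a, update_self, if_true]; ring
        · simp only [a, update_of_ne hj, if_neg hj]; ring
      rw [Finset.sum_congr rfl fun j _ => this j, Finset.sum_sub_distrib, hc, Finset.sum_ite_eq',
        if_pos (Finset.mem_univ k), sub_self]
    have h1 := hI'g (apply_mem_of_relation h ha)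
    simp only [a, update_self] at h1
    have h2 : c k * g ∈ Ig := Ideal.mul_mem_left _ _ (Ideal.subset_span ⟨k, update_self k g f⟩)
    simpa using Ideal.sub_mem _ h2 h1
  have hψ : Function.Surjective ψ := Submodule.factor_surjective _
  have hex : Function.Exact φ ψ := by
    intro z
    obtain ⟨z, rfl⟩ := Submodule.Quotient.mk_surjective _ z
    change Submodule.Quotient.mk z = (0 : A ⧸ I) ↔ _
    rw [Submodule.Quotient.mk_eq_zero]
    constructor
    · intro hz
      obtain ⟨c, hc⟩ := Submodule.mem_span_range_iff_exists_fun A |>.1 hz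
      simp only [smul_eq_mul] at hc
      refine ⟨Submodule.Quotient.mk (c k), (Submodule.Quotient.eq _).2 ?_⟩
      rw [LinearMap.mulLeft_apply, ← hc, ← Finset.sum_erase_add _ _ (Finset.mem_univ k), mul_comm,
        sub_add_cancel_right]
      exact neg_mem (Submodule.sum_mem _ fun i hi => Ideal.mul_mem_left _ _
        (Ideal.subset_span ⟨i, update_of_ne (Finset.ne_of_mem_erase hi) _ f⟩))
    · rintro ⟨x, hx⟩
      obtain ⟨x, rfl⟩ := Submodule.Quotient.mk_surjective _ x
      have h1 := span_update_mul_le f k g ((Submodule.Quotient.eq _).1 hx)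
      have h2 : f k * x ∈ I := Ideal.mul_mem_right _ _ (Ideal.subset_span ⟨k, rfl⟩)
      simpa using Ideal.sub_mem _ h2 h1
  rw [Module.length_eq_add_of_exact φ ψ hφ hψ hex, add_comm]

theorem independent_map_of_flat {B : Type u} [CommRing B] [Algebra A B] [Module.Flat A B]
    (f : Fin r → A) (hf : Dual2.Independent f) :
    Dual2.Independent (fun i => algebraMap A B (f i)) := by
  intro b hb i
  have h0 : ∑ j, f j • b j = 0 := by
    rw [← hb]
    exact Finset.sum_congr rfl fun j _ => by rw [Algebra.smul_def, mul_comm]
  obtain ⟨m, a, y, hy, ha⟩ := Module.Flat.isTrivialRelation_of_sum_smul_eq_zero h0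
  rw [hy i]
  refine Submodule.sum_mem _ fun j _ => ?_
  rw [Algebra.smul_def]
  refine Ideal.mul_mem_right _ _ ?_
  have hrel : ∑ l, a l j * f l = 0 := by
    rw [← ha j]
    exact Finset.sum_congr rfl fun l _ => mul_comm _ _
  have := Ideal.mem_map_of_mem (algebraMap A B) (hf (fun l => a l j) hrel i)
  rwa [Ideal.map_span, ← Set.range_comp] at this

theorem length_powers [IsLocalRing A] (x : Fin r → A)
    (hx : Ideal.span (Set.range x) = IsLocalRing.maximalIdeal A) :
    ∀ (s : ℕ) (e : Fin r → ℕ), ∑ i, e i = s → (∀ i, 0 < e i) →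
      Dual2.Independent (fun i => x i ^ e i) →
      Module.length A (A ⧸ Ideal.span (Set.range fun i => x i ^ e i)) = ∏ i, (e i : ℕ∞) := by
  intro s
  induction s using Nat.strong_induction_on with
  | h s ih =>
    intro e hs he hind
    by_cases hone : ∀ i, e i = 1
    · have h1 : (fun i => x i ^ e i) = x := funext fun i => by rw [hone i, pow_one]
      rw [h1, hx, Finset.prod_eq_one fun i _ => by simp [hone i]]
      rw [Module.length_eq_one_iff]
      exact isSimpleModule_iff_isCoatom.2
        (Ideal.isMaximal_def.1 (IsLocalRing.maximalIdeal.isMaximal A))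
    push Not at hone
    obtain ⟨k, hk⟩ := hone
    obtain ⟨e', he'⟩ : ∃ e', e k = e' + 1 + 1 := ⟨e k - 2, by have := he k; omega⟩
    let e₁ := update e k (e' + 1)
    let e₂ := update e k 1
    have hf : ∀ (d : ℕ), (fun i => x i ^ update e k d i) =
        update (fun i => x i ^ e i) k (x k ^ d) := fun d => funext fun i => by
      rcases eq_or_ne i k with rfl | hi
      · simp
      · simp [update_of_ne hi]
    let f₁ : Fin r → A := fun i => x i ^ e₁ i
    let f₂ : Fin r → A := fun i => x i ^ e₂ i
    have hmul₁ : update f₁ k (f₁ k * x k) = fun i => x i ^ e i := funext fun i => by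
      rcases eq_or_ne i k with rfl | hi
      · simp [f₁, e₁, he', pow_succ]
      · simp [f₁, e₁, update_of_ne hi]
    have hmul₂ : update f₂ k (f₂ k * x k ^ (e' + 1)) = fun i => x i ^ e i := funext fun i => by
      rcases eq_or_ne i k with rfl | hi
      · simp [f₂, e₂, he', pow_succ']
      · simp [f₂, e₂, update_of_ne hi]
    have hg : update f₁ k (x k) = f₂ := funext fun i => by
      rcases eq_or_ne i k with rfl | hi
      · simp [f₂, e₂]
      · simp [f₁, e₁, f₂, e₂, update_of_ne hi]
    have hlen := length_update_mul f₁ k (x k) (hmul₁ ▸ hind)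
    rw [hmul₁, hg] at hlen
    have hsum : ∀ d, ∑ i, update e k d i + e k = ∑ i, e i + d := fun d => by
      rw [← Finset.sum_erase_add _ _ (Finset.mem_univ k),
        ← Finset.sum_erase_add _ (fun i => e i) (Finset.mem_univ k), update_self,
        Finset.sum_congr rfl fun i hi => update_of_ne (Finset.ne_of_mem_erase hi) d e]
      show _ + d + e k = _ + e k + d
      exact add_right_comm _ _ _
    have hpos : ∀ d, 0 < d → ∀ i, 0 < update e k d i := fun d hd i => by
      rcases eq_or_ne i k with rfl | hi
      · simpa using hd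
      · simpa [update_of_ne hi] using he i
    rw [hlen, ih (∑ i, e₁ i) (by have := hsum (e' + 1); show ∑ i, update e k (e' + 1) i < s; omega)
        e₁ rfl (hpos _ (Nat.succ_pos _)) (independent_of_update_mul f₁ k (x k) (hmul₁ ▸ hind)),
      ih (∑ i, e₂ i) (by have := hsum 1; show ∑ i, update e k 1 i < s; omega)
        e₂ rfl (hpos _ one_pos) (independent_of_update_mul f₂ k _ (hmul₂ ▸ hind))]
    have hprod : ∀ d : ℕ, ∏ i, (update e k d i : ℕ∞) = d * ∏ i ∈ Finset.univ.erase k, (e i : ℕ∞) := by
      intro d
      rw [← Finset.mul_prod_erase _ _ (Finset.mem_univ k), update_self,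
        Finset.prod_congr rfl fun i hi => by rw [update_of_ne (Finset.ne_of_mem_erase hi)]]
    rw [hprod, hprod, ← add_mul, ← Finset.mul_prod_erase _ _ (Finset.mem_univ k), he']
    push_cast
    rfl

end Groth.Agent.Lib.LocalCoh.Independent
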